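import Cfsg.Prelude.Def_Balance
import Cfsg.Agent.Lib.Core.Coprime
import Cfsg.Agent.Lib.LocalEven.Generation
import Cfsg.Agent.Lib.Components.Subnormal

/-!
Owner: helper11. Basic theory of solvable signalizer functors: the family, generation by
fixed points, products, the intersection subgroups.
-/

set_option autoImplicit false

namespace CfsgLib.Signalizer

open Subgroup

variable {G : Type*} [Group G] [Finite G] {p : ℕ} [hp : Fact p.Prime]

theorem elementary_isPGroup {A : Subgroup G} (hA : Cfsg.IsElementaryAbelian p A) : IsPGroup p A :=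
  fun a => ⟨1, Subtype.ext (by simpa using hA.2 _ a.2)⟩

theorem elementary_of_le {A B : Subgroup G} (hA : Cfsg.IsElementaryAbelian p A) (hBA : B ≤ A) :
    Cfsg.IsElementaryAbelian p B :=
  ⟨⟨⟨fun a b => Subtype.ext (congrArg (Subtype.val : A → G)
    (hA.1.is_comm.comm ⟨a.1, hBA a.2⟩ ⟨b.1, hBA b.2⟩))⟩⟩, fun a ha => hA.2 a (hBA ha)⟩

theorem elementary_comm {A : Subgroup G} (hA : Cfsg.IsElementaryAbelian p A) {a b : G}
    (ha : a ∈ A) (hb : b ∈ A) : a * b = b * a :=
  congrArg Subtype.val (hA.1.is_comm.comm ⟨a, ha⟩ ⟨b, hb⟩)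

theorem elementary_le_centralizer {A : Subgroup G} (hA : Cfsg.IsElementaryAbelian p A)
    {a : G} (ha : a ∈ A) : A ≤ centralizer ({a} : Set G) :=
  fun _ hb => mem_centralizer_singleton_iff.mpr (elementary_comm hA hb ha)

theorem elementary_orderOf {A : Subgroup G} (hA : Cfsg.IsElementaryAbelian p A) {a : G}
    (ha : a ∈ A) (h1 : a ≠ 1) : orderOf a = p :=
  orderOf_eq_prime (hA.2 a ha) h1

theorem coprime_card_of_pGroup {A K : Subgroup G} (hA : IsPGroup p A) (hK : ¬ p ∣ Nat.card K) :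
    (Nat.card A).Coprime (Nat.card K) := by
  obtain ⟨k, hk⟩ := hA.exists_card_eq
  rw [hk]
  exact Nat.Coprime.pow_left _ (hp.out.coprime_iff_not_dvd.mpr hK)

theorem not_dvd_of_le {U V : Subgroup G} (hV : ¬ p ∣ Nat.card V) (h : U ≤ V) :
    ¬ p ∣ Nat.card U :=
  fun hd => hV (hd.trans (card_dvd_of_le h))

theorem not_dvd_sup {X Y : Subgroup G} (hYX : Y ≤ normalizer (X : Set G))
    (hX : ¬ p ∣ Nat.card X) (hY : ¬ p ∣ Nat.card Y) : ¬ p ∣ Nat.card ↥(X ⊔ Y) := fun hd =>
  (hp.out.dvd_mul.mp (hd.trans (Components.card_sup_dvd_mul hYX))).elim hX hY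

theorem conj_mem_iff_le_normalizer {A U : Subgroup G} :
    (∀ b ∈ A, ∀ u ∈ U, b * u * b⁻¹ ∈ U) ↔ A ≤ normalizer (U : Set G) :=
  le_normalizer_iff.symm

theorem le_normalizer_inf {A U V : Subgroup G} (hU : A ≤ normalizer (U : Set G))
    (hV : A ≤ normalizer (V : Set G)) : A ≤ normalizer ((U ⊓ V : Subgroup G) : Set G) :=
  (le_inf hU hV).trans inf_normalizer_le_normalizer_inf

theorem le_normalizer_centralizer_of_le {A : Subgroup G} (hA : Cfsg.IsElementaryAbelian p A)
    {S : Set G} (hS : S ⊆ A) : A ≤ normalizer (centralizer S : Set G) := by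
  refine le_trans ?_ le_normalizer
  intro a ha
  exact mem_centralizer_iff.mpr fun s hs => elementary_comm hA (hS hs) ha

theorem normalizer_le_normalizer_centralizer_set (P : Subgroup G) :
    normalizer (P : Set G) ≤ normalizer (centralizer (P : Set G) : Set G) := by
  intro g hg
  rw [mem_normalizer_iff]
  intro x
  have key : ∀ g ∈ normalizer (P : Set G), ∀ x ∈ centralizer (P : Set G),
      g * x * g⁻¹ ∈ centralizer (P : Set G) := by
    intro g hg x hx
    rw [mem_centralizer_iff] at hx ⊢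
    intro y hy
    have h1 := hx _ ((mem_normalizer_iff''.mp hg y).mp hy)
    calc y * (g * x * g⁻¹) = g * ((g⁻¹ * y * g) * x) * g⁻¹ := by group
      _ = g * (x * (g⁻¹ * y * g)) * g⁻¹ := by rw [h1]
      _ = g * x * g⁻¹ * y := by group
  exact ⟨key g hg x, fun h => by simpa [mul_assoc] using key g⁻¹ (inv_mem hg) _ h⟩

/-- A subgroup of order `p ^ 2` disjoint from `C`, whenever `C` has index more than `p`. -/
theorem exists_disjoint_sq {A C : Subgroup G} (hA : Cfsg.IsElementaryAbelian p A) (hCA : C ≤ A)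
    (hidx : p < C.relIndex A) : ∃ E : Subgroup G, E ≤ A ∧ p ^ 2 ≤ Nat.card E ∧ E ⊓ C = ⊥ := by
  obtain ⟨a, haA, haC⟩ : ∃ a ∈ A, a ∉ C := by
    by_contra hcon
    push Not at hcon
    rw [relIndex_eq_one.mpr hcon] at hidx
    exact absurd hp.out.one_lt (by omega)
  have ha1 : a ≠ 1 := fun e => haC (e ▸ one_mem C)
  have hnormC : ∀ H : Subgroup G, H ≤ A → A ≤ normalizer (H : Set G) := fun H hH => by
    refine le_trans ?_ (centralizer_le_normalizer _)
    intro b hb
    exact mem_centralizer_iff.mpr fun h hh => elementary_comm hA (hH hh) hb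
  have hza : zpowers a ≤ A := zpowers_le.mpr haA
  have hd : C ⊓ zpowers a = ⊥ := by
    rcases (Nat.dvd_prime hp.out).mp (show Nat.card ↥(C ⊓ zpowers a) ∣ p from
      (elementary_orderOf hA haA ha1) ▸ (Nat.card_zpowers a) ▸ card_dvd_of_le inf_le_right) with h | h
    · exact card_eq_one.mp h
    · exfalso
      have h2 := eq_of_le_of_card_ge (inf_le_right : C ⊓ zpowers a ≤ zpowers a)
        (by rw [Nat.card_zpowers, elementary_orderOf hA haA ha1, h])
      exact haC (mem_inf.mp (h2.ge (mem_zpowers a))).1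
  have hC1 : C ⊔ zpowers a ≤ A := sup_le hCA hza
  have hcard1 : Nat.card ↥(C ⊔ zpowers a) = Nat.card C * p := by
    have h := Core.card_sup_mul_card_inf C (zpowers a) (hCA.trans (hnormC _ hza))
    rw [hd, card_bot, mul_one, Nat.card_zpowers, elementary_orderOf hA haA ha1] at h
    exact h
  obtain ⟨b, hbA, hbC⟩ : ∃ b ∈ A, b ∉ C ⊔ zpowers a := by
    by_contra hcon
    push Not at hcon
    have heq : C ⊔ zpowers a = A := le_antisymm hC1 hcon
    rw [heq, ← relIndex_bot_left A, ← relIndex_bot_left C,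
      ← relIndex_mul_relIndex ⊥ C A bot_le hCA] at hcard1
    exact hidx.ne' (Nat.eq_of_mul_eq_mul_left (by rw [relIndex_bot_left]; exact Nat.card_pos) hcard1)
  have hb1 : b ≠ 1 := fun e => hbC (e ▸ one_mem _)
  have hzb : zpowers b ≤ A := zpowers_le.mpr hbA
  refine ⟨zpowers a ⊔ zpowers b, sup_le hza hzb, ?_, ?_⟩
  · have h := Core.card_sup_mul_card_inf (zpowers a) (zpowers b) (hza.trans (hnormC _ hzb))
    have hd2 : zpowers a ⊓ zpowers b = ⊥ := by
      rcases (Nat.dvd_prime hp.out).mp (show Nat.card ↥(zpowers a ⊓ zpowers b) ∣ p from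
        (elementary_orderOf hA hbA hb1) ▸ (Nat.card_zpowers b) ▸ card_dvd_of_le inf_le_right)
        with h' | h'
      · exact card_eq_one.mp h'
      · exfalso
        have h2 := eq_of_le_of_card_ge (inf_le_right : zpowers a ⊓ zpowers b ≤ zpowers b)
          (by rw [Nat.card_zpowers, elementary_orderOf hA hbA hb1, h'])
        exact hbC (mem_sup_right (mem_inf.mp (h2.ge (mem_zpowers b))).1)
    rw [hd2, card_bot, mul_one, Nat.card_zpowers, Nat.card_zpowers, elementary_orderOf hA haA ha1,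
      elementary_orderOf hA hbA hb1] at h
    rw [h, sq]
  · rw [eq_bot_iff]
    intro x hx
    obtain ⟨hxE, hxC⟩ := mem_inf.mp hx
    rw [Core.mem_sup_iff_mul (hza.trans (hnormC _ hzb))] at hxE
    obtain ⟨u, hu, v, hv, rfl⟩ := hxE
    have hv' : v ∈ C ⊔ zpowers a := by
      have e : v = u⁻¹ * (u * v) := by group
      rw [e]
      exact mul_mem (mem_sup_right (inv_mem hu)) (mem_sup_left hxC)
    have hv1 : v = 1 := by
      by_contra hv1
      apply hbC
      have : zpowers v = zpowers b := eq_of_le_of_card_ge (zpowers_le.mpr hv) (by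
        rw [Nat.card_zpowers, Nat.card_zpowers, elementary_orderOf hA hbA hb1,
          elementary_orderOf hA (hzb hv) hv1])
      exact (zpowers_le.mpr hv') (this.ge (mem_zpowers b))
    rw [hv1, mul_one] at hxC ⊢
    exact hd.le ⟨hxC, hu⟩

/-- Generation by fixed points of the subgroups of index at most `p`. -/
theorem le_of_hyperplanes_le {A X Y : Subgroup G} (hA : Cfsg.IsElementaryAbelian p A)
    (hX : ¬ p ∣ Nat.card X) (hAX : A ≤ normalizer (X : Set G))
    (h : ∀ B : Subgroup G, B ≤ A → B.relIndex A ≤ p → X ⊓ centralizer (B : Set G) ≤ Y) : X ≤ Y := by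
  suffices key : ∀ n : ℕ, ∀ C : Subgroup G, C ≤ A → C.relIndex A ≤ n →
      X ⊓ centralizer (C : Set G) ≤ Y by
    have := key _ ⊥ bot_le le_rfl
    refine le_trans (le_inf le_rfl ?_) this
    intro x _
    exact mem_centralizer_iff.mpr fun y hy => by rw [mem_bot.mp hy, one_mul, mul_one]
  intro n
  induction n using Nat.strong_induction_on with
  | _ n ih =>
    intro C hCA hC
    by_cases hle : C.relIndex A ≤ p
    · exact h C hCA hle
    obtain ⟨E, hEA, hE, hEC⟩ := exists_disjoint_sq hA hCA (not_le.mp hle)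
    haveI := (elementary_of_le hA hEA).1
    refine LocalEven.le_of_centralizers_le (elementary_of_le hA hEA).2 hE
      (hEA.trans (le_normalizer_inf hAX (le_normalizer_centralizer_of_le hA hCA)))
      (not_dvd_of_le hX inf_le_left) fun e he he1 => ?_
    have hlt : C < C ⊔ zpowers e := by
      rw [lt_iff_le_not_ge]
      refine ⟨le_sup_left, fun hle' => he1 ?_⟩
      exact mem_bot.mp (hEC.le ⟨he, hle' (mem_sup_right (mem_zpowers e))⟩)
    have hC'A : C ⊔ zpowers e ≤ A := sup_le hCA (zpowers_le.mpr (hEA he))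
    have hidx : (C ⊔ zpowers e).relIndex A < C.relIndex A := by
      rw [← relIndex_mul_relIndex C (C ⊔ zpowers e) A le_sup_left hC'A]
      have h2 : C.relIndex (C ⊔ zpowers e) ≠ 1 := fun e1 => hlt.not_ge (relIndex_eq_one.mp e1)
      have h3 : C.relIndex (C ⊔ zpowers e) ≠ 0 := index_ne_zero_of_finite
      have h4 : 0 < (C ⊔ zpowers e).relIndex A := Nat.pos_of_ne_zero index_ne_zero_of_finite
      exact lt_mul_left h4 (by omega)
    refine le_trans (le_inf (inf_le_left.trans inf_le_left) ?_)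
      (ih _ (lt_of_lt_of_le hidx hC) _ hC'A le_rfl)
    intro x hx
    obtain ⟨⟨-, hxC⟩, hxe⟩ := hx
    rw [mem_centralizer_iff]
    intro y hy
    have hle2 : C ⊔ zpowers e ≤ centralizer ({x} : Set G) := by
      refine sup_le (fun c hc => ?_) (zpowers_le.mpr ?_)
      · exact mem_centralizer_singleton_iff.mpr (mem_centralizer_iff.mp hxC c hc)
      · exact mem_centralizer_singleton_iff.mpr (mem_centralizer_singleton_iff.mp hxe).symm
    exact mem_centralizer_singleton_iff.mp (hle2 hy)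

/-! ### The family -/

variable {A : Subgroup G} {θ : G → Subgroup G}

theorem mem_family_iff {U : Subgroup G} :
    U ∈ Cfsg.signalizerFamily p A θ ↔ Group.IsSolvable U ∧ ¬ p ∣ Nat.card U ∧
      A ≤ normalizer (U : Set G) ∧ ∀ a ∈ A, a ≠ 1 → U ⊓ centralizer {a} ≤ θ a := by
  rw [← conj_mem_iff_le_normalizer]
  rfl

theorem theta_le_normalizer (hθ : Cfsg.IsSignalizerFunctor p A θ) {a : G} (ha : a ∈ A)
    (ha1 : a ≠ 1) : A ≤ normalizer (θ a : Set G) :=
  conj_mem_iff_le_normalizer.mp (hθ.2.2.1 a ha ha1)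

theorem theta_mem_family (hθ : Cfsg.IsSolvableSignalizerFunctor p A θ) {a : G} (ha : a ∈ A)
    (ha1 : a ≠ 1) : θ a ∈ Cfsg.signalizerFamily p A θ :=
  ⟨hθ.2 a ha ha1, hθ.1.2.1 a ha ha1, hθ.1.2.2.1 a ha ha1, fun b hb hb1 =>
    hθ.1.2.2.2 a ha ha1 b hb hb1⟩

theorem family_of_le {U V : Subgroup G} (hU : U ∈ Cfsg.signalizerFamily p A θ) (hV : V ≤ U)
    (hAV : A ≤ normalizer (V : Set G)) : V ∈ Cfsg.signalizerFamily p A θ := by
  rw [mem_family_iff] at hU ⊢
  exact ⟨Core.isSolvable_of_le hU.1 hV, not_dvd_of_le hU.2.1 hV, hAV,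
    fun a ha ha1 => (inf_le_inf_right _ hV).trans (hU.2.2.2 a ha ha1)⟩

theorem family_inf_theta (hθ : Cfsg.IsSignalizerFunctor p A θ) {U : Subgroup G}
    (hU : U ∈ Cfsg.signalizerFamily p A θ) {a : G} (ha : a ∈ A) (ha1 : a ≠ 1) :
    U ⊓ θ a = U ⊓ centralizer {a} :=
  le_antisymm (inf_le_inf_left _ (hθ.1 a ha ha1))
    (le_inf inf_le_left (hU.2.2.2 a ha ha1))

theorem family_bot : (⊥ : Subgroup G) ∈ Cfsg.signalizerFamily p A θ := by
  refine ⟨inferInstance, ?_, ?_, fun a _ _ => by rw [bot_inf_eq]; exact bot_le⟩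
  · rw [card_bot]; exact hp.out.not_dvd_one
  · intro b _ u hu
    rw [mem_bot.mp hu]; simp

theorem family_sup (hA : Cfsg.IsElementaryAbelian p A) {X Y : Subgroup G}
    (hX : X ∈ Cfsg.signalizerFamily p A θ) (hY : Y ∈ Cfsg.signalizerFamily p A θ)
    (hn : Y ≤ normalizer (X : Set G)) : X ⊔ Y ∈ Cfsg.signalizerFamily p A θ := by
  rw [mem_family_iff] at hX hY ⊢
  have hXY := not_dvd_sup hn hX.2.1 hY.2.1
  have hAXY : A ≤ normalizer ((X ⊔ Y : Subgroup G) : Set G) :=
    (le_inf hX.2.2.1 hY.2.2.1).trans (normalizer_inf_normalizer_le_normalizer_sup X Y)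
  refine ⟨Components.isSolvable_sup hn hX.1 hY.1, hXY, hAXY, fun a ha ha1 => ?_⟩
  rintro z ⟨hz, hza⟩
  obtain ⟨x, hx, y, hy, rfl⟩ := (Core.mem_sup_iff_mul' hn).mp (by rwa [sup_comm] at hz)
  have hza' : zpowers a ≤ A := zpowers_le.mpr ha
  have hc : x * y ∈ centralizer (zpowers a : Set G) := by
    rw [mem_centralizer_iff]
    intro b hb
    obtain ⟨k, rfl⟩ := mem_zpowers_iff.mp hb
    exact (Commute.zpow_left (mem_centralizer_singleton_iff.mp hza).symm k)
  obtain ⟨x', hx', y', hy', he⟩ := Core.centralizer_mul (A := zpowers a) (K := X ⊔ Y)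
    (hza'.trans hAXY)
    (coprime_card_of_pGroup ((elementary_isPGroup hA).to_le hza') hXY)
    (Or.inl inferInstance) le_sup_left le_sup_right (hza'.trans hX.2.2.1) (hza'.trans hY.2.2.1)
    hx hy hc
  have hc' : ∀ {u : G}, u ∈ centralizer (zpowers a : Set G) → u ∈ centralizer ({a} : Set G) :=
    fun hu => centralizer_le (Set.singleton_subset_iff.mpr (mem_zpowers a)) hu
  rw [he]
  exact mul_mem (hX.2.2.2 a ha ha1 ⟨hx'.1, hc' hx'.2⟩) (hY.2.2.2 a ha ha1 ⟨hy'.1, hc' hy'.2⟩)

omit [Finite G] in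
theorem mem_inf_iff {B : Subgroup G} {x : G} :
    x ∈ Cfsg.signalizerInf B θ ↔ ∀ b ∈ B, b ≠ 1 → x ∈ θ b := by
  simp only [Cfsg.signalizerInf, mem_iInf, Subtype.forall, and_imp]

theorem inf_le_theta {B : Subgroup G} {b : G} (hb : b ∈ B) (hb1 : b ≠ 1) :
    Cfsg.signalizerInf B θ ≤ θ b := fun _ hx => mem_inf_iff.mp hx b hb hb1

theorem inf_mem_family (hθ : Cfsg.IsSolvableSignalizerFunctor p A θ) {B : Subgroup G}
    (hB : B ≤ A) (hne : B ≠ ⊥) : Cfsg.signalizerInf B θ ∈ Cfsg.signalizerFamily p A θ := by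
  obtain ⟨⟨b, hb⟩, hb0⟩ := B.ne_bot_iff_exists_ne_one.mp hne
  have hb1 : b ≠ 1 := fun e => hb0 (Subtype.ext e)
  refine family_of_le (theta_mem_family hθ (hB hb) hb1) (inf_le_theta hb hb1) ?_
  rw [le_normalizer_iff]
  intro a ha x hx
  exact mem_inf_iff.mpr fun c hc hc1 =>
    hθ.1.2.2.1 c (hB hc) hc1 a ha x (mem_inf_iff.mp hx c hc hc1)

omit hp in
theorem inf_le_centralizer (hθ : Cfsg.IsSignalizerFunctor p A θ) {B : Subgroup G} (hB : B ≤ A) :
    Cfsg.signalizerInf B θ ≤ centralizer (B : Set G) := by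
  intro x hx
  rw [mem_centralizer_iff]
  intro b hb
  rcases eq_or_ne b 1 with rfl | hb1
  · rw [one_mul, mul_one]
  · exact (mem_centralizer_singleton_iff.mp
      (hθ.1 b (hB hb) hb1 (mem_inf_iff.mp hx b hb hb1))).symm

theorem family_inf_centralizer_eq (hθ : Cfsg.IsSignalizerFunctor p A θ) {U : Subgroup G}
    (hU : U ∈ Cfsg.signalizerFamily p A θ) {B : Subgroup G} (hB : B ≤ A) :
    U ⊓ centralizer (B : Set G) = U ⊓ Cfsg.signalizerInf B θ := by
  refine le_antisymm (le_inf inf_le_left ?_) (inf_le_inf_left _ (inf_le_centralizer hθ hB))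
  intro x hx
  exact mem_inf_iff.mpr fun b hb hb1 =>
    hU.2.2.2 b (hB hb) hb1 ⟨hx.1, centralizer_le (Set.singleton_subset_iff.mpr hb) hx.2⟩

theorem exists_ne_one_of_sq_le {B : Subgroup G} (h : p ^ 2 ≤ Nat.card B) :
    ∃ b ∈ B, b ≠ 1 := by
  haveI : Nontrivial B := Finite.one_lt_card_iff_nontrivial.mp
    (lt_of_lt_of_le (Nat.one_lt_pow (by norm_num) hp.out.one_lt) h)
  obtain ⟨x, hx⟩ := exists_ne (1 : B)
  exact ⟨x, x.2, fun e => hx (Subtype.ext e)⟩

end CfsgLib.Signalizer
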