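import Mathlib

/-!
Owner: helper11. Basic facts on involutions: pairs of involutions, inverting elements,
the isolated involution trick.
-/

set_option autoImplicit false

namespace CfsgLib.Signalizer

open Subgroup

variable {G : Type*} [Group G]

theorem involution_sq {x : G} (hx : orderOf x = 2) : x * x = 1 := by
  have h := pow_orderOf_eq_one x
  rwa [hx, sq] at h

theorem involution_inv {x : G} (hx : orderOf x = 2) : x⁻¹ = x :=
  inv_eq_of_mul_eq_one_left (involution_sq hx)

theorem involution_ne_one {x : G} (hx : orderOf x = 2) : x ≠ 1 := by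
  intro h; simp [h] at hx

theorem orderOf_eq_two_of {x : G} (h1 : x ≠ 1) (h2 : x * x = 1) : orderOf x = 2 :=
  orderOf_eq_prime (by rw [sq, h2]) h1

theorem orderOf_conj (g x : G) : orderOf (g * x * g⁻¹) = orderOf x := by
  simpa using (MulAut.conj g).orderOf_eq x

/-- `t` inverts `x` implies `t` inverts every power of `x`. -/
theorem conj_zpow_of_inverts {t x : G} (h : t * x * t⁻¹ = x⁻¹) (k : ℤ) :
    t * x ^ k * t⁻¹ = x ^ (-k) := by
  rw [← conj_zpow, h, inv_zpow, zpow_neg]

section Pair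

variable {x y : G}

theorem conj_mul_eq_inv (hx : orderOf x = 2) (hy : orderOf y = 2) :
    x * (x * y) * x⁻¹ = (x * y)⁻¹ := by
  rw [mul_inv_rev, involution_inv hx, involution_inv hy]
  simp [← mul_assoc, involution_sq hx]

theorem mul_pair_zpow (hx : orderOf x = 2) (hy : orderOf y = 2) (k : ℤ) :
    x * (x * y) ^ k = (x * y) ^ (-k) * x := by
  have h := conj_zpow_of_inverts (conj_mul_eq_inv hx hy) k
  rw [mul_inv_eq_iff_eq_mul] at h
  exact h

theorem mem_closure_pair_iff (hx : orderOf x = 2) (hy : orderOf y = 2) {d : G} :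
    d ∈ closure ({x, y} : Set G) ↔ ∃ k : ℤ, d = (x * y) ^ k ∨ d = (x * y) ^ k * x := by
  constructor
  · intro hd
    induction hd using closure_induction with
    | mem z hz =>
      rcases hz with rfl | rfl
      · exact ⟨0, Or.inr (by simp)⟩
      · refine ⟨-1, Or.inr ?_⟩
        rw [zpow_neg_one, mul_inv_rev, involution_inv hx, mul_assoc, involution_sq hx, mul_one,
          involution_inv hy]
    | one => exact ⟨0, Or.inl (by simp)⟩
    | mul a b _ _ iha ihb =>
      obtain ⟨j, rfl | rfl⟩ := iha <;> obtain ⟨k, rfl | rfl⟩ := ihb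
      · exact ⟨j + k, Or.inl (by rw [zpow_add])⟩
      · exact ⟨j + k, Or.inr (by rw [zpow_add, mul_assoc])⟩
      · refine ⟨j - k, Or.inr ?_⟩
        rw [mul_assoc, mul_pair_zpow hx hy, ← mul_assoc, ← zpow_add, sub_eq_add_neg]
      · refine ⟨j - k, Or.inl ?_⟩
        rw [mul_assoc, ← mul_assoc x, mul_pair_zpow hx hy, mul_assoc, involution_sq hx, mul_one,
          ← zpow_add, sub_eq_add_neg]
    | inv a _ iha =>
      obtain ⟨k, rfl | rfl⟩ := iha
      · exact ⟨-k, Or.inl (by rw [zpow_neg])⟩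
      · refine ⟨k, Or.inr ?_⟩
        rw [mul_inv_rev, involution_inv hx, ← zpow_neg, mul_pair_zpow hx hy, neg_neg]
  · have hx' : x ∈ closure ({x, y} : Set G) := subset_closure (by simp)
    have hy' : y ∈ closure ({x, y} : Set G) := subset_closure (by simp)
    have hc := mul_mem hx' hy'
    rintro ⟨k, rfl | rfl⟩
    · exact zpow_mem hc k
    · exact mul_mem (zpow_mem hc k) hx'

theorem left_not_mem_zpowers (hx : orderOf x = 2) (hy : orderOf y = 2) :
    x ∉ zpowers (x * y) := by
  intro h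
  obtain ⟨k, hk⟩ := mem_zpowers_iff.mp h
  have hc : x * (x * y) * x⁻¹ = x * y := by
    have : Commute ((x * y) ^ k) (x * y) := (Commute.refl (x * y)).zpow_left k
    rw [hk] at this
    rw [this.eq, mul_inv_cancel_right]
  rw [conj_mul_eq_inv hx hy] at hc
  have h2 : (x * y) ^ (2 : ℤ) = 1 := by
    rw [zpow_two]; nth_rewrite 1 [← hc]; exact inv_mul_cancel _
  rcases Int.even_or_odd k with ⟨m, hm⟩ | ⟨m, hm⟩
  · rw [hm, ← two_mul, zpow_mul, h2, one_zpow] at hk
    exact involution_ne_one hx hk.symm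
  · rw [hm, zpow_add, zpow_mul, h2, one_zpow, one_mul, zpow_one] at hk
    exact involution_ne_one hy (mul_eq_left.mp hk)

/-- The map of the abstract dihedral group onto the group generated by two involutions. -/
theorem exists_dihedral_hom (hx : orderOf x = 2) (hy : orderOf y = 2) :
    ∃ f : DihedralGroup (orderOf (x * y)) →* G, Function.Injective f ∧
      f.range = closure ({x, y} : Set G) := by
  classical
  set c := x * y with hc
  set n := orderOf c with hn
  have hpow : ∀ a b : ℤ, (a : ZMod n) = b → c ^ a = c ^ b := by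
    intro a b hab
    rw [ZMod.intCast_eq_intCast_iff] at hab
    exact zpow_eq_zpow_iff_modEq.mpr hab
  have hpow' : ∀ a b : ℤ, c ^ a = c ^ b → (a : ZMod n) = b := by
    intro a b hab
    rw [ZMod.intCast_eq_intCast_iff]
    exact zpow_eq_zpow_iff_modEq.mp hab
  let φ : DihedralGroup n → G := fun d => match d with
    | .r i => c ^ (i.cast : ℤ)
    | .sr i => x * c ^ (i.cast : ℤ)
  have hcast : ∀ i : ZMod n, ((i.cast : ℤ) : ZMod n) = i := ZMod.intCast_zmod_cast
  have hmul : ∀ a b, φ (a * b) = φ a * φ b := by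
    rintro (i | i) (j | j)
    · show c ^ _ = c ^ _ * c ^ _
      rw [← zpow_add]; apply hpow; simp
    · show x * c ^ _ = c ^ _ * (x * c ^ _)
      rw [← mul_assoc, show c ^ (i.cast : ℤ) * x = x * c ^ (-(i.cast : ℤ)) by
        rw [hc, mul_pair_zpow hx hy, neg_neg], mul_assoc, ← zpow_add]
      congr 1; apply hpow; simp [sub_eq_neg_add]
    · show x * c ^ _ = x * c ^ _ * c ^ _
      rw [mul_assoc, ← zpow_add]; congr 1; apply hpow; simp
    · show c ^ _ = x * c ^ _ * (x * c ^ _)
      rw [hc, mul_pair_zpow hx hy, mul_assoc, ← mul_assoc x x, involution_sq hx, one_mul,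
        ← zpow_add]
      apply hpow; simp [sub_eq_neg_add]
  refine ⟨MonoidHom.mk' φ hmul, ?_, ?_⟩
  · rw [injective_iff_map_eq_one]
    rintro (i | i) hd
    · have h0 : c ^ (i.cast : ℤ) = c ^ (0 : ℤ) := by rw [zpow_zero]; exact hd
      have := hpow' _ _ h0
      rw [hcast, Int.cast_zero] at this
      rw [this, DihedralGroup.r_zero]
    · exfalso
      have h0 : x * c ^ (i.cast : ℤ) = 1 := hd
      apply left_not_mem_zpowers hx hy
      have h1 := inv_mem (zpow_mem (mem_zpowers c) (i.cast : ℤ))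
      rwa [← eq_inv_of_mul_eq_one_left h0] at h1
  · ext d
    rw [mem_closure_pair_iff hx hy]
    constructor
    · rintro ⟨i | i, rfl⟩
      · exact ⟨_, Or.inl rfl⟩
      · exact ⟨-(i.cast : ℤ), Or.inr (mul_pair_zpow hx hy _)⟩
    · rintro ⟨k, rfl | rfl⟩
      · exact ⟨.r (k : ZMod n), hpow _ _ (hcast _)⟩
      · refine ⟨.sr ((-k : ℤ) : ZMod n), ?_⟩
        show x * c ^ (((-k : ℤ) : ZMod n).cast : ℤ) = _
        rw [hpow _ _ (hcast _), hc, mul_pair_zpow hx hy, neg_neg]

theorem conj_left_cases (hx : orderOf x = 2) (hy : orderOf y = 2) {d : G}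
    (hd : d ∈ closure ({x, y} : Set G)) : ∃ j : ℤ, d * x * d⁻¹ = (x * y) ^ (2 * j) * x := by
  obtain ⟨k, rfl | rfl⟩ := (mem_closure_pair_iff hx hy).mp hd
  · refine ⟨k, ?_⟩
    rw [← zpow_neg, mul_assoc, mul_pair_zpow hx hy, neg_neg, ← mul_assoc, ← zpow_add, two_mul]
  · refine ⟨k, ?_⟩
    rw [mul_inv_rev, involution_inv hx, ← zpow_neg]
    simp only [mul_assoc]
    rw [← mul_assoc x x, involution_sq hx, one_mul, mul_pair_zpow hx hy, neg_neg, ← mul_assoc,
      ← zpow_add, two_mul]

theorem right_eq (hx : orderOf x = 2) (hy : orderOf y = 2) : y = (x * y) ^ (-1 : ℤ) * x := by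
  rw [zpow_neg_one, mul_inv_rev, involution_inv hx, mul_assoc, involution_sq hx, mul_one,
    involution_inv hy]

theorem exists_conj_pair_zpow (hx : orderOf x = 2) (hy : orderOf y = 2) (j : ℤ) :
    ∃ d ∈ closure ({x, y} : Set G), d * x * d⁻¹ = (x * y) ^ (2 * j) * x := by
  refine ⟨(x * y) ^ j, (mem_closure_pair_iff hx hy).mpr ⟨j, Or.inl rfl⟩, ?_⟩
  rw [← zpow_neg, mul_assoc, mul_pair_zpow hx hy, neg_neg, ← mul_assoc, ← zpow_add, two_mul]

theorem exists_conj_of_odd (hx : orderOf x = 2) (hy : orderOf y = 2)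
    (hodd : Odd (orderOf (x * y))) : ∃ d ∈ closure ({x, y} : Set G), d * x * d⁻¹ = y := by
  obtain ⟨m, hm⟩ := hodd
  obtain ⟨d, hd, h⟩ := exists_conj_pair_zpow hx hy (m : ℤ)
  refine ⟨d, hd, h.trans ?_⟩
  conv_rhs => rw [right_eq hx hy]
  congr 1
  rw [zpow_eq_zpow_iff_modEq, Int.modEq_iff_dvd, hm]
  exact ⟨-1, by push_cast; ring⟩

theorem not_conj_of_even (hx : orderOf x = 2) (hy : orderOf y = 2)
    (heven : Even (orderOf (x * y))) {d : G} (hd : d ∈ closure ({x, y} : Set G)) :
    d * x * d⁻¹ ≠ y := by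
  intro h
  obtain ⟨j, hj⟩ := conj_left_cases hx hy hd
  rw [h] at hj
  have h2 := hj.symm.trans (right_eq hx hy)
  rw [mul_left_inj, zpow_eq_zpow_iff_modEq, Int.modEq_iff_dvd] at h2
  obtain ⟨m, hm⟩ := heven
  rw [hm] at h2
  have h3 : (2 : ℤ) ∣ -1 - 2 * j := dvd_trans ⟨m, by push_cast; ring⟩ h2
  omega

theorem central_involution [Finite G] (hx : orderOf x = 2) (hy : orderOf y = 2)
    (heven : Even (orderOf (x * y))) :
    orderOf ((x * y) ^ (orderOf (x * y) / 2)) = 2 ∧
      Commute ((x * y) ^ (orderOf (x * y) / 2)) x ∧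
      Commute ((x * y) ^ (orderOf (x * y) / 2)) y := by
  set c := x * y with hc
  obtain ⟨m, hm⟩ := heven
  have hdiv : orderOf c / 2 = m := by omega
  have hpos : 0 < orderOf c := orderOf_pos c
  rw [hdiv]
  have hord : orderOf (c ^ m) = 2 := by
    rw [orderOf_pow, hm]
    have : Nat.gcd (m + m) m = m := by simp
    rw [this, ← two_mul, Nat.mul_div_left 2 (by omega)]
  have hz : c ^ (-(m : ℤ)) = c ^ (m : ℤ) := by
    rw [zpow_eq_zpow_iff_modEq, Int.modEq_iff_dvd, hm]
    exact ⟨1, by push_cast; ring⟩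
  have hcx : Commute (c ^ m) x := by
    show _ = _
    have h := mul_pair_zpow hx hy (m : ℤ)
    rw [← hc, hz, zpow_natCast] at h
    exact h.symm
  refine ⟨hord, hcx, ?_⟩
  rw [show y = x⁻¹ * c by rw [hc, inv_mul_cancel_left]]
  exact hcx.inv_right.mul_right ((Commute.refl c).pow_left m)

theorem exists_central_involution_of_not_conj [Finite G] (hx : orderOf x = 2) (hy : orderOf y = 2)
    (h : ¬ IsConj x y) : ∃ z : G, orderOf z = 2 ∧ z * x = x * z ∧ z * y = y * z := by
  rcases Nat.even_or_odd (orderOf (x * y)) with he | ho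
  · obtain ⟨h1, h2, h3⟩ := central_involution hx hy he
    exact ⟨_, h1, h2.eq, h3.eq⟩
  · obtain ⟨d, -, hd⟩ := exists_conj_of_odd hx hy ho
    exact absurd (isConj_iff.mpr ⟨d, hd⟩) h

end Pair

section Inverting

/-- The elements inverting `x` form a coset of the centralizer. -/
theorem card_inverting (x : G) (hreal : IsConj x x⁻¹) :
    Nat.card {g : G // g * x * g⁻¹ = x⁻¹} = Nat.card (centralizer ({x} : Set G)) := by
  obtain ⟨g₀, hg₀⟩ := isConj_iff.mp hreal
  refine (Nat.card_congr ?_).symm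
  refine (Equiv.mulLeft g₀).subtypeEquiv fun c => ?_
  show c ∈ _ ↔ g₀ * c * x * (g₀ * c)⁻¹ = x⁻¹
  rw [mem_centralizer_singleton_iff, ← hg₀]
  simp only [mul_inv_rev, ← mul_assoc, mul_left_inj]
  constructor
  · intro h
    rw [mul_assoc g₀ c x, h, ← mul_assoc, mul_inv_cancel_right]
  · intro h
    rw [mul_inv_eq_iff_eq_mul, mul_assoc, mul_assoc, mul_right_inj] at h
    exact h

/-- Pairs of involutions with product `x`, projected to the first one. -/
theorem pair_fst_inverts {x a b : G} (ha : orderOf a = 2) (hb : orderOf b = 2) (h : a * b = x) :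
    a * x * a⁻¹ = x⁻¹ := h ▸ conj_mul_eq_inv ha hb

theorem pair_fst_injective (x : G) :
    Function.Injective
      (fun p : {p : G × G // orderOf p.1 = 2 ∧ orderOf p.2 = 2 ∧ p.1 * p.2 = x} => p.1.1) := by
  intro p q h
  have h1 : p.1.1 = q.1.1 := h
  apply Subtype.ext
  refine Prod.ext h1 (mul_left_cancel (a := p.1.1) ?_)
  rw [p.2.2.2, h1, q.2.2.2]

theorem card_pairs_sq_ne_one (x : G) (hx : x ^ 2 ≠ 1) :
    Nat.card {p : G × G // orderOf p.1 = 2 ∧ orderOf p.2 = 2 ∧ p.1 * p.2 = x} =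
      Nat.card {t : G // orderOf t = 2 ∧ t * x * t⁻¹ = x⁻¹} := by
  refine Nat.card_congr (Equiv.ofBijective
    (fun p => ⟨p.1.1, p.2.1, pair_fst_inverts p.2.1 p.2.2.1 p.2.2.2⟩) ⟨?_, ?_⟩)
  · intro p q h
    exact pair_fst_injective x (congrArg Subtype.val h)
  · rintro ⟨t, ht, hinv⟩
    have hsq : t * x * (t * x) = 1 := by
      have := hinv
      rw [involution_inv ht] at this
      rw [← mul_assoc, this, inv_mul_cancel]
    refine ⟨⟨(t, t * x), ht, orderOf_eq_two_of ?_ hsq, ?_⟩, rfl⟩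
    · intro h
      apply hx
      have : x = t := by rw [← involution_inv ht]; exact eq_inv_of_mul_eq_one_right h
      rw [this, sq, involution_sq ht]
    · show t * (t * x) = x
      rw [← mul_assoc, involution_sq ht, one_mul]

theorem card_pairs_involution [Finite G] (x : G) (hx : orderOf x = 2) :
    Nat.card {p : G × G // orderOf p.1 = 2 ∧ orderOf p.2 = 2 ∧ p.1 * p.2 = x} + 1 =
      Nat.card {t : G // orderOf t = 2 ∧ Commute t x} := by
  rw [← Finite.card_option]
  refine Nat.card_congr (Equiv.ofBijective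
    (fun o => o.elim ⟨x, hx, Commute.refl x⟩ fun p => ⟨p.1.1, p.2.1, ?_⟩) ⟨?_, ?_⟩)
  · have h := pair_fst_inverts p.2.1 p.2.2.1 p.2.2.2
    rw [involution_inv hx] at h
    exact mul_inv_eq_iff_eq_mul.mp h
  · rintro (_ | p) (_ | q) h
    · rfl
    · exfalso
      have h1 : x = q.1.1 := congrArg Subtype.val h
      have h2 := q.2.2.2
      rw [← h1, mul_eq_left] at h2
      exact involution_ne_one q.2.2.1 h2
    · exfalso
      have h1 : p.1.1 = x := congrArg Subtype.val h
      have h2 := p.2.2.2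
      rw [h1, mul_eq_left] at h2
      exact involution_ne_one p.2.2.1 h2
    · exact congrArg some (pair_fst_injective x (congrArg Subtype.val h))
  · rintro ⟨t, ht, htx⟩
    rcases eq_or_ne t x with rfl | hne
    · exact ⟨none, rfl⟩
    · refine ⟨some ⟨(t, t * x), ht, orderOf_eq_two_of ?_ ?_, ?_⟩, rfl⟩
      · intro h
        exact hne (by rw [← involution_inv ht]; exact (eq_inv_of_mul_eq_one_right h).symm)
      · show t * x * (t * x) = 1
        rw [htx.symm.mul_mul_mul_comm, involution_sq ht, involution_sq hx, mul_one]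
      · show t * (t * x) = x
        rw [← mul_assoc, involution_sq ht, one_mul]

theorem exists_involution_inverting_of_odd_centralizer [Finite G] (x : G) (hx : x ≠ 1)
    (hreal : IsConj x x⁻¹) (hodd : Odd (Nat.card (centralizer ({x} : Set G)))) :
    ∃ t : G, orderOf t = 2 ∧ t * x * t⁻¹ = x⁻¹ := by
  obtain ⟨g, hg⟩ := isConj_iff.mp hreal
  have hg2 : g ^ 2 ∈ centralizer ({x} : Set G) := by
    rw [mem_centralizer_singleton_iff, ← mul_inv_eq_iff_eq_mul, sq, mul_inv_rev,
      show g * g * x * (g⁻¹ * g⁻¹) = g * (g * x * g⁻¹) * g⁻¹ by group, hg, ← conj_inv, hg,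
      inv_inv]
  obtain ⟨m, hm⟩ := hodd
  have hpow : (g ^ 2) ^ (2 * m + 1) = 1 := by
    have h := congrArg Subtype.val (pow_card_eq_one' (x := (⟨g ^ 2, hg2⟩ :
      centralizer ({x} : Set G))))
    simpa [hm] using h
  refine ⟨g ^ (2 * m + 1), orderOf_eq_two_of ?_ ?_, ?_⟩
  · intro h
    have hcomm : Commute (g ^ 2) x := mem_centralizer_singleton_iff.mp hg2
    have hxx : x⁻¹ = x := by
      have h2 : g = (g ^ 2) ^ (m + 1) := by
        rw [← pow_mul, show 2 * (m + 1) = 2 * m + 1 + 1 by ring, pow_succ, h, one_mul]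
      have h3 : Commute g x := by rw [h2]; exact hcomm.pow_left _
      rw [← hg, h3.eq, mul_inv_cancel_right]
    have hord : orderOf x = 2 := by
      refine orderOf_eq_two_of hx ?_
      nth_rewrite 1 [← hxx]
      exact inv_mul_cancel x
    have hmem : x ∈ centralizer ({x} : Set G) := mem_centralizer_singleton_iff.mpr rfl
    have hdvd : 2 ∣ 2 * m + 1 := by
      rw [← hm, ← hord, ← Subgroup.orderOf_mk x hmem]
      exact orderOf_dvd_natCard _
    omega
  · rw [← sq, ← pow_mul, mul_comm, pow_mul, hpow]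
  · have hcomm : Commute (g ^ 2) x := mem_centralizer_singleton_iff.mp hg2
    rw [pow_succ', pow_mul, mul_inv_rev,
      show g * (g ^ 2) ^ m * x * (((g ^ 2) ^ m)⁻¹ * g⁻¹) =
        g * ((g ^ 2) ^ m * x * ((g ^ 2) ^ m)⁻¹) * g⁻¹ by group,
      (hcomm.pow_left m).eq, mul_inv_cancel_right, hg]

end Inverting

section Isolated

variable [Finite G]

set_option linter.unusedVariables false in
/-- If the involution `u ∈ P` is isolated, then `u` and each of its conjugates have odd order product. -/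
theorem odd_orderOf_mul_of_isolated (P : Sylow 2 G) {u : G} (hu : orderOf u = 2)
    (huP : u ∈ (P : Subgroup G)) (hiso : ∀ g : G, g * u * g⁻¹ ∈ P → g * u * g⁻¹ = u)
    {v : G} (huv : IsConj u v) : Odd (orderOf (u * v)) := by
  obtain ⟨g, rfl⟩ := isConj_iff.mp huv
  have hv : orderOf (g * u * g⁻¹) = 2 := by rw [orderOf_conj, hu]
  set v := g * u * g⁻¹ with hvdef
  rw [← Nat.not_even_iff_odd]
  intro heven
  set D := closure ({u, v} : Set G) with hD
  have huD : u ∈ D := subset_closure (by simp)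
  have hvD : v ∈ D := subset_closure (by simp)
  have hzp : ∀ (H : Subgroup G) (a : G) (ha : a ∈ H), orderOf a = 2 →
      IsPGroup 2 (zpowers (⟨a, ha⟩ : H)) := by
    intro H a ha hord
    exact IsPGroup.of_card (n := 1) (by rw [Nat.card_zpowers, Subgroup.orderOf_mk, hord, pow_one])
  obtain ⟨R, hR⟩ := (hzp D u huD hu).exists_le_sylow
  obtain ⟨S, hS⟩ := (hzp D v hvD hv).exists_le_sylow
  obtain ⟨d, hd⟩ := MulAction.exists_smul_eq D S R
  obtain ⟨Q, hQ⟩ := R.exists_comap_subtype_eq
  obtain ⟨h, hh⟩ := MulAction.exists_smul_eq G Q P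
  have key : ∀ a : D, a ∈ R → h * (a : G) * h⁻¹ ∈ P := by
    intro a ha
    have : (a : G) ∈ Q := by
      have h2 : a ∈ (Q : Subgroup G).comap D.subtype := by rw [hQ]; exact ha
      exact h2
    rw [← hh]
    show h * (a : G) * h⁻¹ ∈ (h • Q : Sylow 2 G).toSubgroup
    rw [Sylow.coe_subgroup_smul]
    exact Subgroup.smul_mem_pointwise_smul (a : G) (MulAut.conj h) Q.toSubgroup this
  have hu' : h * u * h⁻¹ = u := hiso h (key ⟨u, huD⟩ (hR (mem_zpowers _)))
  have hdv : d * ⟨v, hvD⟩ * d⁻¹ ∈ R := by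
    rw [← hd]
    show d * ⟨v, hvD⟩ * d⁻¹ ∈ (d • S : Sylow 2 D).toSubgroup
    rw [Sylow.coe_subgroup_smul]
    exact Subgroup.smul_mem_pointwise_smul (⟨v, hvD⟩ : D) (MulAut.conj d) S.toSubgroup
      (hS (mem_zpowers _))
  have hv' := key _ hdv
  simp only [Subgroup.coe_mul, InvMemClass.coe_inv] at hv'
  have hv'' : h * ((d : G) * v * (d : G)⁻¹) * h⁻¹ = u := by
    have e : h * ((d : G) * v * (d : G)⁻¹) * h⁻¹ = (h * d * g) * u * (h * d * g)⁻¹ := by
      rw [hvdef]; group
    rw [e] at hv' ⊢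
    exact hiso _ hv'
  have hc : (d : G) * v * (d : G)⁻¹ = u := by
    rw [← hu', mul_left_inj, mul_right_inj] at hv''
    exact hv''
  refine not_conj_of_even hu hv heven (d := (d : G)⁻¹) (inv_mem d.2) ?_
  rw [← hc]; group

omit [Finite G] in
theorem eq_of_odd_orderOf_mul {P : Subgroup G} (hP : IsPGroup 2 P) {u v : G} (huP : u ∈ P)
    (hvP : v ∈ P) (hu : orderOf u = 2) (hodd : Odd (orderOf (u * v))) : v = u := by
  obtain ⟨k, hk⟩ := IsPGroup.iff_orderOf.mp hP ⟨u * v, mul_mem huP hvP⟩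
  rw [Subgroup.orderOf_mk] at hk
  rcases Nat.eq_zero_or_pos k with rfl | hkpos
  · rw [pow_zero, orderOf_eq_one_iff] at hk
    rw [← involution_inv hu]
    exact eq_inv_of_mul_eq_one_right hk
  · exfalso
    rw [hk, Nat.odd_iff] at hodd
    have : 2 ∣ 2 ^ k := dvd_pow_self 2 (by omega)
    omega

end Isolated

end CfsgLib.Signalizer
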