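import Cfsg.Prelude.Def_Involutions
import Cfsg.Agent.Lib.LocalEven.StronglyEmbedded
import Cfsg.Agent.Lib.Signalizer.Involutions

/-!
Owner: helper11. Strongly embedded subgroups in the involution form.
-/

set_option autoImplicit false

namespace CfsgLib.Signalizer

open Subgroup

variable {G : Type*} [Group G] [Finite G]

theorem exists_involution_of_even {H : Subgroup G} (h : Even (Nat.card H)) :
    ∃ t ∈ H, orderOf t = 2 := by
  obtain ⟨x, hx⟩ := exists_prime_orderOf_dvd_card' (G := H) 2 (even_iff_two_dvd.mp h)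
  exact ⟨x, x.2, by rw [Subgroup.orderOf_coe, hx]⟩

theorem exists_involution_of_two_group {X : Subgroup G} (hX : IsPGroup 2 X) (hne : X ≠ ⊥) :
    ∃ t ∈ X, orderOf t = 2 := by
  obtain ⟨k, hk⟩ := IsPGroup.iff_card.mp hX
  rcases Nat.eq_zero_or_pos k with rfl | hpos
  · exact absurd (Subgroup.card_eq_one.mp (by simpa using hk)) hne
  · exact exists_involution_of_even (even_iff_two_dvd.mpr (hk ▸ dvd_pow_self 2 (by omega)))

theorem isPGroup_zpowers_involution {t : G} (ht : orderOf t = 2) : IsPGroup 2 (zpowers t) :=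
  IsPGroup.of_card (n := 1) (by rw [Nat.card_zpowers, ht, pow_one])

/-- Strongly embedded: exactly the subgroups controlling their involutions. -/
theorem stronglyEmbedded_iff_conj (H : Subgroup G) :
    Cfsg.IsStronglyEmbedded H ↔ H ≠ ⊤ ∧ Even (Nat.card H) ∧
      ∀ t ∈ H, orderOf t = 2 → ∀ g : G, g * t * g⁻¹ ∈ H → g ∈ H := by
  refine and_congr_right fun _ => and_congr_right fun _ => ⟨?_, ?_⟩
  · intro h t htH ht g hg
    by_contra hgH
    have hmem : g * t * g⁻¹ ∈ H ⊓ H.map (MulAut.conj g).toMonoidHom := ⟨hg, t, htH, rfl⟩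
    have hd := Subgroup.orderOf_dvd_natCard _ hmem
    rw [orderOf_conj, ht] at hd
    exact absurd ((h g hgH).of_dvd_nat hd) (by decide)
  · intro h g hg
    rw [← Nat.not_even_iff_odd]
    intro he
    obtain ⟨x, ⟨hxH, hxg⟩, hx⟩ := exists_involution_of_even he
    obtain ⟨y, hy, rfl⟩ := hxg
    have hy2 : orderOf y = 2 := by
      rw [← hx]; exact (orderOf_conj g y).symm
    exact hg (h y hy hy2 g hxH)

theorem stronglyEmbedded_centralizer {H : Subgroup G} (hH : Cfsg.IsStronglyEmbedded H) {t : G}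
    (htH : t ∈ H) (ht : orderOf t = 2) : centralizer ({t} : Set G) ≤ H := by
  intro g hg
  refine ((stronglyEmbedded_iff_conj H).mp hH).2.2 t htH ht g ?_
  rw [mem_centralizer_singleton_iff.mp hg, mul_inv_cancel_right]
  exact htH

theorem stronglyEmbedded_iff_sylow_normalizers (H : Subgroup G) (hH : H ≠ ⊤) (P : Sylow 2 ↥H)
    (hP : (P : Subgroup ↥H) ≠ ⊥) :
    Cfsg.IsStronglyEmbedded H ↔ (∀ X : Subgroup ↥H, X ≤ (P : Subgroup ↥H) → X ≠ ⊥ →
      Subgroup.normalizer ((X.map H.subtype : Subgroup G) : Set G) ≤ H) := by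
  rw [stronglyEmbedded_iff_conj]
  constructor
  · rintro ⟨-, -, h⟩ X hXP hX g hg
    obtain ⟨x, hxX, hx⟩ := exists_involution_of_two_group (P.2.to_le hXP) hX
    refine h x x.2 (by rw [Subgroup.orderOf_coe, hx]) g ?_
    have := (mem_normalizer_iff.mp hg (x : G)).mp ⟨x, hxX, rfl⟩
    exact map_subtype_le X this
  · intro h
    have heven : Even (Nat.card H) := by
      obtain ⟨x, -, hx⟩ := exists_involution_of_two_group P.2 hP
      exact even_iff_two_dvd.mpr (hx ▸ orderOf_dvd_natCard x)
    have hc : CfsgLib.LocalEven.ContainsPNormalizers 2 H := by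
      intro A hA hAp hA1 g hg
      obtain ⟨Q, hQ⟩ := (hAp.of_equiv (subgroupOfEquivOfLe hA).symm).exists_le_sylow
      obtain ⟨k, hk⟩ := MulAction.exists_smul_eq H Q P
      have hX : (A.subgroupOf H).map (MulAut.conj k).toMonoidHom ≤ (P : Subgroup H) := by
        rw [← hk, Sylow.coe_subgroup_smul]
        exact Subgroup.map_mono hQ
      have hne : (A.subgroupOf H).map (MulAut.conj k).toMonoidHom ≠ ⊥ := by
        rw [Ne, map_eq_bot_iff_of_injective _ (MulAut.conj k).injective]
        intro hb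
        apply hA1
        rw [← map_subgroupOf_eq_of_le hA, hb, Subgroup.map_bot]
      have e : ((A.subgroupOf H).map (MulAut.conj k).toMonoidHom).map H.subtype =
          A.map (MulAut.conj (k : G)).toMonoidHom := by
        conv_rhs => rw [← map_subgroupOf_eq_of_le hA]
        rw [Subgroup.map_map, Subgroup.map_map]
        rfl
      have hN := h _ hX hne
      rw [e, ← map_equiv_normalizer_eq A (MulAut.conj (k : G))] at hN
      have h2 := hN ⟨g, hg, rfl⟩
      simpa [mul_assoc] using mul_mem (mul_mem (inv_mem k.2) h2) k.2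
    exact ⟨hH, heven, fun t htH ht g hg => CfsgLib.LocalEven.mem_of_conj_mem hc ht htH hg⟩

end CfsgLib.Signalizer
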