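import Cfsg.Agent.Lib.Signalizer.Involutions

/-!
Owner: helper11. Counting involutions, cyclic Sylow 2-subgroups, small facts.
-/

set_option autoImplicit false

namespace CfsgLib.Signalizer

open Subgroup

variable {G : Type*} [Group G] [Finite G]

theorem odd_card_involutions (heven : Even (Nat.card G)) :
    Odd (Nat.card {t : G // orderOf t = 2}) := by
  classical
  have := Fintype.ofFinite G
  let σ : Equiv.Perm G := Equiv.inv G
  have hσ : σ ^ 2 = 1 := by
    ext g; simp [σ, sq]
  have h2 := Equiv.Perm.two_dvd_card_support hσ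
  have hdisj : σ.support = Finset.univ.filter (fun g : G => ¬ (g = 1 ∨ orderOf g = 2)) := by
    ext g
    simp only [Equiv.Perm.mem_support, Finset.mem_filter, Finset.mem_univ, true_and, σ,
      Equiv.inv_apply, ne_eq]
    refine not_congr ⟨fun h => ?_, ?_⟩
    · rcases eq_or_ne g 1 with h1 | h1
      · exact Or.inl h1
      · exact Or.inr (orderOf_eq_two_of h1 (by nth_rewrite 1 [← h]; exact inv_mul_cancel g))
    · rintro (rfl | h)
      · exact inv_one
      · exact involution_inv h
  have hsplit := Finset.card_filter_add_card_filter_not (s := (Finset.univ : Finset G))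
    (fun g : G => g = 1 ∨ orderOf g = 2)
  have hins : Finset.univ.filter (fun g : G => g = 1 ∨ orderOf g = 2) =
      insert 1 (Finset.univ.filter (fun g : G => orderOf g = 2)) := by
    ext g; simp
  rw [hins, Finset.card_insert_of_notMem (by simp), ← hdisj, Finset.card_univ,
    ← Nat.card_eq_fintype_card] at hsplit
  rw [Nat.card_eq_fintype_card, Fintype.card_subtype, Nat.odd_iff]
  obtain ⟨m, hm⟩ := heven
  obtain ⟨k, hk⟩ := h2
  omega

theorem index_two_of_cyclic_sylow (heven : Even (Nat.card G)) (T : Sylow 2 G)
    (hT : IsCyclic (T : Subgroup G)) : ∃ H : Subgroup G, H.index = 2 := by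
  have h2 : (Nat.card G).minFac = 2 := Nat.minFac_eq_two_iff _ |>.mpr (even_iff_two_dvd.mp heven)
  have hN := hT.normalizer_le_centralizer (P := T) (by rw [h2])
  have hc := MonoidHom.ker_transferSylow_isComplement' T hN
  set f := MonoidHom.transferSylow T hN with hf
  have hidx : f.ker.index = Nat.card (T : Subgroup G) := hc.symm.index_eq_card
  have hsurj : Function.Surjective f := by
    rw [← MonoidHom.range_eq_top]
    apply Subgroup.eq_top_of_card_eq
    rw [← Subgroup.index_ker, hidx]
  have hT2 : 2 ∣ Nat.card (T : Subgroup G) :=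
    T.dvd_card_of_dvd_card (even_iff_two_dvd.mp heven)
  obtain ⟨g, hg⟩ := hT.exists_generator
  have hord : orderOf g = Nat.card (T : Subgroup G) := orderOf_eq_card_of_forall_mem_zpowers hg
  refine ⟨(zpowers (g ^ 2)).comap f, ?_⟩
  rw [Subgroup.index_comap_of_surjective _ hsurj]
  have h3 := (zpowers (g ^ 2)).card_mul_index
  rw [Nat.card_zpowers, orderOf_pow, hord, Nat.gcd_eq_right hT2] at h3
  have hpos : 0 < Nat.card (T : Subgroup G) := Nat.card_pos
  obtain ⟨k, hk⟩ := hT2
  rw [hk, Nat.mul_div_cancel_left _ (by norm_num : 0 < 2), mul_comm 2 k] at h3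
  exact Nat.eq_of_mul_eq_mul_left (by omega) h3

theorem card_conj_class (x : G) :
    Nat.card {y : G // IsConj x y} * Nat.card (centralizer ({x} : Set G)) = Nat.card G := by
  have h : Nat.card (MulAction.orbit (ConjAct G) x) * Nat.card (MulAction.stabilizer (ConjAct G) x) =
      Nat.card (ConjAct G) := by
    rw [← Nat.card_prod]
    exact Nat.card_congr (MulAction.orbitProdStabilizerEquivGroup (ConjAct G) x)
  rw [nat_card_centralizer_nat_card_stabilizer]
  refine Eq.trans ?_ (h.trans (Nat.card_congr (ConjAct.ofConjAct (G := G)).toEquiv))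
  congr 1
  exact Nat.card_congr (Equiv.subtypeEquivRight fun y =>
    ⟨fun h => ConjAct.mem_orbit_conjAct.mpr h.symm,
      fun h => (ConjAct.mem_orbit_conjAct.mp h).symm⟩)

end CfsgLib.Signalizer
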