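import Cfsg.Prelude.Def_Local
import Cfsg.Agent.Lib.Components.FStar
import Cfsg.Agent.Lib.Components.Char
import Cfsg.Agent.Lib.Core.Cores
import Mathlib.GroupTheory.Transfer

/-!
Owner: helper11. p-components: `K = O^{p'}(π⁻¹ K̄)`, uniqueness, basic properties.
-/

set_option autoImplicit false

namespace CfsgLib.Signalizer

open Subgroup
open scoped commutatorElement Pointwise

variable {G : Type*} [Group G] {p : ℕ}

/-- The subgroup generated by the `p`-elements of `H`. -/
def pGen (p : ℕ) (H : Subgroup G) : Subgroup G :=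
  closure {x | x ∈ H ∧ ∃ k : ℕ, x ^ p ^ k = 1}

theorem pGen_le (H : Subgroup G) : pGen p H ≤ H := (closure_le H).mpr fun _ h => h.1

theorem mem_pGen {H : Subgroup G} {x : G} (hx : x ∈ H) {k : ℕ} (hk : x ^ p ^ k = 1) :
    x ∈ pGen p H := subset_closure ⟨hx, k, hk⟩

theorem pGen_le_iff {H K : Subgroup G} :
    pGen p H ≤ K ↔ ∀ x ∈ H, ∀ k : ℕ, x ^ p ^ k = 1 → x ∈ K :=
  ⟨fun h _ hx _ hk => h (mem_pGen hx hk), fun h => (closure_le K).mpr fun x hx =>
    hx.2.elim fun k hk => h x hx.1 k hk⟩

theorem pGen_mono {H K : Subgroup G} (h : H ≤ K) : pGen p H ≤ pGen p K :=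
  pGen_le_iff.mpr fun _ hx _ hk => mem_pGen (h hx) hk

theorem normalizer_le_normalizer_pGen (H : Subgroup G) :
    normalizer (H : Set G) ≤ normalizer (pGen p H : Set G) := by
  intro g hg
  have key : ∀ g ∈ normalizer (H : Set G), pGen p H ≤ (pGen p H).comap (MulAut.conj g).toMonoidHom := by
    intro g hg
    refine pGen_le_iff.mpr fun x hx k hk => ?_
    refine mem_comap.mpr (mem_pGen (k := k) ((mem_normalizer_iff.mp hg x).mp hx) ?_)
    show (g * x * g⁻¹) ^ p ^ k = 1
    rw [conj_pow, hk]; group
  rw [mem_normalizer_iff]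
  intro x
  refine ⟨fun hx => key g hg hx, fun hx => ?_⟩
  have := key g⁻¹ (inv_mem hg) hx
  simpa [mul_assoc] using this

theorem exists_coprime_pow [hp : Fact p.Prime] [Finite G] (x : G) :
    ∃ m : ℕ, m.Coprime p ∧ ∃ k : ℕ, (x ^ m) ^ p ^ k = 1 := by
  refine ⟨ordCompl[p] (orderOf x), ?_, (orderOf x).factorization p, ?_⟩
  · exact (Nat.coprime_ordCompl hp.out (orderOf_pos x).ne').symm
  · rw [← pow_mul, mul_comm, Nat.ordProj_mul_ordCompl_eq_self, pow_orderOf_eq_one]

theorem map_pGen [hp : Fact p.Prime] [Finite G] {H : Type*} [Group H] (f : G →* H)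
    (K : Subgroup G) : (pGen p K).map f = pGen p (K.map f) := by
  refine le_antisymm ?_ (pGen_le_iff.mpr ?_)
  · rw [map_le_iff_le_comap]
    exact pGen_le_iff.mpr fun x hx k hk =>
      mem_comap.mpr (mem_pGen (mem_map_of_mem f hx) (k := k) (by rw [← map_pow, hk, map_one]))
  · rintro _ ⟨x, hx, rfl⟩ k hk
    obtain ⟨m, hm, j, hj⟩ := exists_coprime_pow (p := p) x
    have h1 : (f x) ^ m ∈ (pGen p K).map f := ⟨x ^ m, mem_pGen (K.pow_mem hx m) hj, map_pow f x m⟩
    obtain ⟨u, v, huv⟩ := Int.isCoprime_iff_nat_coprime.mpr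
      (show Nat.Coprime (m : ℤ).natAbs (p ^ k : ℤ).natAbs by
        simpa [Int.natAbs_pow] using hm.pow_right k)
    rw [← zpow_one (f x), ← huv, zpow_add, mul_comm u, mul_comm v, zpow_mul, zpow_mul,
      zpow_natCast, show ((p : ℤ) ^ k) = ((p ^ k : ℕ) : ℤ) by norm_num, zpow_natCast, hk,
      one_zpow, mul_one]
    exact zpow_mem h1 u

/-- A subnormal subgroup covering `G` modulo a normal `p'`-subgroup contains every `p`-element. -/
theorem mem_of_subnormal_sup_eq_top [Finite G] [Fact p.Prime] {H O : Subgroup G} [O.Normal]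
    (hH : H.IsSubnormal) (hO : (Nat.card O).Coprime p) (hsup : H ⊔ O = ⊤) {x : G} {k : ℕ}
    (hx : x ^ p ^ k = 1) : x ∈ H := by
  induction hH with
  | top => exact Subgroup.mem_top x
  | step H K hle _ hn ih =>
    have hxK : x ∈ K := ih (top_le_iff.mp (hsup.ge.trans (sup_le_sup_right hle O)))
    have := hn
    set N := H.subgroupOf K
    set O' := O.subgroupOf K
    have hcov : ∀ y : K, ∃ o ∈ O', (QuotientGroup.mk y : K ⧸ N) = QuotientGroup.mk o := by
      intro y
      have hy : (y : G) ∈ H ⊔ O := hsup.ge (Subgroup.mem_top _)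
      obtain ⟨a, ha, o, ho, he⟩ := mem_sup_of_normal_right.mp hy
      have hoK : o ∈ K := by
        have : o = a⁻¹ * y := by rw [← he]; group
        exact this ▸ mul_mem (inv_mem (hle ha)) y.2
      refine ⟨⟨o, hoK⟩, ho, ?_⟩
      have hye : y = ⟨a, hle ha⟩ * ⟨o, hoK⟩ := Subtype.ext he.symm
      rw [hye, QuotientGroup.mk_mul, (QuotientGroup.eq_one_iff _).mpr (show (⟨a, hle ha⟩ : K) ∈ N from ha),
        one_mul]
    obtain ⟨o, ho, he⟩ := hcov ⟨x, hxK⟩
    have h1 : orderOf (QuotientGroup.mk (⟨x, hxK⟩ : K) : K ⧸ N) ∣ p ^ k :=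
      orderOf_dvd_of_pow_eq_one (by
        rw [← QuotientGroup.mk_pow, show (⟨x, hxK⟩ : K) ^ p ^ k = 1 from Subtype.ext hx]
        rfl)
    have h2 : orderOf (QuotientGroup.mk (⟨x, hxK⟩ : K) : K ⧸ N) ∣ Nat.card O := by
      rw [he]
      refine dvd_trans ?_ (Subgroup.orderOf_dvd_natCard O (show (o : G) ∈ O from ho))
      rw [Subgroup.orderOf_coe]
      exact orderOf_map_dvd (QuotientGroup.mk' N) o
    have h3 := Nat.eq_one_of_dvd_coprimes (hO.pow_right k) h2 h1
    rw [orderOf_eq_one_iff, QuotientGroup.eq_one_iff] at h3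
    exact h3

/-- A perfect group with a central Sylow `p`-subgroup has order prime to `p`. -/
theorem not_dvd_of_sylow_central [Finite G] [hp : Fact p.Prime] (hperf : Group.IsPerfect G)
    (S : Sylow p G) (hS : (S : Subgroup G) ≤ center G) : ¬ p ∣ Nat.card G := by
  intro hd
  have hN : normalizer ((S : Subgroup G) : Set G) ≤ centralizer ((S : Subgroup G) : Set G) :=
    fun g _ => mem_centralizer_iff.mpr fun y hy => (mem_center_iff.mp (hS hy) g).symm
  have hc := MonoidHom.ker_transferSylow_isComplement' S hN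
  set f := MonoidHom.transferSylow S hN
  have htop : f.ker = ⊤ := by
    refine top_le_iff.mp ((hperf.commutator_eq_top).ge.trans ?_)
    rw [_root_.commutator_def, commutator_le]
    intro g _ h _
    rw [MonoidHom.mem_ker, map_commutatorElement, commutatorElement_eq_one_iff_mul_comm]
    exact Subtype.ext (mem_center_iff.mp (hS (f h).2) _)
  have h1 := hc.symm.index_eq_card
  rw [htop, index_top] at h1
  exact S.ne_bot_of_dvd_card hd (card_eq_one.mp h1.symm)

variable [Finite G] [hp : Fact p.Prime]

theorem component_dvd_card {K : Subgroup G} (hO : Cfsg.pPrimeCore p G = ⊥)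
    (hK : Cfsg.IsComponent K) : p ∣ Nat.card K := by
  by_contra h
  exact Components.IsComponent.ne_bot hK (le_bot_iff.mp (hO ▸
    Components.subnormal_coprime_le_pPrimeCore hK.1 (hp.out.coprime_iff_not_dvd.mpr h).symm))

/-- No proper normal subgroup of a quasisimple group of order divisible by `p` has all `p`-elements. -/
theorem quasisimple_normal_eq_top_of_pElements (hX : Cfsg.IsQuasisimple G) (hd : p ∣ Nat.card G)
    {N : Subgroup G} (hN : N.Normal) (h : ∀ x : G, ∀ k : ℕ, x ^ p ^ k = 1 → x ∈ N) : N = ⊤ := by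
  refine (Components.IsQuasisimple.normal_le_center_or_eq_top hX hN).resolve_left fun hc => ?_
  obtain ⟨S⟩ := (inferInstance : Nonempty (Sylow p G))
  refine not_dvd_of_sylow_central hX.1 S (fun s hs => hc ?_) hd
  obtain ⟨k, hk⟩ := S.2 ⟨s, hs⟩
  exact h s k (by simpa using congrArg Subtype.val hk)

theorem pGen_component {Q : Type*} [Group Q] [Finite Q] {K : Subgroup Q}
    (hO : Cfsg.pPrimeCore p Q = ⊥) (hK : Cfsg.IsComponent K) : pGen p K = K := by
  have h := quasisimple_normal_eq_top_of_pElements (G := K) hK.2 (component_dvd_card hO hK)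
    (N := (pGen p K).subgroupOf K)
    ((normal_subgroupOf_iff_le_normalizer (pGen_le K)).mpr
      (le_normalizer.trans (normalizer_le_normalizer_pGen K)))
    (fun x k hk => mem_pGen x.2 (k := k) (by simpa using congrArg Subtype.val hk))
  exact le_antisymm (pGen_le K) (subgroupOf_eq_top.mp h)

section PComp

/-- Abbreviation for the projection modulo `O_{p'}`. -/
abbrev modCore (q : ℕ) (X : Type*) [Group X] : X →* X ⧸ Cfsg.pPrimeCore q X :=
  QuotientGroup.mk' (Cfsg.pPrimeCore q X)

omit [Finite G] hp in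
theorem modCore_surjective : Function.Surjective (modCore p G) := QuotientGroup.mk'_surjective _

/-- Every component of `G / O_{p'}` gives a `p`-component. -/
theorem isPComponent_pGen {Kb : Subgroup (G ⧸ Cfsg.pPrimeCore p G)} (hK : Cfsg.IsComponent Kb) :
    Cfsg.IsPComponent p (pGen p (Kb.comap (modCore p G))) ∧
      (pGen p (Kb.comap (modCore p G))).map (modCore p G) = Kb := by
  set P := Kb.comap (modCore p G) with hP
  have hPsn : P.IsSubnormal := hK.1.comap _
  have hmapP : P.map (modCore p G) = Kb := map_comap_eq_self_of_surjective modCore_surjective Kb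
  have hmap : (pGen p P).map (modCore p G) = Kb := by
    rw [map_pGen, hmapP]
    exact pGen_component (Core.pPrimeCore_quotient_pPrimeCore p G) hK
  have hsn : (pGen p P).IsSubnormal := by
    have hn : ((pGen p P).subgroupOf P).Normal := (normal_subgroupOf_iff_le_normalizer (pGen_le P)).mpr
      (le_normalizer.trans (normalizer_le_normalizer_pGen P))
    have := hn.isSubnormal.trans' hPsn
    rwa [map_subgroupOf_eq_of_le (pGen_le P)] at this
  refine ⟨⟨hsn, ?_, fun H hH hle hHmap => le_antisymm hle ?_⟩, hmap⟩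
  · rw [hmap]; exact hK
  · change H.map (modCore p G) = (pGen p P).map (modCore p G) at hHmap
    rw [hmap] at hHmap
    have hHP : H ≤ P := hle.trans (pGen_le P)
    refine pGen_le_iff.mpr fun x hx k hk => ?_
    refine mem_of_subnormal_sup_eq_top (G := P) (H := H.subgroupOf P)
      (O := (Cfsg.pPrimeCore p G).subgroupOf P) hH.subgroupOf ?_ ?_ (x := ⟨x, hx⟩) (k := k)
      (Subtype.ext hk)
    · exact (Core.coprime_card_pPrimeCore p G).coprime_dvd_left
        (card_comap_dvd_of_injective _ P.subtype P.subtype_injective)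
    · have hOP : Cfsg.pPrimeCore p G ≤ P := fun y hy => by
        rw [hP, mem_comap, show modCore p G y = 1 from (QuotientGroup.eq_one_iff y).mpr hy]
        exact one_mem _
      rw [← subgroupOf_sup hHP hOP, subgroupOf_eq_top, hP, ← hHmap]
      exact le_of_eq (by rw [comap_map_eq, QuotientGroup.ker_mk'])

/-- A `p`-component is determined by its image. -/
theorem pComponent_eq_pGen {K : Subgroup G} (hK : Cfsg.IsPComponent p K) :
    K = pGen p ((K.map (modCore p G)).comap (modCore p G)) := by
  obtain ⟨⟨hsn, -, -⟩, hmap⟩ := isPComponent_pGen hK.2.1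
  refine (hK.2.2 _ hsn ?_ hmap).symm
  refine pGen_le_iff.mpr fun x hx k hk => ?_
  refine mem_of_subnormal_sup_eq_top (G := ((K.map (modCore p G)).comap (modCore p G) : Subgroup G))
    (H := K.subgroupOf _) (O := (Cfsg.pPrimeCore p G).subgroupOf _) hK.1.subgroupOf ?_ ?_
    (x := ⟨x, hx⟩) (k := k) (Subtype.ext hk)
  · exact (Core.coprime_card_pPrimeCore p G).coprime_dvd_left
      (card_comap_dvd_of_injective _ (Subgroup.subtype _) (Subgroup.subtype_injective _))
  · rw [comap_map_eq, QuotientGroup.ker_mk', ← subgroupOf_sup le_sup_left le_sup_right,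
      subgroupOf_self]

theorem pComponent_map_injective {K L : Subgroup G} (hK : Cfsg.IsPComponent p K)
    (hL : Cfsg.IsPComponent p L) (h : K.map (modCore p G) = L.map (modCore p G)) : K = L := by
  rw [pComponent_eq_pGen hK, h, ← pComponent_eq_pGen hL]

theorem pLayer_map : (Cfsg.pLayer p G).map (modCore p G) = Cfsg.layer (G ⧸ Cfsg.pPrimeCore p G) := by
  refine le_antisymm ?_ (Components.layer_le_iff.mpr fun Kb hKb => ?_)
  · rw [map_le_iff_le_comap]
    exact sSup_le fun K hK => map_le_iff_le_comap.mp (Components.le_layer hK.2.1)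
  · obtain ⟨h1, h2⟩ := isPComponent_pGen hKb
    exact h2.ge.trans (map_mono (le_sSup h1))

theorem pLayer_eq_bot_iff : Cfsg.pLayer p G = ⊥ ↔ Cfsg.layer (G ⧸ Cfsg.pPrimeCore p G) = ⊥ := by
  constructor
  · intro h
    rw [← pLayer_map, h, Subgroup.map_bot]
  · intro h
    refine le_bot_iff.mp (sSup_le fun K hK => ?_)
    exact absurd hK.2.1 (Components.layer_eq_bot_iff.mp h _)

theorem pComponent_pGen_eq {K : Subgroup G} (hK : Cfsg.IsPComponent p K) : pGen p K = K := by
  refine le_antisymm (pGen_le K) ?_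
  calc K = pGen p ((K.map (modCore p G)).comap (modCore p G)) := pComponent_eq_pGen hK
    _ ≤ pGen p K := pGen_le_iff.mpr fun x hx k hk => mem_pGen
        ((pComponent_eq_pGen hK).ge (mem_pGen hx hk)) hk

omit [Finite G] hp in
theorem pComponent_perfect {K : Subgroup G} (hK : Cfsg.IsPComponent p K) : ⁅K, K⁆ = K := by
  refine hK.2.2 _ ?_ (commutator_le_self K) ?_
  · have hn : ((⁅K, K⁆ : Subgroup G).subgroupOf K).Normal :=
      (normal_subgroupOf_iff_le_normalizer (commutator_le_self K)).mpr
        (normalizer_commutator_ge_left K K)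
    have := hn.isSubnormal.trans' hK.1
    rwa [map_subgroupOf_eq_of_le (commutator_le_self K)] at this
  · rw [map_commutator]
    exact Components.IsComponent.commutator_eq_self hK.2.1

theorem pComponent_dvd_card {K : Subgroup G} (hK : Cfsg.IsPComponent p K) : p ∣ Nat.card K := by
  by_contra h
  have hle : K ≤ Cfsg.pPrimeCore p G :=
    Components.subnormal_coprime_le_pPrimeCore hK.1 (hp.out.coprime_iff_not_dvd.mpr h).symm
  apply Components.IsComponent.ne_bot hK.2.1
  rw [Subgroup.map_eq_bot_iff, QuotientGroup.ker_mk']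
  exact hle

omit hp in
/-- The core of a `p`-component. -/
theorem pComponent_core {K : Subgroup G} (hK : Cfsg.IsPComponent p K) :
    (Cfsg.pPrimeCore p K).map K.subtype = Cfsg.pPrimeCore p G ⊓ K :=
  Components.pPrimeCore_subnormal p hK.1

/-- Any element normalizing the preimage normalizes the `p`-component. -/
theorem mem_normalizer_pComponent {K : Subgroup G} (hK : Cfsg.IsPComponent p K) {g : G}
    (hg : modCore p G g ∈ normalizer ((K.map (modCore p G) : Subgroup _) : Set _)) :
    g ∈ normalizer (K : Set G) := by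
  rw [pComponent_eq_pGen hK]
  refine normalizer_le_normalizer_pGen _ ?_
  rw [← comap_normalizer_eq_of_le_range (fun y _ => modCore_surjective y)]
  exact hg

theorem core_le_normalizer_pComponent {K : Subgroup G} (hK : Cfsg.IsPComponent p K) :
    Cfsg.pPrimeCore p G ≤ normalizer (K : Set G) := fun g hg => by
  refine mem_normalizer_pComponent hK ?_
  rw [show modCore p G g = 1 from (QuotientGroup.eq_one_iff g).mpr hg]
  exact one_mem _

theorem pComponent_le_normalizer {K L : Subgroup G} (hK : Cfsg.IsPComponent p K)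
    (hL : Cfsg.IsPComponent p L) : L ≤ normalizer (K : Set G) := fun g hg => by
  refine mem_normalizer_pComponent hK ?_
  exact Components.component_le_normalizer_component hL.2.1 hK.2.1 (mem_map_of_mem _ hg)

theorem pLayer_le_normalizer {K : Subgroup G} (hK : Cfsg.IsPComponent p K) :
    Cfsg.pLayer p G ≤ normalizer (K : Set G) :=
  sSup_le fun _ hL => pComponent_le_normalizer hK hL

theorem pComponents_commutator_le {K L : Subgroup G} (hK : Cfsg.IsPComponent p K)
    (hL : Cfsg.IsPComponent p L) (hne : K ≠ L) :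
    ⁅K, L⁆ ≤ (Cfsg.pPrimeCore p G ⊓ K) ⊓ (Cfsg.pPrimeCore p G ⊓ L) := by
  have h1 : ⁅K, L⁆ ≤ Cfsg.pPrimeCore p G := by
    rw [← QuotientGroup.ker_mk' (Cfsg.pPrimeCore p G), ← Subgroup.map_eq_bot_iff, map_commutator]
    exact Components.components_commute hK.2.1 hL.2.1 fun e => hne (pComponent_map_injective hK hL e)
  exact le_inf (le_inf h1 (le_normalizer_iff_commutator_le_left.mp (pComponent_le_normalizer hK hL)))
    (le_inf h1 (le_normalizer_iff_commutator_le_right.mp (pComponent_le_normalizer hL hK)))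

/-- Elements centralizing a Sylow subgroup of a `p`-component normalize it. -/
theorem normalizes_of_centralizes_sylow {K : Subgroup G} (hK : Cfsg.IsPComponent p K)
    (S : Sylow p K) {c : G} (hc : c ∈ centralizer (((S : Subgroup K).map K.subtype : Subgroup G) : Set G)) :
    c ∈ normalizer (K : Set G) := by
  by_contra hcK
  set Kb := K.map (modCore p G) with hKb
  set cb := modCore p G c
  have hcb : cb ∉ normalizer (Kb : Set _) := fun h => hcK (mem_normalizer_pComponent hK h)
  have hconj : Cfsg.IsComponent (MulAut.conj cb • Kb) := Components.isComponent_conj hK.2.1 cb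
  have hne : MulAut.conj cb • Kb ≠ Kb := fun e => hcb (Components.mem_normalizer_of_smul_eq_self e)
  have hcomm := Components.components_commute hconj hK.2.1 hne
  have hf : Function.Surjective ((modCore p G).subgroupMap K) := (modCore p G).subgroupMap_surjective K
  refine not_dvd_of_sylow_central hK.2.1.2.1 (S.mapSurjective hf) ?_
    (component_dvd_card (Core.pPrimeCore_quotient_pPrimeCore p G) hK.2.1)
  rw [Sylow.coe_mapSurjective]
  rintro _ ⟨s, hs, rfl⟩
  rw [mem_center_iff]
  intro y
  apply Subtype.ext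
  have hfix : cb * modCore p G (s : G) * cb⁻¹ = modCore p G (s : G) := by
    rw [← map_mul, ← map_inv, ← map_mul,
      ← mem_centralizer_iff.mp hc (s : G) ⟨s, hs, rfl⟩, mul_inv_cancel_right]
  have hs' : modCore p G (s : G) ∈ MulAut.conj cb • Kb := by
    rw [Subgroup.mem_pointwise_smul_iff_inv_smul_mem]
    have e : cb⁻¹ * modCore p G (s : G) * cb = modCore p G (s : G) := by
      conv_lhs => rw [← hfix]
      group
    simp only [← map_inv, MulAut.smul_def, MulAut.conj_apply, inv_inv]
    rw [e]
    exact mem_map_of_mem (modCore p G) s.2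
  exact mem_centralizer_iff.mp (commutator_eq_bot_iff_le_centralizer.mp hcomm hs') y.1 y.2

end PComp

end CfsgLib.Signalizer
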