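import Cfsg.Agent.Lib.Classical.NoncyclicCenter
import Cfsg.Agent.Lib.LocalEven.Generation
import Cfsg.Agent.S0217

/-!
# Cores of involution centralisers in a group with 2-constrained 2-locals and `SCN₃(2)`

`cores_generate`: from the solvability of groups of odd order, the cores generate an odd subgroup
`W` which does not depend on the subgroup `B` of 2-rank at least 2.
-/

set_option autoImplicit false
set_option linter.style.haveILetI false

namespace CfsgLib.Signalizer.CoresGen

open Subgroup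
open CfsgLib.Classical.TwoType

universe u

variable {G : Type u} [Group G] [Finite G]

/-- Balance between a 2-element and an involution with 2-constrained centraliser. -/
theorem balance_two {a b : G} {k : ℕ} (ha : orderOf a = 2 ^ k)
    (hc : Cfsg.IsPConstrained 2 ↥(centralizer ({b} : Set G))) (hab : a * b = b * a) :
    oC a ⊓ centralizer ({b} : Set G) ≤ oC b := by
  haveI : Fact (Nat.Prime 2) := ⟨Nat.prime_two⟩
  set H := centralizer ({b} : Set G) with hH
  let a' : H := ⟨a, mem_centralizer_singleton_iff.2 hab⟩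
  have ha' : orderOf a' = 2 ^ k := by rw [← Subgroup.orderOf_coe]; exact ha
  have hP : IsPGroup 2 (zpowers a') := IsPGroup.of_card (n := k) (by rw [Nat.card_zpowers, ha'])
  have hcop := CfsgLib.Core.coprime_card_pPrimeCore 2 ↥H
  set π := QuotientGroup.mk' (Cfsg.pPrimeCore 2 ↥H)
  have hC := CfsgLib.PLocal.centralizer_pCore_le_local (CfsgLib.PLocal.isPConstrained_iff.1 hc)
    (X := (centralizer (zpowers a' : Set H)).map π) (P := (zpowers a').map π) (hP.map _)
    (by rw [CfsgLib.PLocal.map_centralizer_eq _ hcop hP])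
    (by rw [CfsgLib.PLocal.map_centralizer_eq _ hcop hP]; exact centralizer_le_normalizer _)
    (Or.inr (by rw [CfsgLib.PLocal.map_centralizer_eq _ hcop hP]))
  have key := CfsgLib.PLocal.pPrimeCore_map_of_le hcop (centralizer (zpowers a' : Set H)) hC.1
  rw [show centralizer (zpowers a' : Set H) = centralizer ({a'} : Set H) by
    rw [zpowers_eq_closure, centralizer_closure]] at key
  rintro x ⟨hxa, hxb⟩
  let Y : Subgroup H := (oC a).subgroupOf H
  have hY : (⟨x, hxb⟩ : H) ∈ Y := hxa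
  have hYle : Y ≤ centralizer ({a'} : Set H) := fun y hy =>
    mem_centralizer_singleton_iff.2 (Subtype.ext (mem_centralizer_singleton_iff.1 (oC_le a hy)))
  have hYn : (Y.subgroupOf (centralizer ({a'} : Set H))).Normal := ⟨fun y hy g => by
    have hg : ((g : H) : G) ∈ centralizer ({a} : Set G) :=
      mem_centralizer_singleton_iff.2 (congrArg Subtype.val (mem_centralizer_singleton_iff.1 g.2))
    exact (mem_normalizer_iff.1 (le_normalizer_oC a hg) _).1 hy⟩
  have hYo : Odd (Nat.card (Y.subgroupOf (centralizer ({a'} : Set H)))) :=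
    CfsgLib.ZStar.odd_of_dvd ((card_dvd_of_injective
      (MonoidHom.mk' (fun y : Y.subgroupOf (centralizer ({a'} : Set H)) =>
        (⟨(((y : centralizer ({a'} : Set H)) : H) : G), y.2⟩ : oC a)) fun _ _ => rfl)
      fun y y' hyy => Subtype.ext (Subtype.ext (Subtype.ext (congrArg (fun z : oC a => (z : G)) hyy)))))
      (odd_oC a)
  have hmem : (⟨x, hxb⟩ : H) ∈
      (Cfsg.oddCore ↥(centralizer ({a'} : Set H))).map (centralizer ({a'} : Set H)).subtype :=
    ⟨⟨_, hYle hY⟩, CfsgLib.ZStar.le_oddCore hYn hYo hY, rfl⟩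
  rw [show (Cfsg.oddCore ↥(centralizer ({a'} : Set H))).map (centralizer ({a'} : Set H)).subtype =
    Cfsg.pPrimeCore 2 ↥H ⊓ centralizer ({a'} : Set H) from key] at hmem
  exact ⟨⟨x, hxb⟩, hmem.1, rfl⟩

/-- An involution normalising an elementary abelian group of order at least 8 fixes a four group. -/
theorem four_le_card_fixed {E : Subgroup G} (hE : Cfsg.IsElementaryAbelian 2 E) (h8 : 8 ≤ Nat.card E)
    {y : G} (hy2 : y * y = 1) (hyN : y ∈ normalizer (E : Set G)) :
    2 ^ 2 ≤ Nat.card ↥(E ⊓ centralizer ({y} : Set G)) := by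
  haveI : Fact (Nat.Prime 2) := ⟨Nat.prime_two⟩
  have hcomm : ∀ a ∈ E, ∀ b ∈ E, a * b = b * a := fun a ha b hb =>
    congrArg Subtype.val (hE.1.is_comm.comm (⟨a, ha⟩ : E) ⟨b, hb⟩)
  have hinvE : ∀ a ∈ E, a⁻¹ = a := fun a ha =>
    inv_eq_of_mul_eq_one_right (by rw [← pow_two]; exact hE.2 a ha)
  set C := E ⊓ centralizer ({y} : Set G) with hC
  let δ : E →* C :=
    { toFun := fun e => ⟨(y * e * y⁻¹) * e, by
        have he' := (mem_normalizer_iff.1 hyN _).1 e.2
        refine ⟨E.mul_mem he' e.2, mem_centralizer_singleton_iff.2 ?_⟩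
        rw [inv_eq_of_mul_eq_one_right hy2] at he' ⊢
        calc y * (e : G) * y * e * y = (y * e * y) * (e * y) := by group
          _ = (y * e * y) * e * y := by group
          _ = e * (y * e * y) * y := by rw [hcomm _ he' _ e.2]
          _ = e * y * e * (y * y) := by group
          _ = (y * y) * e * y * e := by rw [hy2]; group
          _ = _ := by group⟩
      map_one' := Subtype.ext (by simp)
      map_mul' := fun e f => Subtype.ext (by
        show (y * ((e : G) * f) * y⁻¹) * ((e : G) * f) = (y * e * y⁻¹) * e * ((y * f * y⁻¹) * f)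
        calc (y * ((e : G) * f) * y⁻¹) * ((e : G) * f)
            = (y * e * y⁻¹) * ((y * f * y⁻¹) * e) * f := by group
          _ = (y * e * y⁻¹) * (e * (y * f * y⁻¹)) * f := by
            rw [hcomm _ ((mem_normalizer_iff.1 hyN _).1 f.2) _ e.2]
          _ = _ := by group) }
  have hker : δ.ker.map E.subtype ≤ C := by
    rintro _ ⟨e, he, rfl⟩
    refine ⟨e.2, mem_centralizer_singleton_iff.2 ?_⟩
    have h1 : y * (e : G) * y⁻¹ * e = 1 := congrArg Subtype.val he
    have h2 := eq_inv_of_mul_eq_one_left h1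
    rw [hinvE _ e.2] at h2
    exact (mul_inv_eq_iff_eq_mul.1 h2).symm
  have h3 : 3 ≤ Nat.card C := by
    have h1 := δ.ker.card_mul_index
    rw [Subgroup.index_ker] at h1
    have h2 : Nat.card δ.range ≤ Nat.card C := Subgroup.card_le_card_group _
    have h3 : Nat.card δ.ker ≤ Nat.card C := by
      rw [← Subgroup.card_map_of_injective (K := δ.ker) E.subtype_injective]
      exact Subgroup.card_le_of_le hker
    have h4 := Nat.mul_le_mul h3 h2
    rw [h1] at h4
    by_contra hlt
    have := Nat.mul_le_mul (show Nat.card C ≤ 2 by omega) (show Nat.card C ≤ 2 by omega)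
    omega
  have hp : IsPGroup 2 C := fun x => ⟨1, Subtype.ext (by simpa using hE.2 x x.2.1)⟩
  obtain ⟨n, hn⟩ := hp.exists_card_eq
  rw [hn] at h3 ⊢
  match n, h3 with
  | 0, h => simp at h
  | 1, h => simp at h
  | n + 2, _ => exact Nat.pow_le_pow_right two_pos (by omega)

/-- The cores generate an odd subgroup independent of the subgroup of rank at least two. -/
theorem cores_generate (hodd : ∀ X : Subgroup G, Odd (Nat.card X) → Group.IsSolvable X)
    (hcon : ∀ b : G, orderOf b = 2 → Cfsg.IsPConstrained 2 ↥(centralizer ({b} : Set G)))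
    (S : Sylow 2 G) {E : Subgroup G} (hE : Cfsg.IsElementaryAbelian 2 E) (h8 : 8 ≤ Nat.card E)
    (hES : E ≤ (S : Subgroup G)) (hSE : (S : Subgroup G) ≤ normalizer (E : Set G)) :
    ∃ W : Subgroup G, Odd (Nat.card W) ∧ ∀ B : Subgroup G, B ≤ (S : Subgroup G) →
      ¬ Cfsg.PRankLE 2 1 ↥B →
      W = (⨆ b : {b : G // b ∈ B ∧ b ≠ 1}, oC (b : G)) ∧
        normalizer (B : Set G) ≤ normalizer (W : Set G) := by
  classical
  haveI : Fact (Nat.Prime 2) := ⟨Nat.prime_two⟩
  haveI := hE.1
  have hcomm : ∀ a ∈ E, ∀ b ∈ E, a * b = b * a := fun a ha b hb =>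
    congrArg Subtype.val (hE.1.is_comm.comm (⟨a, ha⟩ : E) ⟨b, hb⟩)
  have hordE : ∀ a ∈ E, a ≠ 1 → orderOf a = 2 := fun a ha ha1 => orderOf_eq_prime (hE.2 a ha) ha1
  obtain ⟨hW2, hWfix⟩ := Cfsg.Agent.S0217.result (p := 2) E hcomm hE.2 h8 oC
    (fun a _ _ => oC_le a)
    (fun a _ _ hd => Nat.not_even_iff_odd.2 (odd_oC a) (even_iff_two_dvd.2 hd))
    (fun a ha _ b hb x hx => (mem_normalizer_iff.1 (le_normalizer_oC a
      (mem_centralizer_singleton_iff.2 (hcomm b hb a ha))) x).1 hx)
    (fun a _ _ => hodd _ (odd_oC a))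
    (fun a ha ha1 b hb hb1 => balance_two (k := 1) (by rw [hordE a ha ha1, pow_one])
      (hcon b (hordE b hb hb1)) (hcomm a ha b hb))
  set W : Subgroup G := ⨆ a : {a : G // a ∈ E ∧ a ≠ 1}, oC (a : G) with hW
  -- permuted cores
  have hperm : ∀ (T : Set G) (g : G), (∀ t ∈ T, g * t * g⁻¹ ∈ T) →
      (⨆ t : {t : G // t ∈ T ∧ t ≠ 1}, oC (t : G)).map (MulAut.conj g).toMonoidHom ≤
        ⨆ t : {t : G // t ∈ T ∧ t ≠ 1}, oC (t : G) := by
    intro T g hg
    rw [Subgroup.map_iSup]
    refine iSup_le fun t => (map_oC_le g t).trans ?_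
    exact le_iSup (fun t : {t : G // t ∈ T ∧ t ≠ 1} => oC (t : G))
      ⟨g * t * g⁻¹, hg _ t.2.1, fun e => t.2.2 (by simpa [mul_inv_eq_one] using e)⟩
  have hnorm : ∀ T : Subgroup G, normalizer (T : Set G) ≤
      normalizer ((⨆ t : {t : G // t ∈ (T : Set G) ∧ t ≠ 1}, oC (t : G) : Subgroup G) : Set G) := by
    intro T g hg
    rw [mem_normalizer_iff_map_conj_eq]
    refine Subgroup.eq_of_le_of_card_ge (hperm T g fun t ht => (mem_normalizer_iff.1 hg t).1 ht) ?_
    exact le_of_eq (Nat.card_congr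
      (equivMapOfInjective _ _ (MulAut.conj g).injective).toEquiv)
  have hSW : (S : Subgroup G) ≤ normalizer (W : Set G) := hSE.trans (hnorm E)
  have hWodd : Odd (Nat.card W) := Nat.not_even_iff_odd.1 fun h => hW2 h.two_dvd
  -- the fixed four group of an involution of `S`
  have hfour : ∀ y ∈ (S : Subgroup G), orderOf y = 2 →
      2 ^ 2 ≤ Nat.card ↥(E ⊓ centralizer ({y} : Set G)) := fun y hy hy2 =>
    four_le_card_fixed hE h8 (by have := pow_orderOf_eq_one y; rwa [hy2, pow_two] at this) (hSE hy)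
  -- (1) all cores lie in `W`
  have hinvo : ∀ y ∈ (S : Subgroup G), orderOf y = 2 → oC y ≤ W := by
    intro y hy hy2
    haveI : IsMulCommutative ↥(E ⊓ centralizer ({y} : Set G)) :=
      (CfsgLib.Signalizer.elementary_of_le hE inf_le_left).1
    refine CfsgLib.LocalEven.le_of_centralizers_le (p := 2) (A := E ⊓ centralizer ({y} : Set G))
      (fun a ha => hE.2 a ha.1) (hfour y hy hy2) (inf_le_right.trans (le_normalizer_oC y))
      (fun hd => Nat.not_even_iff_odd.2 (odd_oC y) (even_iff_two_dvd.2 hd)) fun a ha ha1 => ?_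
    refine (balance_two (k := 1) (by rw [hy2, pow_one]) (hcon a (hordE a ha.1 ha1))
      (mem_centralizer_singleton_iff.1 ha.2).symm).trans ?_
    exact le_iSup (fun a : {a : G // a ∈ E ∧ a ≠ 1} => oC (a : G)) ⟨a, ha.1, ha1⟩
  have hall : ∀ x ∈ (S : Subgroup G), x ≠ 1 → oC x ≤ W := by
    intro x hx hx1
    obtain ⟨k, hk⟩ := IsPGroup.iff_orderOf.1 S.isPGroup' ⟨x, hx⟩
    rw [Subgroup.orderOf_mk] at hk
    obtain ⟨m, rfl⟩ : ∃ m, k = m + 1 := by
      cases k with
      | zero => exact absurd (orderOf_eq_one_iff.1 (by simpa using hk)) hx1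
      | succ m => exact ⟨m, rfl⟩
    set y := x ^ 2 ^ m with hy
    have hyo : orderOf y = 2 := by
      rw [hy, orderOf_pow_of_dvd (pow_ne_zero m two_ne_zero) (hk ▸ pow_dvd_pow 2 (Nat.le_succ m)), hk,
        pow_succ, Nat.mul_div_cancel_left _ (by positivity)]
    have hxy : x * y = y * x := (Commute.self_pow x _).eq
    refine le_trans ?_ (hinvo y (pow_mem hx _) hyo)
    refine le_trans (le_inf le_rfl ((oC_le x).trans fun c hc => ?_))
      (balance_two hk (hcon y hyo) hxy)
    have h1 : Commute c x := mem_centralizer_singleton_iff.1 hc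
    exact mem_centralizer_singleton_iff.2 (h1.pow_right _).eq
  -- (2) fixed points of involutions of `S`
  have hfix : ∀ b ∈ (S : Subgroup G), orderOf b = 2 → W ⊓ centralizer ({b} : Set G) ≤ oC b := by
    intro b hb hb2
    haveI : IsMulCommutative ↥(E ⊓ centralizer ({b} : Set G)) :=
      (CfsgLib.Signalizer.elementary_of_le hE inf_le_left).1
    refine CfsgLib.LocalEven.le_of_centralizers_le (p := 2) (A := E ⊓ centralizer ({b} : Set G))
      (fun a ha => hE.2 a ha.1) (hfour b hb hb2) ?_ (fun hd => hW2 (hd.trans (card_dvd_of_le inf_le_left)))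
      fun a ha ha1 => ?_
    · refine le_trans (le_inf (inf_le_left.trans (hES.trans hSW)) ?_) inf_normalizer_le_normalizer_inf
      exact inf_le_right.trans le_normalizer
    · rintro w ⟨⟨hwW, hwb⟩, hwa⟩
      have hwa' : w ∈ oC a := (hWfix a ha.1 ha1).le ⟨hwW, hwa⟩
      exact balance_two (k := 1) (by rw [hordE a ha.1 ha1, pow_one]) (hcon b hb2)
        (mem_centralizer_singleton_iff.1 ha.2) ⟨hwa', hwb⟩
  refine ⟨W, hWodd, fun B hBS hB => ?_⟩
  obtain ⟨F, hFc, hF2, hFcard⟩ : ∃ F : Subgroup G, F ≤ B ∧ (∀ a ∈ F, a ^ 2 = 1) ∧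
      (IsMulCommutative F ∧ 2 ^ 2 ≤ Nat.card F) := by
    rw [Cfsg.PRankLE] at hB
    push Not at hB
    obtain ⟨A, hAc, hA2, hA⟩ := hB
    haveI := hAc
    refine ⟨A.map B.subtype, map_subtype_le _, ?_, inferInstance, ?_⟩
    · rintro _ ⟨a, ha, rfl⟩
      exact (congrArg Subtype.val (hA2 a ha) : _)
    · rw [Subgroup.card_map_of_injective B.subtype_injective]
      obtain ⟨n, hn⟩ := (show IsPGroup 2 A from fun a => ⟨1, Subtype.ext (by
        simpa using hA2 a a.2)⟩).exists_card_eq
      rw [hn] at hA ⊢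
      match n, hA with
      | 0, h => simp at h
      | 1, h => simp at h
      | n + 2, _ => exact Nat.pow_le_pow_right two_pos (by omega)
  haveI := hFcard.1
  have heq : W = ⨆ b : {b : G // b ∈ B ∧ b ≠ 1}, oC (b : G) := by
    refine le_antisymm ?_ (iSup_le fun b => hall b (hBS b.2.1) b.2.2)
    refine CfsgLib.LocalEven.le_of_centralizers_le (p := 2) hF2 hFcard.2
      ((hFc.trans hBS).trans hSW) hW2 fun a ha ha1 => ?_
    exact (hfix a (hBS (hFc ha)) (orderOf_eq_prime (hF2 a ha) ha1)).trans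
      (le_iSup (fun b : {b : G // b ∈ B ∧ b ≠ 1} => oC (b : G)) ⟨a, hFc ha, ha1⟩)
  refine ⟨heq, ?_⟩
  rw [heq]
  exact hnorm B

/-- The statement with an `SCN₃(2)` subgroup in some Sylow 2-subgroup. -/
theorem cores_generate_scn (hodd : ∀ X : Subgroup G, Odd (Nat.card X) → Group.IsSolvable X)
    (h2c : ∀ T : Subgroup G, IsPGroup 2 T → T ≠ ⊥ →
      Cfsg.IsPConstrained 2 ↥(normalizer (T : Set G)))
    (S : Sylow 2 G) (A : Subgroup ↥(S : Subgroup G)) (hAn : A.Normal) (hAab : IsMulCommutative ↥A)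
    (hA3 : ¬ Cfsg.PRankLE 2 2 ↥A) (S' : Sylow 2 G) :
    ∃ W : Subgroup G, Odd (Nat.card ↥W) ∧
      ∀ B : Subgroup G, B ≤ (S' : Subgroup G) → ¬ Cfsg.PRankLE 2 1 ↥B →
        W = (⨆ b : {b : G // b ∈ B ∧ b ≠ 1}, Cfsg.centralizerPPrimeCore 2 (b : G)) ∧
        normalizer (B : Set G) ≤ normalizer (W : Set G) := by
  haveI : Fact (Nat.Prime 2) := ⟨Nat.prime_two⟩
  have hcon : ∀ b : G, orderOf b = 2 → Cfsg.IsPConstrained 2 ↥(centralizer ({b} : Set G)) := by
    intro b hb
    have hne : zpowers b ≠ ⊥ := by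
      rw [Ne, zpowers_eq_bot]
      rintro rfl
      simp at hb
    have := h2c (zpowers b) (IsPGroup.of_card (n := 1) (by rw [Nat.card_zpowers, hb, pow_one])) hne
    rwa [normalizer_zpowers hb] at this
  let E₀ : Subgroup G :=
    { carrier := {x | x ∈ A.map (S : Subgroup G).subtype ∧ x ^ 2 = 1}
      one_mem' := ⟨one_mem _, one_pow 2⟩
      mul_mem' := by
        rintro x y ⟨hx, hx2⟩ ⟨hy, hy2⟩
        refine ⟨mul_mem hx hy, ?_⟩
        obtain ⟨x, hxA, rfl⟩ := hx
        obtain ⟨y, hyA, rfl⟩ := hy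
        have hc : x * y = y * x := congrArg Subtype.val (hAab.is_comm.comm (⟨x, hxA⟩ : A) ⟨y, hyA⟩)
        rw [Commute.mul_pow (show Commute ((S : Subgroup G).subtype x) ((S : Subgroup G).subtype y) from
          congrArg Subtype.val hc), hx2, hy2, one_mul]
      inv_mem' := by
        rintro x ⟨hx, hx2⟩
        exact ⟨inv_mem hx, by rw [inv_pow, hx2, inv_one]⟩ }
  have hEel : Cfsg.IsElementaryAbelian 2 E₀ := by
    refine ⟨⟨⟨fun x y => Subtype.ext ?_⟩⟩, fun a ha => ha.2⟩
    obtain ⟨a, ha, hax⟩ := x.2.1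
    obtain ⟨b, hb, hby⟩ := y.2.1
    show (x : G) * y = y * x
    rw [← hax, ← hby]
    exact congrArg (fun z : A => ((z : ↥(S : Subgroup G)) : G)) (hAab.is_comm.comm ⟨a, ha⟩ ⟨b, hb⟩)
  have hE8 : 8 ≤ Nat.card E₀ := by
    rw [Cfsg.PRankLE] at hA3
    push Not at hA3
    obtain ⟨D, _, hD2, hD⟩ := hA3
    obtain ⟨n, hn⟩ := (show IsPGroup 2 D from fun a => ⟨1, Subtype.ext (by
      simpa using hD2 a a.2)⟩).exists_card_eq
    have h8 : 8 ≤ Nat.card D := by
      rw [hn] at hD ⊢
      match n, hD with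
      | 0, h => simp at h
      | 1, h => simp at h
      | 2, h => simp at h
      | n + 3, _ => exact (by norm_num : 8 = 2 ^ 3).le.trans (Nat.pow_le_pow_right two_pos (by omega))
    refine h8.trans ?_
    rw [← Subgroup.card_map_of_injective (K := D)
      (f := (S : Subgroup G).subtype.comp A.subtype)
      ((S : Subgroup G).subtype_injective.comp A.subtype_injective)]
    refine Subgroup.card_le_of_le ?_
    rintro _ ⟨d, hd, rfl⟩
    exact ⟨⟨d, d.2, rfl⟩, by rw [← map_pow, hD2 d hd, map_one]⟩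
  have hEle : E₀ ≤ (S : Subgroup G) := fun x hx => map_subtype_le A hx.1
  have hEn : (S : Subgroup G) ≤ normalizer (E₀ : Set G) := by
    refine CfsgLib.Signalizer.conj_mem_iff_le_normalizer.1 ?_
    intro s hs x hx
    obtain ⟨a, ha, rfl⟩ := hx.1
    exact ⟨⟨⟨s, hs⟩ * a * ⟨s, hs⟩⁻¹, hAn.conj_mem a ha _, rfl⟩, by rw [conj_pow, hx.2]; group⟩
  obtain ⟨g, hg⟩ := MulAction.exists_smul_eq G S S'
  have hS' : (S : Subgroup G).map (MulAut.conj g).toMonoidHom = (S' : Subgroup G) := by
    rw [← hg, Sylow.coe_subgroup_smul]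
    rfl
  refine cores_generate hodd hcon S' (E := E₀.map (MulAut.conj g).toMonoidHom) ?_ ?_ ?_ ?_
  · haveI := hEel.1
    refine ⟨inferInstance, ?_⟩
    rintro _ ⟨x, hx, rfl⟩
    rw [← map_pow, hEel.2 x hx, map_one]
  · rwa [CfsgLib.Transfer.card_map_conj]
  · rw [← hS']
    exact map_mono hEle
  · rw [← hS']
    exact (map_mono hEn).trans (le_normalizer_map _)

end CfsgLib.Signalizer.CoresGen
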