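import Cfsg.Agent.Lib.Signalizer.Involutions
import Cfsg.Agent.Lib.Transfer.Fusion

/-!
Owner: helper11. Involution classes with a four-group as Sylow 2-subgroup.
-/

set_option autoImplicit false

namespace CfsgLib.Signalizer

open Subgroup

variable {G : Type*} [Group G] [Finite G]

/-- The set of classes of involutions. -/
abbrev InvClass (G : Type*) [Group G] : Type _ :=
  {C : ConjClasses G // ∃ t : G, orderOf t = 2 ∧ ConjClasses.mk t = C}

variable (P : Sylow 2 G)

theorem klein_comm (hP : IsKleinFour (P : Subgroup G)) : IsMulCommutative (P : Subgroup G) :=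
  IsPGroup.isMulCommutative_of_card_eq_prime_sq (p := 2) (hP.card_four.trans (by norm_num))

theorem klein_orderOf (hP : IsKleinFour (P : Subgroup G)) {a : G} (ha : a ∈ (P : Subgroup G))
    (h1 : a ≠ 1) : orderOf a = 2 := by
  haveI := hP
  exact orderOf_eq_two_of h1 (congrArg Subtype.val (IsKleinFour.mul_self (⟨a, ha⟩ : (P : Subgroup G))))

theorem exists_conj_mem_sylow {t : G} (ht : orderOf t = 2) :
    ∃ g : G, g * t * g⁻¹ ∈ (P : Subgroup G) := by
  obtain ⟨Q, hQ⟩ := (IsPGroup.of_card (p := 2) (G := zpowers t) (n := 1)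
    (by rw [Nat.card_zpowers, ht, pow_one])).exists_le_sylow
  obtain ⟨g, rfl⟩ := MulAction.exists_smul_eq G P Q
  exact ⟨g⁻¹, by rw [inv_inv]; exact CfsgLib.Transfer.mem_sylow_smul.mp (hQ (mem_zpowers t))⟩

theorem klein_three (hP : IsKleinFour (P : Subgroup G))
    (hcent : Subgroup.normalizer ((P : Subgroup G) : Set G) ≤ centralizer ((P : Subgroup G) : Set G)) :
    Nat.card (InvClass G) = 3 ∧ ∃ N : Subgroup G, N.Normal ∧ IsComplement' N (P : Subgroup G) := by
  refine ⟨?_, ⟨_, inferInstance, MonoidHom.ker_transferSylow_isComplement' P hcent⟩⟩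
  classical
  have hne : ∀ a : {a : (P : Subgroup G) // a ≠ 1}, (a.1 : G) ≠ 1 :=
    fun a e => a.2 (Subtype.ext e)
  let F : {a : (P : Subgroup G) // a ≠ 1} → InvClass G :=
    fun a => ⟨ConjClasses.mk (a.1 : G), a.1, klein_orderOf P hP a.1.2 (hne a), rfl⟩
  have hF : Function.Bijective F := by
    constructor
    · intro a b h
      have hc : IsConj (a.1 : G) b.1 := ConjClasses.mk_eq_mk_iff_isConj.mp (congrArg Subtype.val h)
      obtain ⟨g, hg⟩ := isConj_iff.mp hc
      obtain ⟨n, hn, hnc⟩ := CfsgLib.Transfer.exists_normalizer_conj_of_isMulCommutative P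
        (klein_comm P hP) (X := {(a.1 : G)}) (Set.singleton_subset_iff.mpr a.1.2) (g := g⁻¹)
        (by
          rintro _ ⟨x, hx, rfl⟩
          rw [Set.mem_singleton_iff] at hx
          subst hx
          simp only [inv_inv, hg]
          exact b.1.2)
      have h1 := hnc _ (Set.mem_singleton _)
      rw [inv_inv, hg] at h1
      have h2 : Commute (a.1 : G) n := mem_centralizer_iff.mp (hcent hn) _ a.1.2
      rw [mul_assoc, h2.eq, inv_mul_cancel_left] at h1
      exact Subtype.ext (Subtype.ext h1)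
    · rintro ⟨C, t, ht, rfl⟩
      obtain ⟨g, hg⟩ := exists_conj_mem_sylow P ht
      refine ⟨⟨⟨g * t * g⁻¹, hg⟩, fun e => ?_⟩, Subtype.ext ?_⟩
      · have h1 : g * t * g⁻¹ = 1 := congrArg Subtype.val e
        exact involution_ne_one ((orderOf_conj g t).trans ht) h1
      · exact ConjClasses.mk_eq_mk_iff_isConj.mpr (isConj_iff.mpr ⟨g, rfl⟩).symm
  rw [← Nat.card_congr (Equiv.ofBijective F hF)]
  haveI := Fintype.ofFinite (P : Subgroup G)
  have hcard := hP.card_four
  rw [Nat.card_eq_fintype_card] at hcard ⊢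
  rw [Fintype.card_subtype_compl, Fintype.card_subtype_eq, hcard]

theorem klein_one (hP : IsKleinFour (P : Subgroup G))
    (hcent : ¬ Subgroup.normalizer ((P : Subgroup G) : Set G) ≤
      centralizer ((P : Subgroup G) : Set G)) :
    Nat.card (InvClass G) = 1 ∧
      ¬ ∃ N : Subgroup G, N.Normal ∧ IsComplement' N (P : Subgroup G) := by
  obtain ⟨n₀, hn₀, hn₀C⟩ := SetLike.not_le_iff_exists.mp hcent
  -- an element of odd order acting nontrivially
  obtain ⟨n, hnN, hnodd, hnC⟩ : ∃ n ∈ Subgroup.normalizer ((P : Subgroup G) : Set G),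
      Odd (orderOf n) ∧ n ∉ centralizer ((P : Subgroup G) : Set G) := by
    obtain ⟨k, m, hm, hord⟩ := Nat.exists_eq_two_pow_mul_odd (orderOf_pos n₀).ne'
    have h2 : n₀ ^ m ∈ (P : Subgroup G) := by
      have hp : IsPGroup 2 (zpowers (n₀ ^ m)) :=
        IsPGroup.of_card (n := k) (by
          rw [Nat.card_zpowers, orderOf_pow, hord, Nat.gcd_mul_left_left, Nat.mul_div_cancel _ hm.pos])
      exact ((hp.inf_normalizer_sylow P).le ⟨mem_zpowers _, pow_mem hn₀ m⟩).2
    refine ⟨n₀ ^ 2 ^ k, pow_mem hn₀ _, ?_, fun h => hn₀C ?_⟩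
    · rw [orderOf_pow, hord, Nat.gcd_mul_right_left, Nat.mul_div_cancel_left _ (Nat.two_pow_pos k)]
      exact hm
    · obtain ⟨u, v, huv⟩ := Int.isCoprime_iff_nat_coprime.mpr
        (show Nat.Coprime (2 ^ k : ℤ).natAbs (m : ℤ).natAbs by
          simpa [Int.natAbs_pow] using Nat.Coprime.pow_left k (Nat.coprime_two_left.mpr hm))
      have hP' : n₀ ^ m ∈ centralizer ((P : Subgroup G) : Set G) :=
        mem_centralizer_iff.mpr fun y hy =>
          congrArg Subtype.val ((klein_comm P hP).is_comm.comm ⟨y, hy⟩ ⟨_, h2⟩)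
      rw [← zpow_one n₀, ← huv, zpow_add, mul_comm u, mul_comm v, zpow_mul, zpow_mul,
        zpow_natCast]
      refine mul_mem (zpow_mem ?_ _) (zpow_mem hP' _)
      rw [show ((2 : ℤ) ^ k) = ((2 ^ k : ℕ) : ℤ) by norm_num, zpow_natCast]
      exact h
  obtain ⟨a, ha, hna⟩ : ∃ a ∈ (P : Subgroup G), n * a * n⁻¹ ≠ a := by
    by_contra hcon
    push Not at hcon
    exact hnC (mem_centralizer_iff.mpr fun a ha =>
      (mul_inv_eq_iff_eq_mul.mp (hcon a ha)).symm)
  set b := n * a * n⁻¹ with hb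
  have ha1 : a ≠ 1 := fun e => hna (by rw [hb, e]; group)
  have hbP : b ∈ (P : Subgroup G) := (mem_normalizer_iff.mp hnN a).mp ha
  have hb1 : b ≠ 1 := fun e => ha1 (by simpa [hb] using e)
  set c := n * b * n⁻¹ with hc
  have hcP : c ∈ (P : Subgroup G) := (mem_normalizer_iff.mp hnN b).mp hbP
  have hc1 : c ≠ 1 := fun e => hb1 (by simpa [hc] using e)
  have hcb : c ≠ b := by
    intro e
    apply hna
    have : n * b * n⁻¹ = n * a * n⁻¹ := by rw [← hc, e, ← hb]
    simpa using this
  have hca : c ≠ a := by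
    intro e
    apply hna
    have h2 : Commute (n ^ 2) a := by
      show _ = _
      rw [← mul_inv_eq_iff_eq_mul, sq, mul_inv_rev,
        show n * n * a * (n⁻¹ * n⁻¹) = n * (n * a * n⁻¹) * n⁻¹ by group, ← hb, ← hc, e]
    obtain ⟨m, hm⟩ := hnodd
    have h3 : n = (n ^ 2) ^ (m + 1) := by
      rw [← pow_mul, show 2 * (m + 1) = 2 * m + 1 + 1 by ring, pow_succ, ← hm, pow_orderOf_eq_one,
        one_mul]
    have h4 : Commute n a := by rw [h3]; exact h2.pow_left _
    rw [hb, h4.eq, mul_inv_cancel_right]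
  haveI := hP
  have hall : ∀ x ∈ (P : Subgroup G), x ≠ 1 → IsConj a x := by
    intro x hx hx1
    have hab : (⟨a, ha⟩ : (P : Subgroup G)) ≠ ⟨b, hbP⟩ := fun e =>
      hna (congrArg Subtype.val e).symm
    have e3 : (⟨c, hcP⟩ : (P : Subgroup G)) = ⟨a, ha⟩ * ⟨b, hbP⟩ :=
      IsKleinFour.eq_mul_of_ne_all (fun e => ha1 (congrArg Subtype.val e)) (fun e => hb1 (congrArg Subtype.val e))
        hab (fun e => hc1 (congrArg Subtype.val e)) (fun e => hca (congrArg Subtype.val e))
        (fun e => hcb (congrArg Subtype.val e))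
    have hac : IsConj a c := isConj_iff.mpr ⟨n * n, by rw [hc, hb]; group⟩
    by_cases hxa : x = a
    · rw [hxa]
    by_cases hxb : x = b
    · rw [hxb]; exact isConj_iff.mpr ⟨n, rfl⟩
    have e4 : (⟨x, hx⟩ : (P : Subgroup G)) = ⟨a, ha⟩ * ⟨b, hbP⟩ :=
      IsKleinFour.eq_mul_of_ne_all (fun e => ha1 (congrArg Subtype.val e)) (fun e => hb1 (congrArg Subtype.val e))
        hab (fun e => hx1 (congrArg Subtype.val e)) (fun e => hxa (congrArg Subtype.val e))
        (fun e => hxb (congrArg Subtype.val e))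
    have : x = c := congrArg Subtype.val (e4.trans e3.symm)
    rwa [this]
  constructor
  · rw [Nat.card_eq_one_iff_exists]
    refine ⟨⟨ConjClasses.mk a, a, klein_orderOf P hP ha ha1, rfl⟩, ?_⟩
    rintro ⟨C, t, ht, rfl⟩
    obtain ⟨g, hg⟩ := exists_conj_mem_sylow P ht
    apply Subtype.ext
    show ConjClasses.mk t = ConjClasses.mk a
    refine ConjClasses.mk_eq_mk_iff_isConj.mpr (IsConj.trans (isConj_iff.mpr ⟨g, rfl⟩) ?_)
    exact (hall _ hg (involution_ne_one ((orderOf_conj g t).trans ht))).symm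
  · rintro ⟨N, hN, hNP⟩
    have hidx : N.index = 4 := hNP.symm.index_eq_card.trans hP.card_four
    haveI : IsMulCommutative (G ⧸ N) :=
      IsPGroup.isMulCommutative_of_card_eq_prime_sq (p := 2)
        (by rw [← Subgroup.index_eq_card, hidx]; norm_num)
    have h1 : ((b * a⁻¹ : G) : G ⧸ N) = 1 := by
      rw [hb, QuotientGroup.mk_mul, QuotientGroup.mk_mul, QuotientGroup.mk_mul,
        mul_comm' (n : G ⧸ N) (a : G ⧸ N), QuotientGroup.mk_inv, QuotientGroup.mk_inv,
        mul_inv_cancel_right, mul_inv_cancel]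
    have h2 : b * a⁻¹ ∈ N ⊓ (P : Subgroup G) :=
      mem_inf.mpr ⟨(QuotientGroup.eq_one_iff _).mp h1, mul_mem hbP (inv_mem ha)⟩
    rw [hNP.disjoint.eq_bot, mem_bot, mul_inv_eq_one] at h2
    exact hna h2

theorem card_involution_classes (hP : IsKleinFour (P : Subgroup G)) :
    Nat.card (InvClass G) = 1 ∨ Nat.card (InvClass G) = 3 := by
  by_cases h : Subgroup.normalizer ((P : Subgroup G) : Set G) ≤
      centralizer ((P : Subgroup G) : Set G)
  · exact Or.inr (klein_three P hP h).1
  · exact Or.inl (klein_one P hP h).1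

theorem three_classes_iff (hP : IsKleinFour (P : Subgroup G)) :
    Nat.card (InvClass G) = 3 ↔ ∃ N : Subgroup G, N.Normal ∧ IsComplement' N (P : Subgroup G) := by
  by_cases h : Subgroup.normalizer ((P : Subgroup G) : Set G) ≤
      centralizer ((P : Subgroup G) : Set G)
  · exact ⟨fun _ => (klein_three P hP h).2, fun _ => (klein_three P hP h).1⟩
  · obtain ⟨h1, h2⟩ := klein_one P hP h
    exact ⟨fun h3 => by omega, fun h3 => absurd h3 h2⟩

end CfsgLib.Signalizer
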