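import Cfsg.Agent.Lib.Signalizer.Count

/-!
Owner: helper11. The Thompson order formula with two classes of involutions.
-/

set_option autoImplicit false

namespace CfsgLib.Signalizer

open Subgroup

variable {G : Type*} [Group G]

theorem unique_involution_in_zpowers [Finite G] {x z z' : G} (hz : z ∈ zpowers x)
    (hz' : z' ∈ zpowers x) (ho : orderOf z = 2) (ho' : orderOf z' = 2) : z = z' := by
  classical
  haveI := Fintype.ofFinite (zpowers x)
  by_contra hne
  have hcnt := IsCyclic.card_pow_eq_one_le (α := zpowers x) (n := 2) (by norm_num)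
  have hsub : ({1, ⟨z, hz⟩, ⟨z', hz'⟩} : Finset (zpowers x)) ⊆
      Finset.univ.filter (fun r => r ^ 2 = 1) := by
    intro r hr
    simp only [Finset.mem_insert, Finset.mem_singleton] at hr
    simp only [Finset.mem_filter, Finset.mem_univ, true_and]
    rcases hr with rfl | rfl | rfl
    · exact one_pow 2
    · exact Subtype.ext ((sq z).trans (involution_sq ho))
    · exact Subtype.ext ((sq z').trans (involution_sq ho'))
  have h3 := (Finset.card_le_card hsub).trans hcnt
  rw [Finset.card_eq_three.mpr ⟨_, _, _,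
    fun h => involution_ne_one ho (congrArg Subtype.val h).symm,
    fun h => involution_ne_one ho' (congrArg Subtype.val h).symm,
    fun h => hne (congrArg Subtype.val h), rfl⟩] at h3
  omega

/-- Pairs from two classes whose product has `z` among its powers. -/
abbrev ClassPairs (x₁ x₂ z : G) : Type _ :=
  {p : G × G // IsConj x₁ p.1 ∧ IsConj x₂ p.2 ∧ z ∈ zpowers (p.1 * p.2)}

theorem card_classPairs_conj (x₁ x₂ : G) {z z' : G} (h : IsConj z z') :
    Nat.card (ClassPairs x₁ x₂ z') = Nat.card (ClassPairs x₁ x₂ z) := by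
  obtain ⟨g, rfl⟩ := isConj_iff.mp h
  refine (Nat.card_congr (Equiv.subtypeEquiv
    (Equiv.prodCongr (MulAut.conj g).toEquiv (MulAut.conj g).toEquiv) ?_)).symm
  intro p
  have hc : ∀ x y : G, IsConj x (g * y * g⁻¹) ↔ IsConj x y := fun x y =>
    ⟨fun h => h.trans (isConj_iff.mpr ⟨g, rfl⟩).symm, fun h => h.trans (isConj_iff.mpr ⟨g, rfl⟩)⟩
  show _ ↔ IsConj x₁ (g * p.1 * g⁻¹) ∧ IsConj x₂ (g * p.2 * g⁻¹) ∧
    g * z * g⁻¹ ∈ zpowers (g * p.1 * g⁻¹ * (g * p.2 * g⁻¹))
  rw [hc, hc, show g * p.1 * g⁻¹ * (g * p.2 * g⁻¹) = g * (p.1 * p.2) * g⁻¹ by group,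
    mem_zpowers_iff, mem_zpowers_iff]
  simp only [conj_zpow, mul_left_inj, mul_right_inj]

theorem orderOf_of_isConj {x y : G} (h : IsConj x y) : orderOf y = orderOf x := by
  obtain ⟨g, rfl⟩ := isConj_iff.mp h
  exact orderOf_conj g x

theorem thompson_order_formula [Finite G] (x₁ x₂ : G) (h₁ : orderOf x₁ = 2) (h₂ : orderOf x₂ = 2)
    (hnc : ¬ IsConj x₁ x₂) (hall : ∀ t : G, orderOf t = 2 → IsConj x₁ t ∨ IsConj x₂ t) :
    Nat.card G = Nat.card (centralizer ({x₂} : Set G)) * Nat.card (ClassPairs x₁ x₂ x₁) +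
      Nat.card (centralizer ({x₁} : Set G)) * Nat.card (ClassPairs x₁ x₂ x₂) := by
  classical
  let f : (Σ z : {z : G // orderOf z = 2}, ClassPairs x₁ x₂ z.1) →
      {y : G // IsConj x₁ y} × {y : G // IsConj x₂ y} :=
    fun s => (⟨s.2.1.1, s.2.2.1⟩, ⟨s.2.1.2, s.2.2.2.1⟩)
  have hf : Function.Bijective f := by
    constructor
    · rintro ⟨z, p⟩ ⟨z', p'⟩ h
      have h1 : p.1.1 = p'.1.1 := congrArg (fun q => q.1.1) h
      have h2 : p.1.2 = p'.1.2 := congrArg (fun q => q.2.1) h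
      obtain ⟨⟨u, v⟩, hp⟩ := p
      obtain ⟨⟨u', v'⟩, hp'⟩ := p'
      dsimp only at h1 h2
      subst h1 h2
      obtain rfl : z = z' := Subtype.ext (unique_involution_in_zpowers hp.2.2 hp'.2.2 z.2 z'.2)
      rfl
    · rintro ⟨⟨u, hu⟩, ⟨v, hv⟩⟩
      have hu2 : orderOf u = 2 := (orderOf_of_isConj hu).trans h₁
      have hv2 : orderOf v = 2 := (orderOf_of_isConj hv).trans h₂
      have heven : Even (orderOf (u * v)) := by
        rw [← Nat.not_odd_iff_even]
        intro ho
        obtain ⟨d, -, hd⟩ := exists_conj_of_odd hu2 hv2 ho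
        exact hnc (hu.trans ((isConj_iff.mpr ⟨d, hd⟩).trans hv.symm))
      exact ⟨⟨⟨_, (central_involution hu2 hv2 heven).1⟩, ⟨(u, v), hu, hv,
        pow_mem (mem_zpowers _) _⟩⟩, rfl⟩
  let e : {y : G // IsConj x₁ y} ⊕ {y : G // IsConj x₂ y} ≃ {z : G // orderOf z = 2} :=
    Equiv.ofBijective (fun s => s.elim
      (fun y => (⟨y.1, (orderOf_of_isConj y.2).trans h₁⟩ : {z : G // orderOf z = 2}))
      (fun y => ⟨y.1, (orderOf_of_isConj y.2).trans h₂⟩)) (by
      constructor
      · rintro (a | a) (b | b) h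
        · exact congrArg Sum.inl (Subtype.ext (congrArg Subtype.val h : _))
        · exact absurd ((congrArg Subtype.val h : a.1 = b.1) ▸ a.2 |>.trans b.2.symm) hnc
        · exact absurd ((congrArg Subtype.val h : a.1 = b.1).symm ▸ b.2 |>.trans a.2.symm) hnc
        · exact congrArg Sum.inr (Subtype.ext (congrArg Subtype.val h : _))
      · rintro ⟨z, hz⟩
        rcases hall z hz with h | h
        · exact ⟨Sum.inl ⟨z, h⟩, rfl⟩
        · exact ⟨Sum.inr ⟨z, h⟩, rfl⟩)
  have hcount := Nat.card_congr (Equiv.ofBijective f hf)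
  haveI := Fintype.ofFinite {z : G // orderOf z = 2}
  haveI := Fintype.ofFinite {y : G // IsConj x₁ y}
  haveI := Fintype.ofFinite {y : G // IsConj x₂ y}
  rw [Nat.card_sigma, Nat.card_prod, ← Equiv.sum_comp e, Fintype.sum_sum_type] at hcount
  have e1 : ∀ y, Nat.card (ClassPairs x₁ x₂ (e (Sum.inl y)).1) =
      Nat.card (ClassPairs x₁ x₂ x₁) := fun y => card_classPairs_conj x₁ x₂ y.2
  have e2 : ∀ y, Nat.card (ClassPairs x₁ x₂ (e (Sum.inr y)).1) =
      Nat.card (ClassPairs x₁ x₂ x₂) := fun y => card_classPairs_conj x₁ x₂ y.2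
  simp only [e1, e2, Finset.sum_const, Finset.card_univ, smul_eq_mul,
    ← Nat.card_eq_fintype_card] at hcount
  have hk1 := card_conj_class x₁
  have hk2 := card_conj_class x₂
  set k1 := Nat.card {y : G // IsConj x₁ y}
  set k2 := Nat.card {y : G // IsConj x₂ y}
  set c1 := Nat.card (centralizer ({x₁} : Set G))
  set c2 := Nat.card (centralizer ({x₂} : Set G))
  apply Nat.eq_of_mul_eq_mul_left (Nat.card_pos (α := G))
  calc Nat.card G * Nat.card G = (k1 * c1) * (k2 * c2) := by rw [hk1, hk2]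
    _ = c1 * c2 * (k1 * k2) := by ring
    _ = c1 * c2 * (k1 * Nat.card (ClassPairs x₁ x₂ x₁) + k2 * Nat.card (ClassPairs x₁ x₂ x₂)) := by
        rw [hcount]
    _ = (k1 * c1) * c2 * Nat.card (ClassPairs x₁ x₂ x₁) +
        (k2 * c2) * c1 * Nat.card (ClassPairs x₁ x₂ x₂) := by ring
    _ = _ := by rw [hk1, hk2]; ring

end CfsgLib.Signalizer
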