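import Cfsg.Agent.Lib.Signalizer.Basic
import Cfsg.Agent.Lib.Transfer.Conj

/-!
Owner: helper11. The transitivity theorem for signalizer functors.
-/

set_option autoImplicit false

namespace CfsgLib.Signalizer

open Subgroup

variable {G : Type*} [Group G] [Finite G] {p : ℕ} [hp : Fact p.Prime]
variable {A : Subgroup G} {θ : G → Subgroup G}

/-- Common generator: two invariant `q`-groups grow over their meet inside one centralizer. -/
theorem exists_common_growth (hA : Cfsg.IsElementaryAbelian p A) (hA3 : p ^ 3 ≤ Nat.card A)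
    {q : ℕ} [Fact q.Prime] (hqp : q ≠ p) {Q₁ Q₂ : Subgroup G} (h₁ : IsPGroup q Q₁)
    (h₂ : IsPGroup q Q₂) (hA₁ : A ≤ normalizer (Q₁ : Set G))
    (hA₂ : A ≤ normalizer (Q₂ : Set G)) (hD₁ : Q₁ ⊓ Q₂ ≠ Q₁) (hD₂ : Q₁ ⊓ Q₂ ≠ Q₂) :
    ∃ a ∈ A, a ≠ 1 ∧
      ¬ (normalizer ((Q₁ ⊓ Q₂ : Subgroup G) : Set G) ⊓ Q₁ ⊓ centralizer {a} ≤ Q₁ ⊓ Q₂) ∧
      ¬ (normalizer ((Q₁ ⊓ Q₂ : Subgroup G) : Set G) ⊓ Q₂ ⊓ centralizer {a} ≤ Q₁ ⊓ Q₂) := by
  have hAD : A ≤ normalizer ((Q₁ ⊓ Q₂ : Subgroup G) : Set G) := le_normalizer_inf hA₁ hA₂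
  set D := Q₁ ⊓ Q₂
  have key : ∀ Q : Subgroup G, IsPGroup q Q → A ≤ normalizer (Q : Set G) → D < Q →
      ∃ B : Subgroup G, B ≤ A ∧ B.relIndex A ≤ p ∧
        ¬ (normalizer (D : Set G) ⊓ Q ⊓ centralizer (B : Set G) ≤ D) := by
    intro Q hQ hAQ hlt
    by_contra hcon
    push Not at hcon
    have hgrow := CfsgLib.Transfer.lt_inf_normalizer hQ hlt
    refine hgrow.not_ge ?_
    rw [inf_comm]
    refine le_of_hyperplanes_le hA ?_ ((le_inf (hAD.trans le_normalizer) hAQ).trans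
      inf_normalizer_le_normalizer_inf) hcon
    intro hd
    obtain ⟨k, hk⟩ := IsPGroup.iff_card.mp (hQ.to_le (inf_le_right : normalizer (D : Set G) ⊓ Q ≤ Q))
    rw [hk] at hd
    exact hqp ((Nat.prime_dvd_prime_iff_eq hp.out Fact.out).mp (hp.out.dvd_of_dvd_pow hd)).symm
  obtain ⟨B₁, hB₁, hi₁, hn₁⟩ := key Q₁ h₁ hA₁ (lt_of_le_of_ne inf_le_left hD₁)
  obtain ⟨B₂, hB₂, hi₂, hn₂⟩ := key Q₂ h₂ hA₂ (lt_of_le_of_ne inf_le_right hD₂)
  have hne : B₁ ⊓ B₂ ≠ ⊥ := by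
    intro e
    have h2 : (B₁ ⊓ B₂).relIndex A ≤ p * p :=
      (relIndex_inf_le).trans (Nat.mul_le_mul hi₁ hi₂)
    rw [e, relIndex_bot_left] at h2
    have := hp.out.two_le
    have : p * p < p ^ 3 := by rw [pow_succ, sq]; exact lt_mul_of_one_lt_right (by positivity) (by omega)
    omega
  obtain ⟨⟨a, ha⟩, ha0⟩ := (B₁ ⊓ B₂).ne_bot_iff_exists_ne_one.mp hne
  refine ⟨a, hB₁ ha.1, fun e => ha0 (Subtype.ext e), fun h => hn₁ ?_, fun h => hn₂ ?_⟩
  · exact (inf_le_inf_left _ (centralizer_le (Set.singleton_subset_iff.mpr ha.1))).trans h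
  · exact (inf_le_inf_left _ (centralizer_le (Set.singleton_subset_iff.mpr ha.2))).trans h

theorem conj_mem_theta (hθ : Cfsg.IsSignalizerFunctor p A θ) {c : G}
    (hc : c ∈ Cfsg.signalizerInf A θ) {a : G} (ha : a ∈ A) (ha1 : a ≠ 1) :
    c * a * c⁻¹ = a ∧ c ∈ θ a := by
  have h := mem_inf_iff.mp hc a ha ha1
  exact ⟨mul_inv_eq_iff_eq_mul.mpr (mem_centralizer_singleton_iff.mp (hθ.1 a ha ha1 h)), h⟩

theorem conj_mem_family (hθ : Cfsg.IsSignalizerFunctor p A θ) {c : G}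
    (hc : c ∈ Cfsg.signalizerInf A θ) {U : Subgroup G} (hU : U ∈ Cfsg.signalizerFamily p A θ) :
    U.map (MulAut.conj c).toMonoidHom ∈ Cfsg.signalizerFamily p A θ := by
  have hcomm : ∀ a ∈ A, c * a = a * c := fun a ha =>
    (mem_centralizer_iff.mp (inf_le_centralizer hθ le_rfl hc) a ha).symm
  refine ⟨haveI := hU.1; solvable_of_surjective ((MulAut.conj c).toMonoidHom.subgroupMap_surjective U),
    by rw [CfsgLib.Transfer.card_map_conj]; exact hU.2.1, ?_, ?_⟩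
  · rintro b hb _ ⟨u, hu, rfl⟩
    refine ⟨b * u * b⁻¹, hU.2.2.1 b hb u hu, ?_⟩
    show c * (b * u * b⁻¹) * c⁻¹ = b * (c * u * c⁻¹) * b⁻¹
    have h1 : c * (b * u * b⁻¹) * c⁻¹ = (c * b) * u * (c * b)⁻¹ := by group
    rw [h1, hcomm b hb]; group
  · intro a ha ha1
    rintro _ ⟨⟨u, hu, rfl⟩, hcu⟩
    obtain ⟨hfix, hca⟩ := conj_mem_theta hθ hc ha ha1
    have hu2 : u ∈ centralizer ({a} : Set G) := by
      rw [mem_centralizer_singleton_iff]
      have h1 : c * u * c⁻¹ * (c * a * c⁻¹) = c * a * c⁻¹ * (c * u * c⁻¹) := by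
        rw [hfix]; exact mem_centralizer_singleton_iff.mp hcu
      have h3 : c * (u * a) * c⁻¹ = c * (a * u) * c⁻¹ := by simpa [mul_assoc] using h1
      exact mul_left_cancel (mul_right_cancel h3)
    exact mul_mem (mul_mem hca (hU.2.2.2 a ha ha1 ⟨hu, hu2⟩)) (inv_mem hca)

variable {q : ℕ} [hq : Fact q.Prime]

/-- A maximal `q`-member of the family. -/
def IsMaxMember (p : ℕ) (A : Subgroup G) (θ : G → Subgroup G) (q : ℕ) (Q : Subgroup G) : Prop :=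
  Q ∈ Cfsg.signalizerFamily p A θ ∧ IsPGroup q Q ∧
    ∀ R ∈ Cfsg.signalizerFamily p A θ, IsPGroup q R → Q ≤ R → R = Q

omit hq hp in
theorem exists_maxMember {R : Subgroup G} (hR : R ∈ Cfsg.signalizerFamily p A θ)
    (hRq : IsPGroup q R) : ∃ Q, R ≤ Q ∧ IsMaxMember p A θ q Q := by
  obtain ⟨Q, hQ, ⟨hQF, hQq⟩, hmax⟩ := Set.Finite.exists_le_maximal
    (s := {U : Subgroup G | U ∈ Cfsg.signalizerFamily p A θ ∧ IsPGroup q U})
    (Set.toFinite _) (a := R) ⟨hR, hRq⟩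
  exact ⟨Q, hQ, hQF, hQq, fun U hU hUq hle => le_antisymm (hmax ⟨hU, hUq⟩ hle) hle⟩

omit hq in
theorem conj_maxMember (hθ : Cfsg.IsSignalizerFunctor p A θ) {c : G}
    (hc : c ∈ Cfsg.signalizerInf A θ) {Q : Subgroup G} (hQ : IsMaxMember p A θ q Q) :
    IsMaxMember p A θ q (Q.map (MulAut.conj c).toMonoidHom) := by
  refine ⟨conj_mem_family hθ hc hQ.1, hQ.2.1.map _, fun R hR hRq hle => ?_⟩
  have e := hQ.2.2 _ (conj_mem_family hθ (inv_mem hc) hR) (hRq.map _) (fun x hx => by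
    refine ⟨c * x * c⁻¹, hle ⟨x, hx, rfl⟩, ?_⟩
    show c⁻¹ * (c * x * c⁻¹) * c⁻¹⁻¹ = x
    group)
  rw [← e]
  ext x
  rw [CfsgLib.Transfer.mem_map_conj, CfsgLib.Transfer.mem_map_conj, inv_inv,
    show c * (c⁻¹ * x * c) * c⁻¹ = x by group]

/-- The transitivity theorem. -/
theorem transitivity (hA : Cfsg.IsElementaryAbelian p A) (hA3 : p ^ 3 ≤ Nat.card A)
    (hθ : Cfsg.IsSolvableSignalizerFunctor p A θ) {Q₁ Q₂ : Subgroup G}
    (hQ₁ : IsMaxMember p A θ q Q₁) (hQ₂ : IsMaxMember p A θ q Q₂) :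
    ∃ c ∈ Cfsg.signalizerInf A θ, Q₁.map (MulAut.conj c).toMonoidHom = Q₂ := by
  suffices key : ∀ n : ℕ, ∀ Q₁ Q₂ : Subgroup G, IsMaxMember p A θ q Q₁ → IsMaxMember p A θ q Q₂ →
      Nat.card G - Nat.card ↥(Q₁ ⊓ Q₂) = n →
      ∃ c ∈ Cfsg.signalizerInf A θ, Q₁.map (MulAut.conj c).toMonoidHom = Q₂ from
    key _ Q₁ Q₂ hQ₁ hQ₂ rfl
  intro n
  induction n using Nat.strong_induction_on with
  | _ n ih =>
    intro Q₁ Q₂ hQ₁ hQ₂ hn
    have hconj1 : ∀ Q : Subgroup G, Q.map (MulAut.conj (1 : G)).toMonoidHom = Q := fun Q => by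
      ext x; rw [CfsgLib.Transfer.mem_map_conj]; simp
    by_cases h1 : Q₁ ⊓ Q₂ = Q₁
    · exact ⟨1, one_mem _, by
        rw [hconj1]; exact (hQ₁.2.2 Q₂ hQ₂.1 hQ₂.2.1 (h1 ▸ inf_le_right)).symm⟩
    by_cases h2 : Q₁ ⊓ Q₂ = Q₂
    · exact ⟨1, one_mem _, by rw [hconj1]; exact hQ₂.2.2 Q₁ hQ₁.1 hQ₁.2.1 (h2 ▸ inf_le_left)⟩
    obtain hD : ∃ D, D = Q₁ ⊓ Q₂ := ⟨_, rfl⟩
    obtain ⟨D, hD⟩ := hD
    have hAQ₁ := (mem_family_iff.mp hQ₁.1).2.2.1
    have hAQ₂ := (mem_family_iff.mp hQ₂.1).2.2.1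
    have hqp : q ≠ p := by
      intro e
      subst e
      apply h1
      obtain ⟨k, hk⟩ := IsPGroup.iff_card.mp hQ₁.2.1
      have hk0 : k = 0 := by
        by_contra hk0
        exact hQ₁.1.2.1 (hk ▸ dvd_pow_self q hk0)
      rw [hk0, pow_zero, card_eq_one] at hk
      rw [hk, bot_inf_eq]
    obtain ⟨a, ha, ha1, hg1, hg2⟩ :=
      exists_common_growth hA hA3 hqp hQ₁.2.1 hQ₂.2.1 hAQ₁ hAQ₂ h1 h2
    rw [← hD] at hg1 hg2 hn
    have hAD : A ≤ normalizer (D : Set G) := hD ▸ le_normalizer_inf hAQ₁ hAQ₂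
    have hθa := theta_mem_family hθ ha ha1
    set H := θ a ⊓ normalizer (D : Set G) with hH
    have hAH : A ≤ normalizer (H : Set G) :=
      le_normalizer_inf (theta_le_normalizer hθ.1 ha ha1) (hAD.trans le_normalizer)
    have hHF : H ∈ Cfsg.signalizerFamily p A θ := family_of_le hθa inf_le_left hAH
    set R₁ := normalizer (D : Set G) ⊓ Q₁ ⊓ centralizer {a}
    set R₂ := normalizer (D : Set G) ⊓ Q₂ ⊓ centralizer {a}
    have hR : ∀ Q : Subgroup G, IsMaxMember p A θ q Q →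
        ∃ S : Sylow q H, normalizer (D : Set G) ⊓ Q ⊓ centralizer {a} ≤
          (S : Subgroup H).map H.subtype ∧
          A ≤ normalizer ((S : Subgroup H).map H.subtype : Set G) := by
      intro Q hQ
      refine Core.exists_invariant_sylow_ge hAH
        (coprime_card_of_pGroup (elementary_isPGroup hA) hHF.2.1)
        (Or.inr hHF.1) ?_ (hQ.2.1.to_le (inf_le_left.trans inf_le_right)) ?_
      · exact fun x hx => ⟨hQ.1.2.2.2 a ha ha1 ⟨hx.1.2, hx.2⟩, hx.1.1⟩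
      · exact le_normalizer_inf (le_normalizer_inf (hAD.trans le_normalizer)
          (mem_family_iff.mp hQ.1).2.2.1)
          (le_normalizer_centralizer_of_le hA (Set.singleton_subset_iff.mpr ha))
    obtain ⟨S₁, hS₁, hAS₁⟩ := hR Q₁ hQ₁
    obtain ⟨S₂, hS₂, hAS₂⟩ := hR Q₂ hQ₂
    obtain ⟨c, hcA, hc⟩ := Core.invariant_sylow_conj hAH
      (coprime_card_of_pGroup (elementary_isPGroup hA) hHF.2.1) (Or.inr hHF.1) S₁ S₂ hAS₁ hAS₂
    have hcD : (c : G) ∈ Cfsg.signalizerInf A θ :=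
      ((family_inf_centralizer_eq hθ.1 hHF le_rfl).le ⟨c.2, hcA⟩).2
    -- the enlarged member
    set T₂ := (S₂ : Subgroup H).map H.subtype
    have hT₂N : T₂ ≤ normalizer (D : Set G) := (map_subtype_le _).trans inf_le_right
    have hT : D ⊔ T₂ ∈ Cfsg.signalizerFamily p A θ :=
      family_sup hA (family_of_le hQ₁.1 (hD ▸ inf_le_left) hAD)
        (family_of_le hHF (map_subtype_le _) hAS₂) hT₂N
    obtain ⟨Q₃, hQ₃le, hQ₃⟩ := exists_maxMember hT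
      (Components.isPGroup_sup hT₂N (hQ₁.2.1.to_le (hD ▸ inf_le_left)) (S₂.2.map _))
    have hcard : ∀ {U V : Subgroup G}, D < U ⊓ V →
        Nat.card G - Nat.card ↥(U ⊓ V) < n := by
      intro U V hlt
      have := CfsgLib.Transfer.card_lt_of_lt hlt
      have := Subgroup.card_le_card_group (U ⊓ V)
      omega
    -- `Q₁ ^ c` meets `Q₃` beyond `D`
    have hc1 : D < Q₁.map (MulAut.conj (c : G)).toMonoidHom ⊓ Q₃ := by
      have hcN : (c : G) ∈ normalizer (D : Set G) := c.2.2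
      refine lt_of_le_of_ne (le_inf ?_ (le_sup_left.trans hQ₃le)) fun e => hg1 ?_
      · intro x hx
        rw [CfsgLib.Transfer.mem_map_conj]
        exact (hD.le ((mem_normalizer_iff''.mp hcN x).mp hx)).1
      · intro x hx
        have hx' : (c : G) * x * (c : G)⁻¹ ∈ T₂ := by
          obtain ⟨s, hs, rfl⟩ := hS₁ hx
          refine ⟨c * s * c⁻¹, ?_, rfl⟩
          rw [← hc]
          show c * s * c⁻¹ ∈ ((c • S₁ : Sylow q H) : Subgroup H)
          rw [CfsgLib.Transfer.mem_sylow_smul]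
          simpa [mul_assoc] using (show s ∈ (S₁ : Subgroup H) from hs)
        have h3 : (c : G) * x * (c : G)⁻¹ ∈ D :=
          e.ge ⟨⟨x, hx.1.2, rfl⟩, hQ₃le (mem_sup_right hx')⟩
        exact (mem_normalizer_iff.mp hcN x).mpr h3
    have hc2 : D < Q₃ ⊓ Q₂ := by
      refine lt_of_le_of_ne (le_inf (le_sup_left.trans hQ₃le) (hD ▸ inf_le_right))
        fun e => hg2 ?_
      exact fun x hx => e.ge ⟨hQ₃le (mem_sup_right (hS₂ hx)), hx.1.2⟩
    obtain ⟨d, hd, hd'⟩ := ih _ (hcard hc1) _ _ (conj_maxMember hθ.1 hcD hQ₁) hQ₃ rfl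
    obtain ⟨e, he, he'⟩ := ih _ (hcard hc2) _ _ hQ₃ hQ₂ rfl
    refine ⟨e * d * c, mul_mem (mul_mem he hd) hcD, ?_⟩
    rw [← he', ← hd', Subgroup.map_map, Subgroup.map_map]
    congr 1
    ext x
    simp [mul_assoc]

/-- A maximal `q`-member meets every member, after conjugation, in a Sylow subgroup. -/
theorem meets_in_sylow (hA : Cfsg.IsElementaryAbelian p A) (hA3 : p ^ 3 ≤ Nat.card A)
    (hθ : Cfsg.IsSolvableSignalizerFunctor p A θ) {Q : Subgroup G}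
    (hQ : IsMaxMember p A θ q Q) {H : Subgroup G} (hH : H ∈ Cfsg.signalizerFamily p A θ) :
    ∃ c ∈ Cfsg.signalizerInf A θ, ∃ S : Sylow q H,
      (S : Subgroup H).map H.subtype = Q.map (MulAut.conj c).toMonoidHom ⊓ H := by
  have hAH := (mem_family_iff.mp hH).2.2.1
  obtain ⟨S, hS⟩ := Core.exists_invariant_sylow hAH
    (coprime_card_of_pGroup (elementary_isPGroup hA) hH.2.1) (Or.inr hH.1) q
  obtain ⟨Q', hle, hQ'⟩ := exists_maxMember (family_of_le hH (map_subtype_le _) hS) (S.2.map _)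
  obtain ⟨c, hc, rfl⟩ := transitivity hA hA3 hθ hQ hQ'
  refine ⟨c, hc, S, le_antisymm (le_inf hle (map_subtype_le _)) ?_⟩
  have hmax := S.3 (Q := (Q.map (MulAut.conj c).toMonoidHom ⊓ H).comap H.subtype)
    ((hQ'.2.1.to_le inf_le_left).comap_subtype) (fun s hs => ⟨hle ⟨s, hs, rfl⟩, s.2⟩)
  rw [← hmax, map_comap_eq_self (inf_le_right.trans (Subgroup.range_subtype H).ge)]

end CfsgLib.Signalizer
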