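import Cfsg.Agent.Lib.Techniques.KBalanceQuotient

/-!
Owner: helper11. Local `k`-balance of `K / Z(K)` gives local `k`-balance of the perfect group `K`,
and local `k`-balance of the components of centralisers gives `k`-balance.
-/

set_option autoImplicit false

namespace CfsgLib.Signalizer

open Subgroup CfsgLib.Techniques

/-- The core of a centraliser is carried along an isomorphism. -/
theorem mem_centralizerPPrimeCore_map {H H' : Type*} [Group H] [Finite H] [Group H'] (e : H ≃* H')
    {p : ℕ} {x y : H} (hy : y ∈ Cfsg.centralizerPPrimeCore p x) :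
    e y ∈ Cfsg.centralizerPPrimeCore p (e x) := by
  obtain ⟨c, hc, rfl⟩ := hy
  let g : centralizer ({x} : Set H) →* centralizer ({e x} : Set H') :=
    (e.toMonoidHom.comp (centralizer ({x} : Set H)).subtype).codRestrict _ fun d =>
      mem_centralizer_singleton_iff.mpr (by
        show e d * e x = e x * e d
        rw [← map_mul, ← map_mul, mem_centralizer_singleton_iff.mp d.2])
  have hg : Function.Surjective g := fun d => by
    obtain ⟨d', hd'⟩ := e.surjective d.1
    refine ⟨⟨d', mem_centralizer_singleton_iff.mpr (e.injective ?_)⟩, Subtype.ext hd'⟩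
    rw [map_mul, map_mul, hd', mem_centralizer_singleton_iff.mp d.2]
  exact ⟨g c, Core.map_pPrimeCore_le g hg (mem_map_of_mem g hc), rfl⟩

/-- The map `Aut K → Aut (K/Z(K))`. -/
noncomputable def autModCenter (K : Type*) [Group K] : MulAut K →* MulAut (K ⧸ center K) where
  toFun φ := QuotientGroup.congr (center K) (center K) φ
    (characteristic_iff_map_eq.mp inferInstance φ)
  map_one' := MulEquiv.ext fun x => QuotientGroup.induction_on x fun _ => rfl
  map_mul' φ ψ := MulEquiv.ext fun x => QuotientGroup.induction_on x fun _ => rfl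

/-- An automorphism of a perfect group that is trivial modulo the centre is trivial. -/
theorem autModCenter_injective {K : Type*} [Group K] (hK : commutator K = ⊤) :
    Function.Injective (autModCenter K) := by
  refine (injective_iff_map_eq_one _).mpr fun φ hφ => MulEquiv.ext fun x => ?_
  have hz : ∀ k : K, k⁻¹ * φ k ∈ center K := fun k => QuotientGroup.eq.mp (by
    exact (DFunLike.congr_fun hφ (k : K ⧸ center K)).symm)
  let f : K →* center K := MonoidHom.mk' (fun k => ⟨k⁻¹ * φ k, hz k⟩) fun a b => Subtype.ext (by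
    show (a * b)⁻¹ * φ (a * b) = a⁻¹ * φ a * (b⁻¹ * φ b)
    rw [map_mul, mul_inv_rev]
    have := mem_center_iff.mp (hz a) b⁻¹
    calc b⁻¹ * a⁻¹ * (φ a * φ b) = b⁻¹ * (a⁻¹ * φ a) * φ b := by group
      _ = (a⁻¹ * φ a) * b⁻¹ * φ b := by rw [this]
      _ = _ := by group)
  letI : CommGroup (center K) :=
    { (inferInstance : Group (center K)) with
      mul_comm := fun a b => Subtype.ext (mem_center_iff.mp b.2 a) }
  have hle : _root_.commutator K ≤ f.ker := Abelianization.commutator_subset_ker f
  have hf : x ∈ f.ker := hle (hK.ge (mem_top x))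
  show φ x = x
  exact (inv_mul_eq_one.mp (congrArg Subtype.val hf)).symm

/-- Local `k`-balance passes from `K / Z(K)` to the perfect group `K`. -/
theorem locallyKBalanced_of_quotient_center {K : Type*} [Group K] [Finite K] (hK : commutator K = ⊤)
    {p k : ℕ} (h : Cfsg.IsLocallyKBalanced p k (K ⧸ center K)) :
    Cfsg.IsLocallyKBalanced p k K := by
  intro H hH A hA hAc
  have hinj := autModCenter_injective hK
  let e := H.equivMapOfInjective (autModCenter K) hinj
  have hH' : (MulAut.conj : K ⧸ center K →* MulAut (K ⧸ center K)).range ≤ H.map (autModCenter K) := by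
    rintro _ ⟨q, rfl⟩
    refine QuotientGroup.induction_on q fun a => ?_
    refine ⟨MulAut.conj a, hH ⟨a, rfl⟩, MulEquiv.ext fun x => QuotientGroup.induction_on x fun b => ?_⟩
    rfl
  have hA' : Cfsg.IsElementaryAbelian p (A.map e.toMonoidHom) := by
    have := hA.1
    refine ⟨inferInstance, ?_⟩
    rintro _ ⟨a, ha, rfl⟩
    rw [← map_pow, hA.2 a ha, map_one]
  have hd := h _ hH' (A.map e.toMonoidHom) hA'
    (by rw [card_map_of_injective e.injective, hAc])
  refine le_bot_iff.mp fun y hy => ?_
  have hy' : e y ∈ Cfsg.signalizerDelta p (A.map e.toMonoidHom) := by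
    rw [mem_delta_iff] at hy ⊢
    rintro _ ⟨a, ha, rfl⟩ ha1
    exact mem_centralizerPPrimeCore_map e (hy a ha fun h => ha1 (by rw [h, map_one]))
  rw [hd, mem_bot] at hy'
  exact mem_bot.mpr (e.map_eq_one_iff.mp hy')

/-- Locally `k`-balanced components modulo centres make the group `k`-balanced. -/
theorem isKBalanced_of_components {G : Type*} [Group G] [Finite G] {p k : ℕ} [Fact p.Prime]
    (hk : 1 ≤ k)
    (h : ∀ x : G, orderOf x = p → ∀ K : Subgroup (↥(centralizer ({x} : Set G)) ⧸
        Cfsg.pPrimeCore p ↥(centralizer ({x} : Set G))),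
      Cfsg.IsComponent K → Cfsg.IsLocallyKBalanced p k (↥K ⧸ center ↥K)) :
    Cfsg.IsKBalanced p k G := by
  intro A hA hAc b hb hcomm y hy
  obtain ⟨hyA, hyb⟩ := mem_inf.mp hy
  obtain ⟨hB', hB'k, himg⟩ := delta_image hA hAc.ge (centralizer ({b} : Set G))
    fun a ha => mem_centralizer_singleton_iff.mpr (hcomm a ha)
  have hloc : ∀ K : Subgroup (↥(centralizer ({b} : Set G)) ⧸
      Cfsg.pPrimeCore p ↥(centralizer ({b} : Set G))),
      Cfsg.IsComponent K → Cfsg.IsLocallyKBalanced p k K := fun K hK =>
    locallyKBalanced_of_quotient_center ((Group.isPerfect_def).mp hK.2.1) (h b hb K hK)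
  have h1 := eq_one_of_locallyKBalanced (Core.pPrimeCore_quotient_pPrimeCore p _) hk hB' hB'k hloc
    (himg y hyb hyA)
  exact ⟨⟨y, hyb⟩, (QuotientGroup.eq_one_iff _).mp h1, rfl⟩

end CfsgLib.Signalizer
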