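import Cfsg.Prelude.Def_Local
import Cfsg.Agent.Lib.Signalizer.Basic
import Cfsg.Agent.Lib.Core.MinNormal
import Cfsg.Agent.Lib.LocalEvenB.Basic

/-!
Owner: helper11. A signalizer functor of rank at least three whose closure is a solvable group of
order prime to `p` is complete.
-/

set_option autoImplicit false

namespace CfsgLib.Signalizer

open Subgroup
open scoped commutatorElement

universe u

section

variable {G : Type u} [Group G] [Finite G] {p : ℕ} [hp : Fact p.Prime] {A : Subgroup G}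
  {θ : G → Subgroup G}

omit [Finite G] in
theorem le_closure {a : G} (ha : a ∈ A) (ha1 : a ≠ 1) :
    θ a ≤ Cfsg.signalizerClosure A θ :=
  le_iSup (fun b : {b : G // b ∈ A ∧ b ≠ 1} => θ (b : G)) ⟨a, ha, ha1⟩

omit [Finite G] in
theorem closure_le_iff {X : Subgroup G} :
    Cfsg.signalizerClosure A θ ≤ X ↔ ∀ a ∈ A, a ≠ 1 → θ a ≤ X := by
  simp only [Cfsg.signalizerClosure, iSup_le_iff, Subtype.forall, and_imp]

omit [Finite G] hp in
theorem closure_le_normalizer (hθ : Cfsg.IsSignalizerFunctor p A θ) :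
    A ≤ normalizer (Cfsg.signalizerClosure A θ : Set G) := by
  rw [le_normalizer_iff]
  intro b hb
  have h : Cfsg.signalizerClosure A θ ≤
      (Cfsg.signalizerClosure A θ).comap (MulAut.conj b).toMonoidHom :=
    closure_le_iff.mpr fun a ha ha1 x hx => le_closure ha ha1 (hθ.2.2.1 a ha ha1 b hb x hx)
  exact fun x hx => h hx

/-- The restriction of a signalizer functor to an invariant subgroup. -/
theorem inf_isSignalizerFunctor (hθ : Cfsg.IsSignalizerFunctor p A θ) {R : Subgroup G}
    (hR : A ≤ normalizer (R : Set G)) : Cfsg.IsSignalizerFunctor p A fun a => R ⊓ θ a :=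
  ⟨fun a ha ha1 => inf_le_right.trans (hθ.1 a ha ha1),
    fun a ha ha1 => not_dvd_of_le (hθ.2.1 a ha ha1) inf_le_right,
    fun a ha ha1 b hb x hx => ⟨Core.conj_mem_of_le_normalizer hR hb hx.1,
      hθ.2.2.1 a ha ha1 b hb x hx.2⟩,
    fun a ha ha1 b hb hb1 x hx => ⟨hx.1.1, hθ.2.2.2 a ha ha1 b hb hb1 ⟨hx.1.2, hx.2⟩⟩⟩

/-- The part of an invariant normalized subgroup generated by the functor is normalized by every
value of the functor. -/
theorem theta_le_normalizer_inf_closure (hA : Cfsg.IsElementaryAbelian p A)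
    (hA3 : p ^ 3 ≤ Nat.card A) (hθ : Cfsg.IsSignalizerFunctor p A θ) {R : Subgroup G}
    (hR : A ≤ normalizer (R : Set G)) (hXR : Cfsg.signalizerClosure A θ ≤ normalizer (R : Set G))
    {a : G} (ha : a ∈ A) (ha1 : a ≠ 1) :
    θ a ≤ normalizer (Cfsg.signalizerClosure A (fun b => R ⊓ θ b) : Set G) := by
  set R0 := Cfsg.signalizerClosure A (fun b => R ⊓ θ b)
  refine le_of_hyperplanes_le hA (hθ.2.1 a ha ha1) (theta_le_normalizer hθ ha ha1)
    fun B hB hBi x hx => ?_
  refine LocalEvenB.mem_normalizer_of_forall ?_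
  suffices h : R0 ≤ R0.comap (MulAut.conj x).toMonoidHom from fun y hy => h hy
  refine closure_le_iff.mpr fun b hb hb1 => ?_
  have hRb := inf_isSignalizerFunctor hθ hR
  refine le_of_hyperplanes_le hA (hRb.2.1 b hb hb1) (theta_le_normalizer hRb hb hb1)
    fun F hF hFi y hy => ?_
  obtain ⟨c, hc, hc1⟩ : ∃ c ∈ B ⊓ F, c ≠ 1 := by
    by_contra hcon
    push Not at hcon
    have hBF : B ⊓ F = ⊥ := (eq_bot_iff_forall _).mpr hcon
    have h1 := relIndex_inf_le (H := B) (K := F) (L := A)
    rw [hBF, relIndex_bot_left] at h1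
    have h2 : Nat.card A ≤ p * p := h1.trans (Nat.mul_le_mul hBi hFi)
    have h3 : p ^ 2 < p ^ 3 := Nat.pow_lt_pow_right hp.out.one_lt (by norm_num)
    rw [sq] at h3
    omega
  have hxc : x ∈ θ c := hθ.2.2.2 a ha ha1 c (hB hc.1) hc1
    ⟨hx.1, centralizer_le (Set.singleton_subset_iff.mpr hc.1) hx.2⟩
  have hyc : y ∈ θ c := hθ.2.2.2 b hb hb1 c (hF hc.2) hc1
    ⟨hy.1.2, centralizer_le (Set.singleton_subset_iff.mpr hc.2) hy.2⟩
  refine le_closure (θ := fun b => R ⊓ θ b) (hB hc.1) hc1 ⟨?_, ?_⟩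
  · exact Core.conj_mem_of_le_normalizer hXR (le_closure ha ha1 hx.1) hy.1.1
  · exact (θ c).mul_mem ((θ c).mul_mem hxc hyc) ((θ c).inv_mem hxc)

end

/-- The statement for closures of order less than `n`. -/
def ClosureStmt (n : ℕ) : Prop :=
  ∀ (G : Type u) [Group G] [Finite G] (p : ℕ) [Fact p.Prime] (A : Subgroup G) (θ : G → Subgroup G),
    Cfsg.IsElementaryAbelian p A → p ^ 3 ≤ Nat.card A → Cfsg.IsSignalizerFunctor p A θ →
    Group.IsSolvable (Cfsg.signalizerClosure A θ) → ¬ p ∣ Nat.card (Cfsg.signalizerClosure A θ) →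
    Nat.card (Cfsg.signalizerClosure A θ) < n →
    ∀ a ∈ A, a ≠ 1 → Cfsg.signalizerClosure A θ ⊓ centralizer {a} ≤ θ a

section Top

variable {G : Type u} [Group G] [Finite G] {p : ℕ} [hp : Fact p.Prime] {A : Subgroup G}
  {θ : G → Subgroup G}

omit [Finite G] hp in
theorem map_isElementary {H : Type*} [Group H] (f : G →* H) (hA : Cfsg.IsElementaryAbelian p A) :
    Cfsg.IsElementaryAbelian p (A.map f) := by
  have := hA.1
  refine ⟨inferInstance, ?_⟩
  rintro _ ⟨c, hc, rfl⟩
  rw [← map_pow, hA.2 c hc, map_one]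

/-- The inductive step inside the quotient by a normal `p'`-subgroup. -/
theorem closure_quotient_le (hA : Cfsg.IsElementaryAbelian p A) (hA3 : p ^ 3 ≤ Nat.card A)
    (hθ : Cfsg.IsSignalizerFunctor p A θ) (hs : Group.IsSolvable (Cfsg.signalizerClosure A θ))
    (hX : ¬ p ∣ Nat.card (Cfsg.signalizerClosure A θ))
    (IH : ClosureStmt.{u} (Nat.card (Cfsg.signalizerClosure A θ)))
    {M : Subgroup G} [M.Normal] (hM : M ≤ Cfsg.signalizerClosure A θ) (hM1 : M ≠ ⊥)
    {x : G} (hx : x ∈ Cfsg.signalizerClosure A θ) {a : G} (ha : a ∈ A) (ha1 : a ≠ 1)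
    (hxa : ⁅x, a⁆ ∈ M) : ∃ l ∈ θ a, l⁻¹ * x ∈ M := by
  classical
  set X := Cfsg.signalizerClosure A θ with hXdef
  let π := QuotientGroup.mk' M
  have hinj : ∀ b ∈ A, π b = 1 → b = 1 := by
    intro b hb h1
    by_contra hb1
    exact hX (elementary_orderOf hA hb hb1 ▸
      Subgroup.orderOf_dvd_natCard _ (hM ((QuotientGroup.eq_one_iff b).mp h1)))
  have hinj' : Set.InjOn π A := by
    intro b hb c hc h
    exact inv_mul_eq_one.mp (hinj _ (mul_mem (inv_mem hb) hc)
      (by rw [map_mul, map_inv, h, inv_mul_cancel]))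
  let θb : G ⧸ M → Subgroup (G ⧸ M) := fun y =>
    ⨆ b : {b : G // b ∈ A ∧ π b = y}, (θ (b : G)).map π
  have hθb : ∀ b ∈ A, θb (π b) = (θ b).map π := by
    intro b hb
    refine le_antisymm (iSup_le fun c => ?_)
      (le_iSup (fun c : {c : G // c ∈ A ∧ π c = π b} => (θ (c : G)).map π) ⟨b, hb, rfl⟩)
    rw [hinj' c.2.1 hb c.2.2]
  have hsol : Cfsg.IsSolvableSignalizerFunctor p A θ :=
    ⟨hθ, fun b hb hb1 => Core.isSolvable_of_le hs (le_closure hb hb1)⟩
  have hcl : Cfsg.signalizerClosure (A.map π) θb = X.map π := by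
    refine le_antisymm (closure_le_iff.mpr ?_) (map_le_iff_le_comap.mpr (closure_le_iff.mpr ?_))
    · rintro _ ⟨b, hb, rfl⟩ hb1
      rw [hθb b hb]
      exact map_mono (le_closure hb fun e => hb1 (by rw [e, map_one]))
    · intro b hb hb1
      rw [← map_le_iff_le_comap, ← hθb b hb]
      exact le_closure (mem_map_of_mem π hb) fun e => hb1 (hinj b hb e)
  have hA2 : p ^ 2 ≤ Nat.card A := (Nat.pow_le_pow_right hp.out.pos (by norm_num)).trans hA3
  have hθq : Cfsg.IsSignalizerFunctor p (A.map π) θb := by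
    refine ⟨?_, ?_, ?_, ?_⟩
    · rintro _ ⟨b, hb, rfl⟩ hb1
      rw [hθb b hb]
      rintro _ ⟨y, hy, rfl⟩
      rw [mem_centralizer_singleton_iff, ← map_mul, ← map_mul,
        mem_centralizer_singleton_iff.mp (hθ.1 b hb (fun e => hb1 (by rw [e, map_one])) hy)]
    · rintro _ ⟨b, hb, rfl⟩ hb1
      rw [hθb b hb]
      exact fun hd => hθ.2.1 b hb (fun e => hb1 (by rw [e, map_one])) (hd.trans ((θ b).card_map_dvd π))
    · rintro _ ⟨b, hb, rfl⟩ hb1 _ ⟨c, hc, rfl⟩ y hy
      rw [hθb b hb] at hy ⊢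
      obtain ⟨z, hz, rfl⟩ := hy
      exact ⟨c * z * c⁻¹, hθ.2.2.1 b hb (fun e => hb1 (by rw [e, map_one])) c hc z hz, by simp⟩
    · rintro _ ⟨b, hb, rfl⟩ hb1 _ ⟨c, hc, rfl⟩ hc1
      rw [hθb b hb, hθb c hc]
      have hb1' : b ≠ 1 := fun e => hb1 (by rw [e, map_one])
      have hc1' : c ≠ 1 := fun e => hc1 (by rw [e, map_one])
      rintro _ ⟨⟨y, hy, rfl⟩, hyc⟩
      have hK : zpowers c ≤ normalizer ((θ b ⊓ M : Subgroup G) : Set G) :=
        (zpowers_le.mpr hc).trans (le_normalizer_inf (theta_le_normalizer hθ hb hb1')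
          ((normalizer_eq_top M).symm ▸ le_top))
      obtain ⟨n, hn, hnc⟩ := Core.exists_centralizing_in_coset (A := zpowers c) (N := θ b ⊓ M) hK
        (coprime_card_of_pGroup ((elementary_isPGroup hA).to_le (zpowers_le.mpr hc))
          (not_dvd_of_le (hθ.2.1 b hb hb1') inf_le_left))
        (Or.inl inferInstance) (k := y) (by
          intro d hd
          refine ⟨(θ b).mul_mem ((θ b).inv_mem hy) (hθ.2.2.1 b hb hb1' d (zpowers_le.mpr hc hd) y hy), ?_⟩
          refine (QuotientGroup.eq_one_iff _).mp ?_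
          obtain ⟨k, rfl⟩ := mem_zpowers_iff.mp hd
          have hcomm : Commute (π c) (π y) := (mem_centralizer_singleton_iff.mp hyc).symm
          show π (y⁻¹ * (c ^ k * y * (c ^ k)⁻¹)) = 1
          rw [map_mul, map_mul, map_mul, map_inv, map_inv, map_zpow, (hcomm.zpow_left k).eq,
            mul_inv_cancel_right, inv_mul_cancel])
      refine ⟨y * n, hθ.2.2.2 b hb hb1' c hc hc1' ⟨mul_mem hy hn.1,
        centralizer_le (Set.singleton_subset_iff.mpr (mem_zpowers c)) hnc⟩, ?_⟩
      rw [map_mul, show π n = 1 from (QuotientGroup.eq_one_iff n).mpr hn.2, mul_one]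
  have hlt : Nat.card (Cfsg.signalizerClosure (A.map π) θb) < Nat.card X := by
    rw [hcl]
    have hd : (X.map π : Subgroup (G ⧸ M)) = (π.subgroupMap X).range.map (X.map π).subtype := by
      rw [MonoidHom.range_eq_top.mpr (π.subgroupMap_surjective X), ← MonoidHom.range_eq_map,
        range_subtype]
    refine lt_of_le_of_ne (Nat.card_le_card_of_surjective _ (π.subgroupMap_surjective X))
      fun he => hM1 ?_
    have hbij := (Nat.bijective_iff_surjective_and_card (f := π.subgroupMap X)).mpr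
      ⟨π.subgroupMap_surjective X, he.symm⟩
    refine (eq_bot_iff_forall _).mpr fun m hm => ?_
    exact congrArg Subtype.val (hbij.1 (a₁ := ⟨m, hM hm⟩) (a₂ := 1)
      (Subtype.ext ((QuotientGroup.eq_one_iff m).mpr hm)))
  have hA3' : p ^ 3 ≤ Nat.card (A.map π) := by
    rwa [show Nat.card (A.map π) = Nat.card A from
      (Nat.card_congr (Equiv.Set.imageOfInjOn π (A : Set G) hinj')).symm]
  have hmain := IH (G ⧸ M) p (A.map π) θb (map_isElementary π hA) hA3' hθq
    (hcl ▸ Core.isSolvable_map π hs) (hcl ▸ fun hd => hX (hd.trans (X.card_map_dvd π)))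
    hlt (π a) (mem_map_of_mem π ha) (fun e => ha1 (hinj a ha e))
  rw [hcl, hθb a ha] at hmain
  obtain ⟨l, hl, hle⟩ := hmain ⟨mem_map_of_mem π hx, mem_centralizer_singleton_iff.mpr (by
    rw [← commutatorElement_eq_one_iff_mul_comm, ← map_commutatorElement]
    exact (QuotientGroup.eq_one_iff _).mpr hxa)⟩
  exact ⟨l, hl, QuotientGroup.eq.mp hle⟩

/-- The step for a group generated by the operators and the closure. -/
theorem closure_step (hA : Cfsg.IsElementaryAbelian p A) (hA3 : p ^ 3 ≤ Nat.card A)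
    (hθ : Cfsg.IsSignalizerFunctor p A θ) (hs : Group.IsSolvable (Cfsg.signalizerClosure A θ))
    (hX : ¬ p ∣ Nat.card (Cfsg.signalizerClosure A θ))
    (IH : ClosureStmt.{u} (Nat.card (Cfsg.signalizerClosure A θ)))
    (htop : Cfsg.signalizerClosure A θ ⊔ A = ⊤) {a : G} (ha : a ∈ A) (ha1 : a ≠ 1) :
    Cfsg.signalizerClosure A θ ⊓ centralizer {a} ≤ θ a := by
  set X := Cfsg.signalizerClosure A θ with hXdef
  by_cases hX1 : X = ⊥
  · rw [hX1, bot_inf_eq]; exact bot_le
  have hA2 : p ^ 2 ≤ Nat.card A := (Nat.pow_le_pow_right hp.out.pos (by norm_num)).trans hA3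
  have := hA.1
  have hAX : A ≤ normalizer (X : Set G) := closure_le_normalizer hθ
  have : X.Normal := normalizer_eq_top_iff.mp (top_le_iff.mp
    (htop.ge.trans (sup_le le_normalizer hAX)))
  have hnormal : ∀ R : Subgroup G, R.Normal →
      (Cfsg.signalizerClosure A fun b => R ⊓ θ b).Normal := by
    intro R hR
    refine normalizer_eq_top_iff.mp (top_le_iff.mp (htop.ge.trans (sup_le ?_ ?_)))
    · exact closure_le_iff.mpr fun b hb hb1 => theta_le_normalizer_inf_closure hA hA3 hθ
        (by rw [normalizer_eq_top]; exact le_top) (by rw [normalizer_eq_top]; exact le_top) hb hb1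
    · exact closure_le_normalizer (inf_isSignalizerFunctor hθ (by rw [normalizer_eq_top]; exact le_top))
  have hclR : ∀ R : Subgroup G, (Cfsg.signalizerClosure A fun b => R ⊓ θ b) ≤ R ⊓ X := fun R =>
    closure_le_iff.mpr fun b hb hb1 => inf_le_inf_left _ (le_closure hb hb1)
  obtain ⟨N, hNn, hN1, hNX, hNmin⟩ := Core.exists_minimal_normal_le' X hX1
  have := hNn
  have hNc : IsMulCommutative N :=
    Core.commutative_of_minimal_normal N (Core.isSolvable_of_le hs hNX) hN1 hNmin
  have hNA : A ≤ normalizer (N : Set G) := by rw [normalizer_eq_top]; exact le_top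
  rcases hNmin _ (hnormal N hNn) ((hclR N).trans inf_le_left) with hN0 | hN0
  swap
  · -- `N` is a member of the family
    have hNfix : ∀ b ∈ A, b ≠ 1 → N ⊓ centralizer {b} ≤ θ b := by
      obtain ⟨V, ⟨hVf, hVN⟩, hVmax⟩ := WellFounded.has_min (wellFounded_gt (α := Subgroup G))
        {V : Subgroup G | V ∈ Cfsg.signalizerFamily p A θ ∧ V ≤ N} ⟨⊥, family_bot, bot_le⟩
      have hle : N ≤ V := by
        rw [← hN0]
        refine closure_le_iff.mpr fun b hb hb1 => ?_
        have hsol : Cfsg.IsSolvableSignalizerFunctor p A θ :=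
          ⟨hθ, fun c hc hc1 => Core.isSolvable_of_le hs (le_closure hc hc1)⟩
        have hm := family_of_le (theta_mem_family hsol hb hb1) (inf_le_right (a := N))
          (le_normalizer_inf hNA (theta_le_normalizer hθ hb hb1))
        have hn : N ⊓ θ b ≤ normalizer (V : Set G) := by
          refine inf_le_left.trans (le_trans (fun n hn => ?_) (centralizer_le_normalizer _))
          exact mem_centralizer_iff.mpr fun v hv =>
            congrArg Subtype.val (hNc.is_comm.comm (⟨v, hVN hv⟩ : N) ⟨n, hn⟩)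
        have hb' := hVmax _ ⟨family_sup hA hVf hm hn, sup_le hVN inf_le_left⟩
        by_contra hcon
        exact hb' (lt_of_le_of_ne le_sup_left fun e => hcon (le_sup_right.trans e.ge))
      exact fun b hb hb1 => (inf_le_inf_right _ hle).trans (hVf.2.2.2 b hb hb1)
    rintro x ⟨hx, hxa⟩
    obtain ⟨l, hl, hlx⟩ := closure_quotient_le hA hA3 hθ hs hX IH hNX hN1 hx ha ha1 (by
      rw [commutatorElement_eq_one_iff_mul_comm.mpr (mem_centralizer_singleton_iff.mp hxa)]
      exact one_mem N)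
    have hla := hθ.1 a ha ha1 hl
    have := hNfix a ha ha1 (mem_inf.mpr ⟨hlx, (centralizer ({a} : Set G)).mul_mem ((centralizer ({a} : Set G)).inv_mem hla) hxa⟩)
    simpa using mul_mem hl this
  have hNθ : ∀ b ∈ A, b ≠ 1 → N ⊓ θ b = ⊥ := fun b hb hb1 =>
    le_bot_iff.mp (hN0 ▸ le_closure (θ := fun b => N ⊓ θ b) hb hb1)
  let π := QuotientGroup.mk' N
  have hXN : X.map π ≠ ⊥ := by
    intro h
    rw [Subgroup.map_eq_bot_iff, QuotientGroup.ker_mk'] at h
    refine hX1 (le_bot_iff.mp (closure_le_iff.mpr fun b hb hb1 => ?_))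
    rw [← hNθ b hb hb1]
    exact le_inf ((le_closure hb hb1).trans h) le_rfl
  have : (X.map π).Normal := Normal.map ‹X.Normal› π (QuotientGroup.mk'_surjective N)
  obtain ⟨Rb, hRn, hR1, hRX, hRmin⟩ := Core.exists_minimal_normal_le' (X.map π) hXN
  have := hRn
  set R := Rb.comap π
  have hRX' : R ≤ X := by
    refine (comap_mono hRX).trans ?_
    rw [comap_map_eq, QuotientGroup.ker_mk']
    exact sup_le le_rfl hNX
  have hNR : N ≤ R := fun n hn => by
    show π n ∈ Rb
    rw [show π n = 1 from (QuotientGroup.eq_one_iff n).mpr hn]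
    exact one_mem _
  have hRA : A ≤ normalizer (R : Set G) := by rw [normalizer_eq_top]; exact le_top
  set R0 := Cfsg.signalizerClosure A fun b => R ⊓ θ b
  have hAelem : A.map π ≤ normalizer (Rb : Set (G ⧸ N)) := by rw [normalizer_eq_top]; exact le_top
  by_cases hR0 : R0 = X
  swap
  · exfalso
    have hR0n : R0.Normal := hnormal R inferInstance
    have hR0X : R0 ≤ X := (hclR R).trans inf_le_right
    have hR0fix : ∀ b ∈ A, b ≠ 1 → R0 ⊓ centralizer {b} ≤ θ b := fun b hb hb1 =>
      (IH G p A (fun b => R ⊓ θ b) hA hA3 (inf_isSignalizerFunctor hθ hRA)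
        (Core.isSolvable_of_le hs hR0X) (not_dvd_of_le hX hR0X)
        (Set.ncard_lt_ncard (SetLike.coe_ssubset_coe.mpr (lt_of_le_of_ne hR0X hR0)))
        b hb hb1).trans inf_le_right
    by_cases hR0b : R0 = ⊥
    · have hRN : R ≤ N := LocalEven.le_of_centralizers_le hA.2 hA2 hRA (not_dvd_of_le hX hRX')
        fun b hb hb1 r hr => by
          obtain ⟨l, hl, hlr⟩ := closure_quotient_le hA hA3 hθ hs hX IH hNX hN1 (hRX' hr.1) hb hb1
            (by
              rw [commutatorElement_eq_one_iff_mul_comm.mpr (mem_centralizer_singleton_iff.mp hr.2)]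
              exact one_mem N)
          have hlR : l ∈ R := by
            have := R.mul_mem hr.1 (R.inv_mem (hNR hlr))
            simpa [mul_assoc] using this
          have : l = 1 := mem_bot.mp (hR0b ▸ le_closure (θ := fun b => R ⊓ θ b) hb hb1 ⟨hlR, hl⟩)
          simpa [this] using hlr
      refine hR1 (le_bot_iff.mp ?_)
      rw [← map_comap_eq_self_of_surjective (QuotientGroup.mk'_surjective N) Rb]
      exact (map_mono hRN).trans (le_of_eq (QuotientGroup.map_mk'_self N))
    · refine hN1 (le_bot_iff.mp (LocalEven.le_of_centralizers_le hA.2 hA2 hNA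
        (not_dvd_of_le hX hNX) fun b hb hb1 n hn => ?_))
      obtain ⟨l, hl, hln⟩ := closure_quotient_le hA hA3 hθ hs hX IH hR0X hR0b (hNX hn.1) hb hb1 (by
          rw [commutatorElement_eq_one_iff_mul_comm.mpr (mem_centralizer_singleton_iff.mp hn.2)]
          exact one_mem R0)
      have hm := hR0fix b hb hb1 (mem_inf.mpr ⟨hln, (centralizer ({b} : Set G)).mul_mem
        ((centralizer ({b} : Set G)).inv_mem (hθ.1 b hb hb1 hl)) hn.2⟩)
      rw [← hNθ b hb hb1]
      exact ⟨hn.1, by simpa using mul_mem hl hm⟩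
  -- the last configuration: the quotient by `N` is an abelian chief factor
  have hRb : Rb = X.map π := by
    refine le_antisymm hRX ?_
    rw [map_le_iff_le_comap]
    exact hR0.ge.trans ((hclR R).trans inf_le_left)
  have hsb : Group.IsSolvable Rb := hRb ▸ Core.isSolvable_map π hs
  have hRc : IsMulCommutative Rb := Core.commutative_of_minimal_normal Rb hsb hR1 hRmin
  have htop' : Rb ⊔ A.map π = ⊤ := by
    rw [hRb, ← Subgroup.map_sup, htop, Subgroup.map_top_of_surjective π (QuotientGroup.mk'_surjective N)]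
  have hπX : ∀ {x : G}, x ∈ X → π x ∈ Rb := fun hx => hRb ▸ mem_map_of_mem π hx
  set K : Subgroup G := A ⊓ (centralizer (Rb : Set (G ⧸ N))).comap π
  have hcases : ∀ e ∈ A, e ∉ K → Rb ⊓ centralizer {π e} = ⊥ := by
    intro e he heK
    have hn : (Rb ⊓ centralizer {π e}).Normal := by
      refine normalizer_eq_top_iff.mp (top_le_iff.mp (htop'.ge.trans (sup_le ?_ ?_)))
      · refine le_trans (fun r hr => ?_) (centralizer_le_normalizer _)
        exact mem_centralizer_iff.mpr fun y hy =>
          congrArg Subtype.val (hRc.is_comm.comm (⟨y, hy.1⟩ : Rb) ⟨r, hr⟩)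
      · rintro _ ⟨b, hb, rfl⟩
        refine inf_normalizer_le_normalizer_inf ⟨(normalizer_eq_top Rb).ge (mem_top _),
          le_normalizer ?_⟩
        rw [mem_centralizer_singleton_iff, ← map_mul, ← map_mul, elementary_comm hA hb he]
    refine (hRmin _ hn inf_le_left).resolve_right fun h => heK ⟨he, ?_⟩
    exact mem_centralizer_iff.mpr fun y hy =>
      mem_centralizer_singleton_iff.mp (h.ge hy).2
  have hK : K.relIndex A ≤ p := by
    by_contra hcon
    obtain ⟨E, hEA, hE, hEK⟩ := exists_disjoint_sq hA inf_le_left (not_le.mp hcon)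
    have := (elementary_of_le hA hEA).1
    refine hR1 (le_bot_iff.mp ?_)
    have hle : R ≤ N := LocalEven.le_of_centralizers_le (elementary_of_le hA hEA).2 hE
      (hEA.trans hRA) (not_dvd_of_le hX hRX') fun e he he1 r hr => by
        refine (QuotientGroup.eq_one_iff r).mp (mem_bot.mp ((hcases e (hEA he) fun h =>
          he1 (mem_bot.mp (hEK.le ⟨he, h⟩))).le ⟨hr.1, ?_⟩))
        refine mem_centralizer_singleton_iff.mpr ?_
        exact congrArg π (mem_centralizer_singleton_iff.mp hr.2)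
    rw [← map_comap_eq_self_of_surjective (QuotientGroup.mk'_surjective N) Rb]
    exact (map_mono hle).trans (le_of_eq (QuotientGroup.map_mk'_self N))
  have hθK : ∀ b ∈ A, b ≠ 1 → θ b ≤ centralizer (K : Set G) := by
    intro b hb hb1 l hl
    refine mem_centralizer_iff.mpr fun k hk => ?_
    rw [← commutatorElement_eq_one_iff_mul_comm, ← mem_bot, ← hNθ b hb hb1]
    refine ⟨(QuotientGroup.eq_one_iff _).mp ?_, ?_⟩
    · show π ⁅k, l⁆ = 1
      rw [map_commutatorElement, commutatorElement_eq_one_iff_mul_comm]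
      exact (mem_centralizer_iff.mp hk.2 _ (hπX (le_closure hb hb1 hl))).symm
    · rw [commutatorElement_def]
      exact (θ b).mul_mem (hθ.2.2.1 b hb hb1 k hk.1 l hl) ((θ b).inv_mem hl)
  have hXK : ∀ k ∈ K, k ≠ 1 → X ≤ θ k := fun k hk hk1 => closure_le_iff.mpr fun b hb hb1 l hl =>
    hθ.2.2.2 b hb hb1 k hk.1 hk1
      ⟨hl, centralizer_le (Set.singleton_subset_iff.mpr hk) (hθK b hb hb1 hl)⟩
  obtain ⟨k, hk, hk1⟩ : ∃ k ∈ K, k ≠ 1 := by
    by_contra hcon
    push Not at hcon
    have hKb : K = ⊥ := (eq_bot_iff_forall _).mpr hcon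
    rw [hKb, relIndex_bot_left] at hK
    have h3 : p ^ 1 < p ^ 3 := Nat.pow_lt_pow_right hp.out.one_lt (by norm_num)
    rw [pow_one] at h3
    omega
  exact (inf_le_inf_right _ (hXK k hk hk1)).trans (hθ.2.2.2 k hk.1 hk1 a ha ha1)

end Top

/-- Transfer of a signalizer functor to an overgroup of all its values. -/
theorem closure_stmt (n : ℕ) : ClosureStmt.{u} n := by
  induction n using Nat.strong_induction_on with
  | _ n ih =>
    intro G _ _ p _ A θ hA hA3 hθ hs hX hn a ha ha1
    set X := Cfsg.signalizerClosure A θ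
    let W := X ⊔ A
    let θ' : W → Subgroup W := fun w => (θ (w : G)).subgroupOf W
    have hXW : X ≤ W := le_sup_left
    have hAW : A ≤ W := le_sup_right
    have hθW : ∀ b ∈ A, b ≠ 1 → θ b ≤ W := fun b hb hb1 => (le_closure hb hb1).trans hXW
    have hA' : Cfsg.IsElementaryAbelian p (A.subgroupOf W) :=
      ⟨⟨⟨fun x y => Subtype.ext (Subtype.ext (elementary_comm hA x.2 y.2))⟩⟩,
        fun x hx => Subtype.ext (hA.2 _ hx)⟩
    have hA3' : p ^ 3 ≤ Nat.card (A.subgroupOf W) := by
      rwa [Nat.card_congr (subgroupOfEquivOfLe hAW).toEquiv]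
    have hne : ∀ w : W, w ≠ 1 → (w : G) ≠ 1 := fun w hw e => hw (Subtype.ext e)
    have hθ' : Cfsg.IsSignalizerFunctor p (A.subgroupOf W) θ' := by
      refine ⟨?_, ?_, ?_, ?_⟩
      · exact fun b hb hb1 y hy => mem_centralizer_singleton_iff.mpr
          (Subtype.ext (mem_centralizer_singleton_iff.mp (hθ.1 _ hb (hne b hb1) hy)))
      · intro b hb hb1
        show ¬ p ∣ Nat.card ((θ (b : G)).subgroupOf W)
        rw [Nat.card_congr (subgroupOfEquivOfLe (hθW (b : G) hb (hne b hb1))).toEquiv]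
        exact hθ.2.1 _ hb (hne b hb1)
      · exact fun b hb hb1 c hc y hy => hθ.2.2.1 _ hb (hne b hb1) _ hc _ hy
      · exact fun b hb hb1 c hc hc1 y hy => hθ.2.2.2 _ hb (hne b hb1) _ hc (hne c hc1)
          ⟨hy.1, mem_centralizer_singleton_iff.mpr
            (congrArg Subtype.val (mem_centralizer_singleton_iff.mp hy.2))⟩
    have hcl : Cfsg.signalizerClosure (A.subgroupOf W) θ' = X.subgroupOf W := by
      refine le_antisymm (closure_le_iff.mpr fun b hb hb1 y hy => le_closure (θ := θ) (a := (b : G)) hb (hne b hb1) hy) ?_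
      intro y hy
      obtain ⟨z, hz, hzy⟩ : (y : G) ∈ (Cfsg.signalizerClosure (A.subgroupOf W) θ').map W.subtype := by
        refine (closure_le_iff.mpr fun b hb hb1 => ?_ : X ≤ _) hy
        calc θ b = ((θ b).subgroupOf W).map W.subtype :=
              (map_subgroupOf_eq_of_le (hθW b hb hb1)).symm
          _ ≤ _ := map_mono (le_closure (θ := θ') (a := ⟨b, hAW hb⟩) hb
              fun e => hb1 (congrArg Subtype.val e))
      rwa [← Subtype.ext hzy]
    have hsolv' : Group.IsSolvable (Cfsg.signalizerClosure (A.subgroupOf W) θ') := by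
      rw [hcl]; exact Group.isSolvable_of_isSolvable_injective (f := (subgroupOfEquivOfLe hXW).toMonoidHom)
        (subgroupOfEquivOfLe hXW).injective
    have hcard : Nat.card (Cfsg.signalizerClosure (A.subgroupOf W) θ') = Nat.card X := by
      rw [hcl, Nat.card_congr (subgroupOfEquivOfLe hXW).toEquiv]
    have hstep := closure_step hA' hA3' hθ' hsolv' (hcard ▸ hX) (hcard ▸ ih _ hn)
      (by rw [hcl, ← subgroupOf_sup hXW hAW, subgroupOf_self]) (a := ⟨a, hAW ha⟩) ha
      (fun e => ha1 (congrArg Subtype.val e))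
    rintro x ⟨hx, hxa⟩
    exact hstep (x := ⟨x, hXW hx⟩) ⟨hcl.ge hx, mem_centralizer_singleton_iff.mpr
      (Subtype.ext (mem_centralizer_singleton_iff.mp hxa))⟩

/-- A signalizer functor of rank at least three with solvable `p'`-closure is complete. -/
theorem closure_inf_centralizer {G : Type u} [Group G] [Finite G] {p : ℕ} [Fact p.Prime]
    {A : Subgroup G} {θ : G → Subgroup G} (hA : Cfsg.IsElementaryAbelian p A)
    (hA3 : p ^ 3 ≤ Nat.card A) (hθ : Cfsg.IsSignalizerFunctor p A θ)
    (hs : Group.IsSolvable (Cfsg.signalizerClosure A θ))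
    (hX : ¬ p ∣ Nat.card (Cfsg.signalizerClosure A θ)) {a : G} (ha : a ∈ A) (ha1 : a ≠ 1) :
    Cfsg.signalizerClosure A θ ⊓ centralizer {a} = θ a :=
  le_antisymm (closure_stmt _ G p A θ hA hA3 hθ hs hX (Nat.lt_succ_self _) a ha ha1)
    (le_inf (le_closure ha ha1) (hθ.1 a ha ha1))

end CfsgLib.Signalizer
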