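import Cfsg.Agent.Lib.Signalizer.Count

/-!
Owner: helper11. Counting pairs of involutions (Brauer-Fowler).
-/

set_option autoImplicit false

namespace CfsgLib.Signalizer

open Subgroup

variable {G : Type*} [Group G]

/-- The pairs of involutions with product `x`. -/
abbrev InvPairs (x : G) : Type _ :=
  {p : G × G // orderOf p.1 = 2 ∧ orderOf p.2 = 2 ∧ p.1 * p.2 = x}

/-- The elements conjugating `x` to itself or to its inverse. -/
def extCentralizer (x : G) : Subgroup G where
  carrier := {g | g * x * g⁻¹ = x ∨ g * x * g⁻¹ = x⁻¹}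
  one_mem' := Or.inl (by group)
  mul_mem' := by
    intro a b ha hb
    have e : a * b * x * (a * b)⁻¹ = a * (b * x * b⁻¹) * a⁻¹ := by group
    rcases hb with hb | hb <;> rcases ha with ha | ha
    · left; rw [e, hb, ha]
    · right; rw [e, hb, ha]
    · right; rw [e, hb, ← conj_inv, ha]
    · left; rw [e, hb, ← conj_inv, ha, inv_inv]
  inv_mem' := by
    intro a ha
    rcases ha with ha | ha
    · left
      calc a⁻¹ * x * a⁻¹⁻¹ = a⁻¹ * (a * x * a⁻¹) * a := by rw [ha, inv_inv]
        _ = x := by group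
    · right
      have h2 : a * x⁻¹ * a⁻¹ = x := by rw [← conj_inv, ha, inv_inv]
      calc a⁻¹ * x * a⁻¹⁻¹ = a⁻¹ * (a * x⁻¹ * a⁻¹) * a := by rw [h2, inv_inv]
        _ = x⁻¹ := by group

theorem centralizer_le_extCentralizer (x : G) : centralizer ({x} : Set G) ≤ extCentralizer x := by
  intro g hg
  exact Or.inl (by rw [mem_centralizer_singleton_iff.mp hg, mul_inv_cancel_right])

variable [Finite G]

theorem card_pairs_one : Nat.card (InvPairs (1 : G)) = Nat.card {t : G // orderOf t = 2} := by
  refine Nat.card_congr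
    { toFun := fun p => ⟨p.1.1, p.2.1⟩
      invFun := fun t => ⟨(t.1, t.1), t.2, t.2, involution_sq t.2⟩
      left_inv := fun p => ?_
      right_inv := fun t => rfl }
  apply Subtype.ext
  refine Prod.ext rfl ?_
  have h : p.1.1⁻¹ = p.1.2 := inv_eq_of_mul_eq_one_right p.2.2.2
  rw [involution_inv p.2.1] at h
  exact h

theorem card_pairs_le_centralizer (x : G) :
    Nat.card (InvPairs x) ≤ Nat.card (centralizer ({x} : Set G)) := by
  by_cases hreal : IsConj x x⁻¹
  · rw [← card_inverting x hreal]
    refine Nat.card_le_card_of_injective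
      (fun p => ⟨p.1.1, pair_fst_inverts p.2.1 p.2.2.1 p.2.2.2⟩) ?_
    intro p q h
    exact pair_fst_injective x (congrArg Subtype.val h)
  · rw [show Nat.card (InvPairs x) = 0 from Nat.card_eq_zero.mpr (Or.inl ⟨fun p => hreal
      (isConj_iff.mpr ⟨p.1.1, pair_fst_inverts p.2.1 p.2.2.1 p.2.2.2⟩)⟩)]
    exact Nat.zero_le _

theorem card_pairs_add_two_le (x : G) (hx : orderOf x = 2) :
    Nat.card (InvPairs x) + 2 ≤ Nat.card (centralizer ({x} : Set G)) := by
  rw [show ∀ a : ℕ, a + 2 = a + 1 + 1 from fun a => rfl, card_pairs_involution x hx,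
    ← Finite.card_option]
  refine Nat.card_le_card_of_injective (fun o => o.elim ⟨1, one_mem _⟩
    fun t => ⟨t.1, mem_centralizer_singleton_iff.mpr t.2.2.eq⟩) ?_
  rintro (_ | t) (_ | t') h
  · rfl
  · exact absurd (congrArg Subtype.val h).symm (involution_ne_one t'.2.1)
  · exact absurd (congrArg Subtype.val h) (involution_ne_one t.2.1)
  · exact congrArg some (Subtype.ext (congrArg Subtype.val h : _))

theorem two_mul_card_pairs_le (x : G) (hx2 : x * x ≠ 1) :
    2 * Nat.card (InvPairs x) ≤ Nat.card (extCentralizer x) := by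
  rcases isEmpty_or_nonempty (InvPairs x) with he | ⟨⟨p⟩⟩
  · simp
  have hinv : p.1.1 * x * p.1.1⁻¹ = x⁻¹ := pair_fst_inverts p.2.1 p.2.2.1 p.2.2.2
  have hreal : IsConj x x⁻¹ := isConj_iff.mpr ⟨_, hinv⟩
  refine le_trans (Nat.mul_le_mul_left 2 (card_pairs_le_centralizer x)) ?_
  have hle := centralizer_le_extCentralizer x
  have hne : (centralizer ({x} : Set G)).subgroupOf (extCentralizer x) ≠ ⊤ := by
    intro h
    rw [subgroupOf_eq_top] at h
    have h2 := h (show p.1.1 ∈ extCentralizer x from Or.inr hinv)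
    rw [mem_centralizer_singleton_iff] at h2
    rw [h2, mul_inv_cancel_right] at hinv
    exact hx2 (eq_inv_iff_mul_eq_one.mp hinv)
  have h2 := ((centralizer ({x} : Set G)).subgroupOf (extCentralizer x)).card_mul_index
  have h3 : 2 ≤ ((centralizer ({x} : Set G)).subgroupOf (extCentralizer x)).index := by
    have := index_ne_zero_of_finite (H := (centralizer ({x} : Set G)).subgroupOf (extCentralizer x))
    have h4 : ((centralizer ({x} : Set G)).subgroupOf (extCentralizer x)).index ≠ 1 :=
      fun h => hne (index_eq_one.mp h)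
    omega
  rw [Nat.card_congr (subgroupOfEquivOfLe hle).toEquiv] at h2
  rw [← h2, mul_comm]
  exact Nat.mul_le_mul_left _ h3

theorem sum_card_pairs [Fintype G] :
    ∑ x : G, Nat.card (InvPairs x) = Nat.card {t : G // orderOf t = 2} ^ 2 := by
  rw [← Nat.card_sigma, sq, ← Nat.card_prod]
  exact Nat.card_congr
    { toFun := fun s => (⟨s.2.1.1, s.2.2.1⟩, ⟨s.2.1.2, s.2.2.2.1⟩)
      invFun := fun p => ⟨p.1.1 * p.2.1, ⟨(p.1.1, p.2.1), p.1.2, p.2.2, rfl⟩⟩
      left_inv := by rintro ⟨x, ⟨⟨a, b⟩, ha, hb, rfl⟩⟩; rfl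
      right_inv := fun p => rfl }

theorem exists_max_proper_subgroup (hG : Nontrivial G) :
    ∃ H : Subgroup G, H ≠ ⊤ ∧ ∀ K : Subgroup G, K ≠ ⊤ → Nat.card K ≤ Nat.card H := by
  classical
  have : Fintype (Subgroup G) := Fintype.ofFinite _
  obtain ⟨H, hH, hmax⟩ := (Finset.univ.filter fun K : Subgroup G => K ≠ ⊤).exists_max_image
    (fun K => Nat.card K) ⟨⊥, by simp⟩
  exact ⟨H, (Finset.mem_filter.mp hH).2, fun K hK => hmax K (by simp [hK])⟩

theorem card_le_mul_card_involutions {t : G} (ht : orderOf t = 2) :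
    Nat.card G ≤ Nat.card {u : G // orderOf u = 2} * Nat.card (centralizer ({t} : Set G)) := by
  rw [← card_conj_class t]
  refine Nat.mul_le_mul_right _ (Nat.card_le_card_of_injective (fun y => ⟨y.1, ?_⟩)
    fun a b h => Subtype.ext (congrArg Subtype.val h : _))
  obtain ⟨g, hg⟩ := isConj_iff.mp y.2
  rw [← hg, orderOf_conj, ht]

/-- The Brauer-Fowler inequality: without subgroups of index two and with odd centre. -/
theorem brauer_fowler (heven : Even (Nat.card G)) (hZ : Odd (Nat.card (center G)))
    (hno : ∀ K : Subgroup G, K.index ≠ 2) {H : Subgroup G} (hH : H ≠ ⊤)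
    (hmax : ∀ K : Subgroup G, K ≠ ⊤ → Nat.card K ≤ Nat.card H) :
    2 * H.index * Nat.card {t : G // orderOf t = 2} ^ 2 <
      Nat.card G * (Nat.card G + Nat.card {t : G // orderOf t = 2}) := by
  classical
  have := Fintype.ofFinite G
  set m := Nat.card {t : G // orderOf t = 2} with hm
  set h := Nat.card H with hh
  set g := Nat.card G with hg
  have hpt : ∀ x : G, 2 * Nat.card (InvPairs x) + (if orderOf x = 2 then 4 else 0) +
      (if x = 1 then h else 0) ≤
      h + (if orderOf x = 2 then h else 0) + (if x = 1 then 2 * m else 0) := by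
    intro x
    by_cases hx1 : x = 1
    · subst hx1
      have h1 : orderOf (1 : G) ≠ 2 := by simp
      rw [if_neg h1, if_neg h1, if_pos rfl, if_pos rfl, card_pairs_one]
      omega
    by_cases hx : orderOf x = 2
    · rw [if_pos hx, if_pos hx, if_neg hx1, if_neg hx1]
      have hne : centralizer ({x} : Set G) ≠ ⊤ := by
        intro e
        have hxZ : x ∈ center G := mem_center_iff.mpr fun g =>
          mem_centralizer_singleton_iff.mp (e ▸ Subgroup.mem_top g)
        exact absurd ((hZ.of_dvd_nat (hx ▸ orderOf_dvd_natCard _ hxZ))) (by decide)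
      have h1 := hmax _ hne
      have h2 := card_pairs_add_two_le x hx
      omega
    · rw [if_neg hx, if_neg hx, if_neg hx1, if_neg hx1]
      have hx2 : x * x ≠ 1 := fun e => hx (orderOf_eq_two_of hx1 e)
      rcases isEmpty_or_nonempty (InvPairs x) with he | ⟨⟨p⟩⟩
      · simp
      have hne : extCentralizer x ≠ ⊤ := by
        intro e
        apply hno (centralizer ({x} : Set G))
        have hr : IsConj x x⁻¹ :=
          isConj_iff.mpr ⟨_, pair_fst_inverts p.2.1 p.2.2.1 p.2.2.2⟩
        have hc : ∀ y : G, IsConj x y → y = x ∨ y = x⁻¹ := by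
          intro y hy
          obtain ⟨c, rfl⟩ := isConj_iff.mp hy
          exact (e ▸ Subgroup.mem_top c : c ∈ extCentralizer x)
        have hclass : Nat.card {y : G // IsConj x y} = 2 := by
          rw [Nat.card_eq_two_iff]
          refine ⟨⟨x, IsConj.refl x⟩, ⟨x⁻¹, hr⟩,
            fun h' => hx2 (eq_inv_iff_mul_eq_one.mp (congrArg Subtype.val h')), ?_⟩
          ext y
          simp only [Set.mem_insert_iff, Set.mem_singleton_iff, Set.mem_univ, iff_true, Subtype.ext_iff]
          exact hc y.1 y.2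
        have h1 := card_conj_class x
        rw [hclass, ← (centralizer ({x} : Set G)).index_mul_card] at h1
        exact (Nat.eq_of_mul_eq_mul_right Nat.card_pos h1).symm
      have h1 := hmax _ hne
      have h2 := two_mul_card_pairs_le x hx2
      omega
  have hsum := Finset.sum_le_sum (s := Finset.univ) fun x _ => hpt x
  simp only [Finset.sum_add_distrib, ← Finset.mul_sum, sum_card_pairs, Finset.sum_const,
    ← Finset.sum_filter, Finset.card_univ, smul_eq_mul] at hsum
  have h1 : (Finset.univ.filter fun x : G => orderOf x = 2).card = m := by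
    rw [hm, Nat.card_eq_fintype_card, Fintype.card_subtype]
  have h2 : (Finset.univ.filter fun x : G => x = 1).card = 1 := by
    rw [Finset.card_eq_one]
    exact ⟨1, by ext; simp⟩
  rw [h1, h2, ← Nat.card_eq_fintype_card, ← hm] at hsum
  have hgi : h * H.index = g := H.card_mul_index
  have hm0 : 0 < m := by
    obtain ⟨t, ht⟩ := exists_prime_orderOf_dvd_card' 2 (even_iff_two_dvd.mp heven)
    exact Nat.card_pos_iff.mpr ⟨⟨t, ht⟩, inferInstance⟩
  have hi : 0 < H.index := Nat.pos_of_ne_zero index_ne_zero_of_finite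
  rw [← hg, ← hgi] at hsum
  rw [← hgi]
  have hscaled := Nat.mul_le_mul_right H.index hsum
  nlinarith [Nat.mul_pos hi hm0]

theorem brauer_fowler_sq [Nontrivial G] {H : Subgroup G}
    (hmax : ∀ x : G, x ≠ 1 → Nat.card (centralizer ({x} : Set G)) ≤ Nat.card H) :
    Nat.card {t : G // orderOf t = 2} ^ 2 ≤
      Nat.card {t : G // orderOf t = 2} + Nat.card G * Nat.card H := by
  classical
  have := Fintype.ofFinite G
  rw [← sum_card_pairs, ← Finset.add_sum_erase _ _ (Finset.mem_univ (1 : G)), card_pairs_one]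
  refine Nat.add_le_add_left ?_ _
  refine le_trans (Finset.sum_le_card_nsmul _ _ (Nat.card H) fun x hx =>
    (card_pairs_le_centralizer x).trans (hmax x (Finset.ne_of_mem_erase hx))) ?_
  rw [smul_eq_mul]
  exact Nat.mul_le_mul_right _ (by
    rw [Nat.card_eq_fintype_card]; exact Finset.card_le_univ _)

end CfsgLib.Signalizer
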