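import Cfsg.Agent.Lib.Core.UniqueOrderP
import Cfsg.Agent.Lib.Core.Basic
import Cfsg.Agent.Lib.Core.Cores
import Cfsg.Agent.Lib.Core.SolvableStruct
import Cfsg.Agent.Lib.Fusion.MaximalCyclic
import Cfsg.Agent.Lib.Recog.GLTwoThree

/-!
Owner: helper4. A group with self centralising `O₂` of 2-rank one has no elementary subgroup of order 8.
-/

set_option autoImplicit false
set_option linter.style.haveILetI false

namespace CfsgLib.Signalizer.SolvCores

open Subgroup

theorem no_eight {Y : Type*} [Group Y] [Finite Y]
    (hc : centralizer (Cfsg.pCore 2 Y : Set Y) ≤ Cfsg.pCore 2 Y)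
    (hr : Cfsg.PRankLE 2 1 ↥(Cfsg.pCore 2 Y)) {F : Subgroup Y} (hF : ∀ x ∈ F, x * x = 1)
    (h8 : 8 ≤ Nat.card F) : False := by
  classical
  haveI : Fact (Nat.Prime 2) := ⟨Nat.prime_two⟩
  set P := Cfsg.pCore 2 Y with hPdef
  have hPp : IsPGroup 2 P := CfsgLib.Core.isPGroup_pCore 2 Y
  haveI : P.Normal := inferInstance
  have hFp : IsPGroup 2 F := fun x => ⟨1, Subtype.ext (by
    rw [pow_one, SubgroupClass.coe_pow, pow_two]; exact hF x x.2)⟩
  have hFP : Nat.card ↥(F ⊓ P : Subgroup Y) ≤ 2 := by
    have hab : IsMulCommutative ↥((F ⊓ P).subgroupOf P) := ⟨⟨fun a b => by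
      apply Subtype.ext; apply Subtype.ext
      have ha := hF _ (mem_subgroupOf.1 a.2).1
      have hb := hF _ (mem_subgroupOf.1 b.2).1
      have hab := hF _ ((mul_mem (mem_subgroupOf.1 a.2) (mem_subgroupOf.1 b.2)).1)
      show ((a : P) : Y) * ((b : P) : Y) = ((b : P) : Y) * ((a : P) : Y)
      calc ((a : P) : Y) * ((b : P) : Y) = (((a : P) : Y) * ((b : P) : Y))⁻¹ :=
            (inv_eq_of_mul_eq_one_right hab).symm
        _ = _ := by rw [mul_inv_rev, inv_eq_of_mul_eq_one_right ha, inv_eq_of_mul_eq_one_right hb]⟩⟩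
    have h := hr ((F ⊓ P).subgroupOf P) hab fun a ha => Subtype.ext (by
      rw [SubgroupClass.coe_pow, pow_two]; exact hF _ (mem_subgroupOf.1 ha).1)
    rwa [pow_one, Nat.card_congr (subgroupOfEquivOfLe inf_le_right).toEquiv] at h
  let φ : Y →* MulAut P := MulAut.conjNormal
  have hker : φ.ker ≤ P := fun y hy => hc (mem_centralizer_iff.2 fun q hq => by
    have h : φ y ⟨q, hq⟩ = (⟨q, hq⟩ : P) := by rw [MonoidHom.mem_ker.1 hy]; rfl
    have h' := congrArg Subtype.val h
    simp only [φ, MulAut.conjNormal_apply] at h'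
    exact (mul_inv_eq_iff_eq_mul.1 h').symm)
  -- not a 2-group
  have hnot : ¬ IsPGroup 2 φ.range := by
    intro hR
    have hY : IsPGroup 2 Y := by
      intro y
      obtain ⟨k, hk⟩ := hR ⟨φ y, y, rfl⟩
      have h1 : y ^ 2 ^ k ∈ φ.ker := by
        rw [MonoidHom.mem_ker, map_pow]
        exact congrArg Subtype.val hk
      obtain ⟨l, hl⟩ := hPp ⟨y ^ 2 ^ k, hker h1⟩
      exact ⟨k + l, by
        have := congrArg Subtype.val hl
        rw [SubgroupClass.coe_pow, coe_one] at this
        rw [pow_add, pow_mul]; exact this⟩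
    have hP : (⊤ : Subgroup Y) ≤ P := le_sSup ⟨inferInstance, hY.to_subgroup ⊤⟩
    have : F ⊓ P = F := inf_eq_left.2 (le_top.trans hP)
    rw [this] at hFP
    omega
  have huniq : ∀ H K : Subgroup P, Nat.card H = 2 → Nat.card K = 2 → H = K := by
    have key : ∀ a b : P, a * a = 1 → b * b = 1 → a * b = b * a → a ≠ 1 → b ≠ 1 → a = b := by
      intro a b ha hb hab ha1 hb1
      by_contra hne
      let U : Subgroup P :=
        { carrier := {x | x = 1 ∨ x = a ∨ x = b ∨ x = a * b}
          one_mem' := Or.inl rfl
          inv_mem' := by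
            rintro x (rfl | rfl | rfl | rfl)
            · exact Or.inl inv_one
            · exact Or.inr (Or.inl (inv_eq_of_mul_eq_one_right ha))
            · exact Or.inr (Or.inr (Or.inl (inv_eq_of_mul_eq_one_right hb)))
            · refine Or.inr (Or.inr (Or.inr (inv_eq_of_mul_eq_one_right ?_)))
              rw [mul_assoc, ← mul_assoc b, ← hab, mul_assoc a b, hb, mul_one, ha]
          mul_mem' := by
            have e1 : a * (a * b) = b := by rw [← mul_assoc, ha, one_mul]
            have e2 : b * (a * b) = a := by rw [hab, ← mul_assoc, hb, one_mul]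
            have e3 : a * b * a = b := by rw [hab, mul_assoc, ha, mul_one]
            have e4 : a * b * b = a := by rw [mul_assoc, hb, mul_one]
            have e5 : a * b * (a * b) = 1 := by rw [mul_assoc, e2, ha]
            rintro x y (rfl | rfl | rfl | rfl) (rfl | rfl | rfl | rfl) <;>
              simp [ha, hb, hab.symm, e1, e2, e3, e4, e5] }
      have hU2 : ∀ x ∈ U, x ^ 2 = 1 := by
        rintro x (rfl | rfl | rfl | rfl)
        · exact one_pow 2
        · rw [pow_two, ha]
        · rw [pow_two, hb]
        · rw [pow_two, mul_assoc, ← mul_assoc b, ← hab, mul_assoc a b, hb, mul_one, ha]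
      have hinv : ∀ x ∈ U, x⁻¹ = x := fun x hx => inv_eq_of_mul_eq_one_right (by rw [← pow_two]; exact hU2 x hx)
      have hUa : IsMulCommutative U := ⟨⟨fun x y => Subtype.ext (by
        rw [Subgroup.coe_mul, Subgroup.coe_mul, ← hinv _ (mul_mem x.2 y.2), mul_inv_rev, hinv _ x.2,
          hinv _ y.2])⟩⟩
      have h := hr U hUa hU2
      have h3 : 3 ≤ Nat.card U := by
        haveI := Fintype.ofFinite U
        rw [Nat.card_eq_fintype_card]
        have hs : ({⟨1, one_mem U⟩, ⟨a, Or.inr (Or.inl rfl)⟩, ⟨b, Or.inr (Or.inr (Or.inl rfl))⟩} :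
            Finset U).card = 3 := by
          rw [Finset.card_eq_three]
          exact ⟨_, _, _, fun e => ha1 (congrArg Subtype.val e).symm,
            fun e => hb1 (congrArg Subtype.val e).symm, fun e => hne (congrArg Subtype.val e), rfl⟩
        rw [← hs]; exact Finset.card_le_univ _
      omega
    intro H K hH hK
    have gen : ∀ L : Subgroup P, Nat.card L = 2 → ∃ a ∈ L, a ≠ 1 ∧ a * a = 1 ∧ L = zpowers a := by
      intro L hL
      obtain ⟨a, ha⟩ := exists_prime_orderOf_dvd_card' (G := L) 2 (by rw [hL])
      have ha' : orderOf (a : P) = 2 := by rw [Subgroup.orderOf_coe, ha]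
      refine ⟨a, a.2, fun e => ?_, ?_, (eq_of_le_of_card_ge (zpowers_le.2 a.2)
        (by rw [Nat.card_zpowers, ha', hL])).symm⟩
      · rw [e, orderOf_one] at ha'; omega
      · rw [← pow_two, ← ha', pow_orderOf_eq_one]
    obtain ⟨a, -, ha1, haa, rfl⟩ := gen H hH
    obtain ⟨b, -, hb1, hbb, rfl⟩ := gen K hK
    haveI : Nontrivial P := ⟨⟨a, 1, ha1⟩⟩
    obtain ⟨c, hc⟩ := exists_prime_orderOf_dvd_card' (G := center P) 2 (by
      haveI := hPp.center_nontrivial
      obtain ⟨k, hk0, hk⟩ := (hPp.to_subgroup (center P)).nontrivial_iff_card.1 ‹_›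
      exact hk ▸ dvd_pow_self 2 hk0.ne')
    have hc' : orderOf (c : P) = 2 := by rw [Subgroup.orderOf_coe, hc]
    have hcc : (c : P) * c = 1 := by rw [← pow_two, ← hc', pow_orderOf_eq_one]
    have hc1 : (c : P) ≠ 1 := fun e => by rw [e, orderOf_one] at hc'; omega
    have e1 := key a c haa hcc (mem_center_iff.1 c.2 a) ha1 hc1
    have e2 := key b c hbb hcc (mem_center_iff.1 c.2 b) hb1 hc1
    rw [e1, e2]
  refine hnot ?_
  rcases CfsgLib.Core.UniqueOrderP.isCyclic_or_quaternion_of_unique hPp huniq with hcy | ⟨-, n, ⟨e⟩⟩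
  · haveI := hcy
    obtain ⟨k, hk⟩ := hPp.exists_card_eq
    have hA : IsPGroup 2 (MulAut P) := by
      rcases k with _ | k
      · refine IsPGroup.of_card (n := 0) ?_
        rw [IsCyclic.card_mulAut, hk, pow_zero, Nat.totient_one]
      · refine IsPGroup.of_card (n := k) ?_
        rw [IsCyclic.card_mulAut, hk, Nat.totient_prime_pow_succ Nat.prime_two]
        simp
    exact hA.to_subgroup _
  · match n, e with
    | 0, e =>
      haveI : IsCyclic (QuaternionGroup (2 ^ 0)) := QuaternionGroup.quaternionGroup_one_isCyclic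
      haveI : IsCyclic P := e.isCyclic.2 inferInstance
      have hA : IsPGroup 2 (MulAut P) := by
        refine IsPGroup.of_card (n := 1) ?_
        rw [IsCyclic.card_mulAut, Nat.card_congr e.toEquiv, Nat.card_eq_fintype_card, QuaternionGroup.card]
        decide
      exact hA.to_subgroup _
    | 1, e =>
      have hR : Nat.card φ.range ≤ 24 := by
        refine (Nat.card_le_card_of_injective _ Subtype.val_injective).trans ?_
        rw [Nat.card_congr (MulAut.congr e).toEquiv]
        exact CfsgLib.GLTwoThree.card_mulAut_le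
      have hP8 : Nat.card P = 8 := by
        rw [Nat.card_congr e.toEquiv, Nat.card_eq_fintype_card, QuaternionGroup.card]; norm_num
      set R := P ⊔ F with hRdef
      have hRp : IsPGroup 2 R := hPp.to_sup_of_normal_left hFp
      have hRc : Nat.card F * Nat.card P = Nat.card R * Nat.card ↥(F ⊓ P : Subgroup Y) := by
        have h := CfsgLib.Core.card_sup_mul_card_inf F P (by rw [normalizer_eq_top]; exact le_top)
        rw [hRdef, sup_comm]
        exact h.symm
      have h32 : 32 ≤ Nat.card R := by
        have h1 : Nat.card R * Nat.card ↥(F ⊓ P : Subgroup Y) ≤ Nat.card R * 2 :=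
          Nat.mul_le_mul le_rfl hFP
        rw [← hRc, hP8] at h1
        omega
      have hk2 : Nat.card φ.ker ∣ 2 := by
        have hkc : φ.ker ≤ (center P).map P.subtype := fun y hy => ⟨⟨y, hker hy⟩, by
          rw [SetLike.mem_coe, mem_center_iff]
          intro q
          have h : φ y q = q := by rw [MonoidHom.mem_ker.1 hy]; rfl
          have h' := congrArg Subtype.val h
          simp only [φ, MulAut.conjNormal_apply] at h'
          exact Subtype.ext (mul_inv_eq_iff_eq_mul.1 h').symm, rfl⟩
        refine (card_dvd_of_le hkc).trans ?_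
        rw [card_map_of_injective P.subtype_injective]
        have hZ : IsPGroup 2 (center P) := hPp.to_subgroup _
        have hcy : Nat.card (center P) ∣ 2 := by
          have : Nat.card (center P) = Nat.card (center (QuaternionGroup (2 ^ 1))) :=
            Nat.card_congr (Subgroup.centerCongr e).toEquiv
          rw [this, Nat.card_eq_fintype_card]
          decide
        exact hcy
      set S := R.map φ with hSdef
      have hS16 : 16 ≤ Nat.card S := by
        have h1 : Nat.card R ≤ Nat.card S * Nat.card φ.ker := by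
          let g : R →* S := φ.subgroupMap R
          rw [g.ker.card_eq_card_quotient_mul_card_subgroup,
            Nat.card_congr (QuotientGroup.quotientKerEquivOfSurjective g (φ.subgroupMap_surjective R)).toEquiv]
          refine Nat.mul_le_mul le_rfl ?_
          refine Nat.card_le_card_of_injective (fun x => (⟨((x : R) : Y), ?_⟩ : φ.ker)) fun x y h => ?_
          · exact MonoidHom.mem_ker.2 (congrArg Subtype.val (MonoidHom.mem_ker.1 x.2))
          · exact Subtype.ext (Subtype.ext (congrArg (fun z : φ.ker => (z : Y)) h))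
        have h2 := Nat.le_of_dvd two_pos hk2
        have h3 := Nat.mul_le_mul (le_refl (Nat.card S)) h2
        omega
      have hSle : S ≤ φ.range := map_le_range _ _
      have hdvd := card_dvd_of_le hSle
      have heq : S = φ.range := eq_of_le_of_card_ge hSle (by
        obtain ⟨m, hm⟩ := hdvd
        have hpos : 0 < Nat.card φ.range := Nat.card_pos
        rcases m with _ | _ | m
        · omega
        · omega
        · rw [hm] at hR
          nlinarith)
      rw [← heq]
      exact hRp.map φ
    | M + 2, e =>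
      have hA : IsPGroup 2 (MulAut P) := fun β =>
        CfsgLib.Fusion.transfer_aut e (CfsgLib.Fusion.quaternion_aut (Nat.le_add_left 2 M)) β
      exact hA.to_subgroup _

end CfsgLib.Signalizer.SolvCores
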