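import Cfsg.Agent.Lib.Signalizer.CoresGenerate
import Cfsg.Agent.Lib.Signalizer.SolvableCentRankOne
import Cfsg.Agent.Lib.Signalizer.Embedded
import Cfsg.Agent.Lib.Bender.Gen.Wiring

/-!
Owner: helper4. Solvable involution centralisers have trivial cores when `O(G) = 1` and some Sylow
2-subgroup has an elementary normal subgroup of order 8: the cores generate `W`, its normaliser contains
every involution centraliser, so it is strongly embedded and its core is contained in `O(G)`.
-/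

set_option autoImplicit false
set_option linter.style.haveILetI false
set_option linter.unusedSectionVars false

namespace CfsgLib.Signalizer.SolvCores

open Subgroup
open CfsgLib.Classical.TwoType
open CfsgLib.Signalizer (involution_sq orderOf_eq_two_of involution_ne_one)

universe u

variable {G : Type u} [Group G] [Finite G]

theorem odd_solvable (X : Subgroup G) (h : Odd (Nat.card X)) : Group.IsSolvable X :=
  Cfsg.Agent.S0205.result h

theorem isPConstrained_of_solvable {X : Type*} [Group X] [Finite X] [Group.IsSolvable X] :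
    Cfsg.IsPConstrained 2 X := by
  haveI : Fact (Nat.Prime 2) := ⟨Nat.prime_two⟩
  rw [CfsgLib.PLocal.isPConstrained_iff]
  haveI : Group.IsSolvable (X ⧸ Cfsg.pPrimeCore 2 X) :=
    Group.isSolvable_of_surjective (QuotientGroup.mk'_surjective (Cfsg.pPrimeCore 2 X))
  exact CfsgLib.Core.centralizer_pCore_le_of_pPrimeCore_eq_bot
    (CfsgLib.Core.pPrimeCore_quotient_pPrimeCore 2 X)

/-- An elementary subgroup of order at least four bounds the rank from below. -/
theorem not_rankOne_of_elem {F B : Subgroup G} (hF : ∀ x ∈ F, x * x = 1) (h4 : 4 ≤ Nat.card F)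
    (hFB : F ≤ B) : ¬ Cfsg.PRankLE 2 1 ↥B := by
  intro h
  have hinv : ∀ x ∈ F, x⁻¹ = x := fun x hx => inv_eq_of_mul_eq_one_right (hF x hx)
  have h' := h (F.subgroupOf B) ⟨⟨fun a b => by
      apply Subtype.ext; apply Subtype.ext
      have ha := mem_subgroupOf.1 a.2
      have hb := mem_subgroupOf.1 b.2
      show ((a : B) : G) * ((b : B) : G) = ((b : B) : G) * ((a : B) : G)
      rw [← hinv _ (mul_mem ha hb), mul_inv_rev, hinv _ ha, hinv _ hb]⟩⟩
    fun a ha => Subtype.ext (by rw [SubgroupClass.coe_pow, pow_two]; exact hF _ (mem_subgroupOf.1 ha))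
  rw [pow_one, Nat.card_congr (subgroupOfEquivOfLe hFB).toEquiv] at h'
  omega

/-- What is known about the subgroup generated by the cores. -/
structure Data (S : Sylow 2 G) (E W : Subgroup G) : Prop where
  sq : ∀ x ∈ E, x * x = 1
  card : 8 ≤ Nat.card E
  le : E ≤ (S : Subgroup G)
  norm : (S : Subgroup G) ≤ normalizer (E : Set G)
  odd : Odd (Nat.card W)
  spec : ∀ B : Subgroup G, B ≤ (S : Subgroup G) → ¬ Cfsg.PRankLE 2 1 ↥B →
    W = (⨆ b : {b : G // b ∈ B ∧ b ≠ 1}, oC (b : G)) ∧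
      normalizer (B : Set G) ≤ normalizer (W : Set G)

variable {S : Sylow 2 G} {E W : Subgroup G} (hD : Data S E W)
include hD

theorem Data.sylow_le : (S : Subgroup G) ≤ normalizer (W : Set G) :=
  le_normalizer.trans (hD.spec (S : Subgroup G) le_rfl
    (not_rankOne_of_elem hD.sq (by have := hD.card; omega) hD.le)).2

theorem Data.cores_le {x : G} (hx : x ∈ (S : Subgroup G)) (hx1 : x ≠ 1) : oC x ≤ W := by
  rw [(hD.spec (S : Subgroup G) le_rfl
    (not_rankOne_of_elem hD.sq (by have := hD.card; omega) hD.le)).1]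
  exact le_iSup (fun b : {b : G // b ∈ (S : Subgroup G) ∧ b ≠ 1} => oC (b : G)) ⟨x, hx, hx1⟩

/-- A four group of the Sylow subgroup conjugate into it is conjugate inside the normaliser of `W`. -/
theorem Data.mem_of_four_sylow {F : Subgroup G} {g : G} (hF : ∀ x ∈ F, x * x = 1) (h4 : 4 ≤ Nat.card F)
    (hFS : F ≤ (S : Subgroup G)) (hgS : F.map (MulAut.conj g).toMonoidHom ≤ (S : Subgroup G)) :
    g ∈ normalizer (W : Set G) := by
  have hrk' : ¬ Cfsg.PRankLE 2 1 ↥(F.map (MulAut.conj g).toMonoidHom) := by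
    refine not_rankOne_of_elem ?_ ?_ le_rfl
    · rintro _ ⟨x, hx, rfl⟩; rw [← map_mul, hF x hx, map_one]
    · rwa [CfsgLib.Transfer.card_map_conj]
  have e1 := (hD.spec F hFS (not_rankOne_of_elem hF h4 le_rfl)).1
  have e2 := (hD.spec _ hgS hrk').1
  rw [mem_normalizer_iff_map_conj_eq]
  refine Subgroup.eq_of_le_of_card_ge ?_ (le_of_eq (CfsgLib.Transfer.card_map_conj g W).symm)
  conv_lhs => rw [e1, Subgroup.map_iSup]
  rw [e2]
  refine iSup_le fun b => (map_oC_le g b).trans ?_
  exact le_iSup (fun b : {b : G // b ∈ F.map (MulAut.conj g).toMonoidHom ∧ b ≠ 1} => oC (b : G))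
    ⟨g * b * g⁻¹, ⟨b, b.2.1, rfl⟩, fun e => b.2.2 (by simpa [mul_inv_eq_one] using e)⟩

/-- A 2-subgroup of the normaliser of `W` is conjugate into the Sylow subgroup inside it. -/
theorem Data.exists_conj {P : Subgroup G} (hP : IsPGroup 2 P) (hPM : P ≤ normalizer (W : Set G)) :
    ∃ m ∈ normalizer (W : Set G), P.map (MulAut.conj m).toMonoidHom ≤ (S : Subgroup G) := by
  haveI : Fact (Nat.Prime 2) := ⟨Nat.prime_two⟩
  set M := normalizer (W : Set G)
  obtain ⟨Q, hQ⟩ := (hP.of_equiv (subgroupOfEquivOfLe hPM).symm).exists_le_sylow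
  obtain ⟨m, hm⟩ := MulAction.exists_smul_eq M Q (S.subtype hD.sylow_le)
  refine ⟨m, m.2, ?_⟩
  rintro _ ⟨x, hx, rfl⟩
  have h1 : m * ⟨x, hPM hx⟩ * m⁻¹ ∈ (S.subtype hD.sylow_le : Subgroup M) := by
    rw [← hm, Sylow.coe_subgroup_smul]
    exact ⟨⟨x, hPM hx⟩, hQ (mem_subgroupOf.2 hx), rfl⟩
  exact h1

theorem Data.mem_of_four {F : Subgroup G} {g : G} (hF : ∀ x ∈ F, x * x = 1) (h4 : 4 ≤ Nat.card F)
    (hFM : F ≤ normalizer (W : Set G))
    (hgM : F.map (MulAut.conj g).toMonoidHom ≤ normalizer (W : Set G)) :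
    g ∈ normalizer (W : Set G) := by
  have hFp : IsPGroup 2 F := fun x => ⟨1, Subtype.ext (by
    rw [pow_one, SubgroupClass.coe_pow, pow_two]; exact hF x x.2)⟩
  obtain ⟨m, hm, hmS⟩ := hD.exists_conj hFp hFM
  obtain ⟨n, hn, hnS⟩ := hD.exists_conj (hFp.map _) hgM
  have h := hD.mem_of_four_sylow (F := F.map (MulAut.conj m).toMonoidHom) (g := n * g * m⁻¹)
    (by rintro _ ⟨x, hx, rfl⟩; rw [← map_mul, hF x hx, map_one])
    (by rwa [CfsgLib.Transfer.card_map_conj]) hmS
    (by
      rintro _ ⟨_, ⟨x, hx, rfl⟩, rfl⟩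
      have := hnS ⟨_, ⟨x, hx, rfl⟩, rfl⟩
      simpa [mul_assoc] using this)
  have h' := mul_mem (mul_mem (inv_mem hn) h) hm
  simpa [mul_assoc] using h'

/-- An elementary subgroup of order at least 8 of the Sylow subgroup through a given involution. -/
theorem Data.exists_eight {t : G} (ht : orderOf t = 2) (htS : t ∈ (S : Subgroup G)) :
    ∃ F : Subgroup G, (∀ x ∈ F, x * x = 1) ∧ 8 ≤ Nat.card F ∧ t ∈ F ∧ F ≤ (S : Subgroup G) := by
  have hE' : Cfsg.IsElementaryAbelian 2 E := by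
    refine ⟨⟨⟨fun a b => Subtype.ext ?_⟩⟩, fun a ha => by rw [pow_two]; exact hD.sq a ha⟩
    have hinv : ∀ x ∈ E, x⁻¹ = x := fun x hx => inv_eq_of_mul_eq_one_right (hD.sq x hx)
    show (a : G) * b = b * a
    rw [← hinv _ (mul_mem a.2 b.2), mul_inv_rev, hinv _ a.2, hinv _ b.2]
  haveI := hE'.1
  by_cases htE : t ∈ E
  · exact ⟨E, hD.sq, hD.card, htE, hD.le⟩
  have h4 : 4 ≤ Nat.card ↥(E ⊓ centralizer ({t} : Set G)) := by
    have := CoresGen.four_le_card_fixed hE' hD.card (y := t) (involution_sq ht) (hD.norm htS)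
    simpa using this
  set C := E ⊓ centralizer ({t} : Set G)
  let F : Subgroup G :=
    { carrier := {x | x ∈ C ∨ x * t ∈ C}
      one_mem' := Or.inl (one_mem _)
      inv_mem' := by
        rintro x (hx | hx)
        · exact Or.inl (inv_mem hx)
        · have hc : Commute (x * t) t := mem_centralizer_singleton_iff.1 hx.2
          have hcx : Commute x t := by
            have h' := hc.mul_left (Commute.refl t)
            rwa [mul_assoc, involution_sq ht, mul_one] at h'
          refine Or.inr ?_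
          have : x⁻¹ * t = (x * t)⁻¹ := by
            rw [mul_inv_rev, CfsgLib.Signalizer.involution_inv ht]
            exact (hcx.inv_left).eq
          rw [this]; exact inv_mem hx
      mul_mem' := by
        rintro x y (hx | hx) (hy | hy)
        · exact Or.inl (mul_mem hx hy)
        · exact Or.inr (by rw [mul_assoc]; exact mul_mem hx hy)
        · refine Or.inr ?_
          have hc : Commute y t := mem_centralizer_singleton_iff.1 hy.2
          rw [mul_assoc, hc.eq, ← mul_assoc]; exact mul_mem hx hy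
        · refine Or.inl ?_
          have hc : Commute (y * t) t := mem_centralizer_singleton_iff.1 hy.2
          have hcy : Commute y t := by
            have h' := hc.mul_left (Commute.refl t)
            rwa [mul_assoc, involution_sq ht, mul_one] at h'
          have : x * y = x * t * (y * t) := by
            rw [hcy.eq, mul_assoc, ← mul_assoc t, involution_sq ht, one_mul]
          rw [this]; exact mul_mem hx hy }
  have htF : t ∈ F := Or.inr (by rw [involution_sq ht]; exact one_mem _)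
  have hCF : C ≤ F := fun x hx => Or.inl hx
  refine ⟨F, ?_, ?_, htF, ?_⟩
  · rintro x (hx | hx)
    · exact hD.sq x hx.1
    · have hc : Commute (x * t) t := mem_centralizer_singleton_iff.1 hx.2
      have hcx : Commute x t := by
        have h' := hc.mul_left (Commute.refl t)
        rwa [mul_assoc, involution_sq ht, mul_one] at h'
      have h2 := hD.sq _ hx.1
      rwa [hcx.symm.mul_mul_mul_comm, involution_sq ht, mul_one] at h2
  · have hdvd : Nat.card C ∣ Nat.card F := card_dvd_of_le hCF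
    have hne : Nat.card C ≠ Nat.card F := fun h => htE
      ((Subgroup.eq_of_le_of_card_ge hCF h.ge) ▸ htF : t ∈ C).1
    obtain ⟨m, hm⟩ := hdvd
    rcases m with _ | _ | m
    · exact absurd hm (by simpa using Nat.card_pos.ne')
    · exact absurd (by simpa using hm.symm) hne
    · rw [hm]
      calc 8 ≤ 4 * (m + 1 + 1) := by omega
        _ ≤ _ := Nat.mul_le_mul h4 le_rfl
  · rintro x (hx | hx)
    · exact hD.le hx.1
    · have := mul_mem (hD.le hx.1) htS
      rwa [mul_assoc, involution_sq ht, mul_one] at this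

variable (hcon : ∀ t : G, orderOf t = 2 →
  Cfsg.IsPConstrained 2 ↥(centralizer ({t} : Set G)))
include hcon

/-- The centraliser of an involution of the Sylow subgroup normalises `W`. -/
theorem Data.centralizer_le_sylow {t : G} (ht : orderOf t = 2) (htS : t ∈ (S : Subgroup G)) :
    centralizer ({t} : Set G) ≤ normalizer (W : Set G) := by
  classical
  haveI : Fact (Nat.Prime 2) := ⟨Nat.prime_two⟩
  set M := normalizer (W : Set G) with hM
  set X := centralizer ({t} : Set G) with hX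
  obtain ⟨F, hF, hF8, htF, hFS⟩ := hD.exists_eight ht htS
  have hinvF : ∀ x ∈ F, x⁻¹ = x := fun x hx => inv_eq_of_mul_eq_one_right (hF x hx)
  have hFX : F ≤ X := fun x hx => mem_centralizer_singleton_iff.2 (by
    rw [← hinvF _ (mul_mem hx htF), mul_inv_rev, hinvF _ hx, hinvF _ htF])
  have hFp : IsPGroup 2 F := fun x => ⟨1, Subtype.ext (by
    rw [pow_one, SubgroupClass.coe_pow, pow_two]; exact hF x x.2)⟩
  obtain ⟨T, hT⟩ := (hFp.of_equiv (subgroupOfEquivOfLe hFX).symm).exists_le_sylow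
  set TG := (T : Subgroup X).map X.subtype with hTG
  obtain ⟨S', hS'⟩ := (T.2.map X.subtype).exists_le_sylow
  obtain ⟨k, hk⟩ := MulAction.exists_smul_eq G S' S
  have hkS : ∀ x ∈ (S' : Subgroup G), k * x * k⁻¹ ∈ (S : Subgroup G) := fun x hx => by
    rw [← hk, Sylow.coe_subgroup_smul]; exact ⟨x, hx, rfl⟩
  have hFT : F ≤ TG := fun x hx => ⟨⟨x, hFX hx⟩, hT (mem_subgroupOf.2 hx), rfl⟩
  have hkM : k ∈ M := hD.mem_of_four_sylow hF (by omega) hFS (by
    rintro _ ⟨x, hx, rfl⟩; exact hkS x (hS' (hFT hx)))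
  have hTM : TG ≤ M := fun x hx => by
    have := mul_mem (mul_mem (inv_mem hkM) (hD.sylow_le (hkS x (hS' hx)))) hkM
    simpa [mul_assoc] using this
  -- the odd core
  set K := Cfsg.pPrimeCore 2 X with hK
  have hKM : K.map X.subtype ≤ M := (hD.cores_le htS (involution_ne_one ht)).trans le_normalizer
  set π := QuotientGroup.mk' K with hπ
  have hKc := CfsgLib.Core.coprime_card_pPrimeCore 2 ↥X
  have hcore := CfsgLib.PLocal.isPConstrained_iff.1 (hcon t ht)
  set P := Cfsg.pCore 2 (X ⧸ K) with hP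
  set Q := (T : Subgroup X) ⊓ P.comap π with hQ
  have hQp : IsPGroup 2 Q := T.2.to_le inf_le_left
  have hinjT : ∀ a ∈ (T : Subgroup X), π a = 1 → a = 1 := fun a ha h => by
    have hd : orderOf a ∣ Nat.card K := Subgroup.orderOf_dvd_natCard K ((QuotientGroup.eq_one_iff a).1 h)
    obtain ⟨j, hj⟩ := IsPGroup.iff_orderOf.1 T.2 ⟨a, ha⟩
    rw [Subgroup.orderOf_mk] at hj
    refine orderOf_eq_one_iff.1 (Nat.eq_one_of_dvd_coprimes hKc hd ?_ |>.trans rfl)
    rw [hj]
    rcases j with _ | j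
    · simp
    · exfalso
      exact Nat.not_even_iff_odd.2 (Nat.Coprime.odd_of_right hKc)
        (even_iff_two_dvd.2 (dvd_trans (dvd_pow_self 2 (Nat.succ_ne_zero j)) (hj ▸ hd)))
  have hQP : Q.map π = P := by
    refine le_antisymm (map_le_iff_le_comap.2 inf_le_right) fun y hy => ?_
    obtain ⟨a, ha, rfl⟩ := CfsgLib.Core.pCore_le_sylow (T.mapSurjective (QuotientGroup.mk'_surjective K)) hy
    exact ⟨a, ⟨ha, hy⟩, rfl⟩
  by_cases hr : Cfsg.PRankLE 2 1 ↥P
  · exfalso
    refine no_eight hcore hr (F := (F.subgroupOf X).map π) ?_ ?_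
    · rintro _ ⟨x, hx, rfl⟩
      rw [← map_mul, show x * x = 1 from Subtype.ext (hF _ hx), map_one]
    · refine le_trans (le_of_eq (Nat.card_congr (subgroupOfEquivOfLe hFX).toEquiv).symm |>.trans ?_) le_rfl
        |>.trans' hF8
      refine le_of_eq ?_
      refine Nat.card_congr (Equiv.ofBijective (fun x => ⟨π x, mem_map_of_mem π x.2⟩) ⟨fun a b h => ?_, ?_⟩)
      · have h' : π (a : X) = π b := congrArg Subtype.val h
        exact Subtype.ext (inv_mul_eq_one.1 (hinjT _ (mul_mem (inv_mem (hT a.2)) (hT b.2))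
          (by rw [map_mul, map_inv, h', inv_mul_cancel])))
      · rintro ⟨_, a, ha, rfl⟩; exact ⟨⟨a, ha⟩, rfl⟩
  -- a four group inside `Q`
  obtain ⟨B, hB2, hB4, hBQ⟩ : ∃ B : Subgroup X, (∀ x ∈ B, x * x = 1) ∧ 4 ≤ Nat.card B ∧ B ≤ Q := by
    simp only [Cfsg.PRankLE, not_forall, not_le] at hr
    obtain ⟨A, hA, hA2, hA4⟩ := hr
    refine ⟨Q ⊓ (A.map P.subtype).comap π, fun x hx => ?_, ?_, inf_le_left⟩
    · obtain ⟨a, ha, hax⟩ := hx.2
      refine hinjT _ (mul_mem hx.1.1 hx.1.1) ?_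
      rw [map_mul, ← hax, ← map_mul, ← pow_two a, hA2 a ha, map_one]
    · have hle : Nat.card A ≤ Nat.card ↥(Q ⊓ (A.map P.subtype).comap π) := by
        rw [← card_map_of_injective P.subtype_injective (K := A)]
        refine Nat.card_le_card_of_surjective (fun x => ⟨π x.1, x.2.2⟩) ?_
        rintro ⟨_, a, ha, rfl⟩
        obtain ⟨x, hx, hxa⟩ := (show (a : X ⧸ K) ∈ Q.map π by rw [hQP]; exact a.2)
        exact ⟨⟨x, hx, a, ha, hxa.symm⟩, Subtype.ext hxa⟩
      have hpA : IsPGroup 2 A := fun x => ⟨1, Subtype.ext (by simpa using hA2 x x.2)⟩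
      obtain ⟨j, hj⟩ := hpA.exists_card_eq
      rw [hj] at hA4 hle
      have hj1 : 1 < j := (Nat.pow_lt_pow_iff_right (a := 2) one_lt_two).1 hA4
      exact le_trans (Nat.pow_le_pow_right two_pos (show 2 ≤ j from hj1)) hle
  -- the normaliser of `Q` covers
  intro g hg
  have hn : π ⟨g, hg⟩ ∈ normalizer ((Q.map π : Subgroup (X ⧸ K)) : Set (X ⧸ K)) := by
    rw [hQP, normalizer_eq_top]; exact mem_top _
  rw [← CfsgLib.PLocal.map_normalizer_eq K hKc hQp] at hn
  obtain ⟨n, hnQ, hne⟩ := hn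
  have hnM : (n : G) ∈ M := by
    refine hD.mem_of_four (F := B.map X.subtype) ?_ ?_ ?_ ?_
    · rintro _ ⟨x, hx, rfl⟩; rw [← map_mul, hB2 x hx, map_one]
    · rwa [card_map_of_injective X.subtype_injective]
    · rintro _ ⟨x, hx, rfl⟩; exact hTM ⟨x, (hBQ hx).1, rfl⟩
    · rintro _ ⟨_, ⟨x, hx, rfl⟩, rfl⟩
      exact hTM ⟨n * x * n⁻¹, ((mem_normalizer_iff.1 hnQ x).1 (hBQ hx)).1, rfl⟩
  have hq : n⁻¹ * ⟨g, hg⟩ ∈ K := QuotientGroup.eq.1 hne
  have := mul_mem hnM (hKM ⟨_, hq, rfl⟩)
  simpa using this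

/-- The centraliser of an involution in the normaliser of `W` normalises `W`. -/
theorem Data.centralizer_le {t : G} (ht : orderOf t = 2) (htM : t ∈ normalizer (W : Set G)) :
    centralizer ({t} : Set G) ≤ normalizer (W : Set G) := by
  haveI : Fact (Nat.Prime 2) := ⟨Nat.prime_two⟩
  obtain ⟨m, hm, hmS⟩ := hD.exists_conj
    (IsPGroup.of_card (n := 1) (G := zpowers t) (by rw [Nat.card_zpowers, ht, pow_one]))
    (zpowers_le.2 htM)
  intro g hg
  have hc := mem_centralizer_singleton_iff.1 hg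
  have h := hD.centralizer_le_sylow hcon (t := m * t * m⁻¹)
    ((CfsgLib.Signalizer.orderOf_conj m t).trans ht) (hmS ⟨t, mem_zpowers t, rfl⟩)
    (show m * g * m⁻¹ ∈ _ from mem_centralizer_singleton_iff.2 (by
      calc m * g * m⁻¹ * (m * t * m⁻¹) = m * (g * t) * m⁻¹ := by group
        _ = m * (t * g) * m⁻¹ := by rw [hc]
        _ = m * t * m⁻¹ * (m * g * m⁻¹) := by group))
  have := mul_mem (mul_mem (inv_mem hm) h) hm
  simpa [mul_assoc] using this

/-- The normaliser of `W` is everything or strongly embedded. -/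
theorem Data.stronglyEmbedded (hne : normalizer (W : Set G) ≠ ⊤) :
    Cfsg.IsStronglyEmbedded (normalizer (W : Set G)) := by
  haveI : Fact (Nat.Prime 2) := ⟨Nat.prime_two⟩
  rw [CfsgLib.Signalizer.stronglyEmbedded_iff_conj]
  refine ⟨hne, even_iff_two_dvd.2 ?_, fun t htM ht g hg => ?_⟩
  · have h1 : E ≠ ⊥ := fun e => by
      have := hD.card
      rw [e, Subgroup.card_bot] at this; omega
    obtain ⟨x, hx, hx1⟩ := E.bot_or_exists_ne_one.resolve_left h1
    exact (orderOf_eq_two_of hx1 (hD.sq x hx)) ▸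
      Subgroup.orderOf_dvd_natCard _ (hD.sylow_le (hD.le hx))
  obtain ⟨m, hm, hmS⟩ := hD.exists_conj
    (IsPGroup.of_card (n := 1) (G := zpowers t) (by rw [Nat.card_zpowers, ht, pow_one]))
    (zpowers_le.2 htM)
  set s := m * t * m⁻¹ with hs
  have hs2 : orderOf s = 2 := (CfsgLib.Signalizer.orderOf_conj m t).trans ht
  obtain ⟨F, hF, hF8, hsF, hFS⟩ := hD.exists_eight hs2 (hmS ⟨t, mem_zpowers t, rfl⟩)
  have hinvF : ∀ x ∈ F, x⁻¹ = x := fun x hx => inv_eq_of_mul_eq_one_right (hF x hx)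
  have h := hD.mem_of_four (g := g * m⁻¹) hF (by omega) (hFS.trans hD.sylow_le) (by
    rintro _ ⟨x, hx, rfl⟩
    refine hD.centralizer_le hcon ((CfsgLib.Signalizer.orderOf_conj g t).trans ht) hg ?_
    have hxs : x * s = s * x := by
      rw [← hinvF _ (mul_mem hx hsF), mul_inv_rev, hinvF _ hx, hinvF _ hsF]
    rw [mem_centralizer_singleton_iff]
    calc (MulAut.conj (g * m⁻¹)).toMonoidHom x * (g * t * g⁻¹)
        = g * m⁻¹ * (x * s) * m * g⁻¹ := by simp [hs, mul_assoc]
      _ = g * m⁻¹ * (s * x) * m * g⁻¹ := by rw [hxs]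
      _ = g * t * g⁻¹ * (MulAut.conj (g * m⁻¹)).toMonoidHom x := by simp [hs, mul_assoc])
  have := mul_mem h hm
  simpa using this

omit hD in
/-- Cores of 2-constrained involution centralisers, gated on the general Bender theorem. -/
theorem cores_trivial (hB : CfsgLib.Bender.BenderGen.{u}) (hO : Cfsg.oddCore G = ⊥) (S : Sylow 2 G)
    (E : Subgroup G) (hE : ∀ x ∈ E, x * x = 1) (h8 : 8 ≤ Nat.card E) (hES : E ≤ (S : Subgroup G))
    (hSE : (S : Subgroup G) ≤ normalizer (E : Set G)) {t : G} (ht : orderOf t = 2) :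
    Cfsg.oddCore ↥(centralizer ({t} : Set G)) = ⊥ := by
  haveI : Fact (Nat.Prime 2) := ⟨Nat.prime_two⟩
  have hinv : ∀ x ∈ E, x⁻¹ = x := fun x hx => inv_eq_of_mul_eq_one_right (hE x hx)
  have hE' : Cfsg.IsElementaryAbelian 2 E := ⟨⟨⟨fun a b => Subtype.ext (by
    show (a : G) * b = b * a
    rw [← hinv _ (mul_mem a.2 b.2), mul_inv_rev, hinv _ a.2, hinv _ b.2])⟩⟩,
    fun a ha => by rw [pow_two]; exact hE a ha⟩
  obtain ⟨W, hW, hWB⟩ := CoresGen.cores_generate odd_solvable
    hcon S hE' h8 hES hSE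
  have hD : Data S E W := ⟨hE, h8, hES, hSE, hW, hWB⟩
  have hW1 : W = ⊥ := by
    rw [eq_bot_iff, ← hO]
    by_cases hne : normalizer (W : Set G) = ⊤
    · haveI : W.Normal := normalizer_eq_top_iff.1 hne
      exact CfsgLib.ZStar.le_oddCore inferInstance hW
    refine le_trans ?_ (CfsgLib.Bender.core_in_core_of_benderGen hB (hD.stronglyEmbedded hcon hne))
    intro w hw
    haveI : (W.subgroupOf (normalizer (W : Set G))).Normal := normal_in_normalizer
    exact ⟨⟨w, le_normalizer hw⟩, CfsgLib.ZStar.le_oddCore inferInstance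
      (by rw [Nat.card_congr (subgroupOfEquivOfLe le_normalizer).toEquiv]; exact hW)
      (mem_subgroupOf.2 hw), rfl⟩
  obtain ⟨T, hT⟩ := (IsPGroup.of_card (n := 1) (G := zpowers t)
    (by rw [Nat.card_zpowers, ht, pow_one])).exists_le_sylow
  obtain ⟨g, hg⟩ := MulAction.exists_smul_eq G T S
  have hmem : g * t * g⁻¹ ∈ (S : Subgroup G) := by
    rw [← hg, Sylow.coe_subgroup_smul]; exact ⟨t, hT (mem_zpowers t), rfl⟩
  have h := (map_oC_le g t).trans (hW1 ▸ hD.cores_le hmem
    (involution_ne_one ((CfsgLib.Signalizer.orderOf_conj g t).trans ht)))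
  rw [le_bot_iff, map_eq_bot_iff_of_injective _ (MulAut.conj g).injective, oC,
    map_eq_bot_iff_of_injective _ (Subgroup.subtype_injective _)] at h
  exact h

end CfsgLib.Signalizer.SolvCores

namespace CfsgLib.Signalizer.SolvCores

open Subgroup

universe v

/-- S3332 in the shape of the statement, gated on the general Bender theorem. -/
theorem cores_trivial_scn (hB : CfsgLib.Bender.BenderGen.{v}) {G : Type v} [Group G] [Finite G]
    (hO : Cfsg.oddCore G = ⊥) (S : Sylow 2 G) (A : Subgroup G) (hAS : A ≤ S)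
    (hAn : (A.subgroupOf S).Normal) (hAc : IsMulCommutative A) (hA3 : ¬ Cfsg.PRankLE 2 2 A)
    (hsol : ∀ t : G, orderOf t = 2 → Group.IsSolvable (centralizer ({t} : Set G))) :
    ∀ t : G, orderOf t = 2 → Cfsg.oddCore (centralizer ({t} : Set G)) = ⊥ := by
  have hcomm : ∀ x ∈ A, ∀ y ∈ A, Commute x y := fun x hx y hy =>
    congrArg Subtype.val (hAc.is_comm.comm (⟨x, hx⟩ : A) ⟨y, hy⟩)
  let E : Subgroup G :=
    { carrier := {x | x ∈ A ∧ x * x = 1}
      one_mem' := ⟨one_mem _, one_mul 1⟩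
      inv_mem' := fun {x} hx => ⟨inv_mem hx.1, by rw [← mul_inv_rev, hx.2, inv_one]⟩
      mul_mem' := fun {x y} hx hy => ⟨mul_mem hx.1 hy.1, by
        rw [(hcomm y hy.1 x hx.1).mul_mul_mul_comm, hx.2, hy.2, one_mul]⟩ }
  have hE8 : 8 ≤ Nat.card E := by
    simp only [Cfsg.PRankLE, not_forall, not_le] at hA3
    obtain ⟨D, -, hD2, hD⟩ := hA3
    obtain ⟨n, hn⟩ := (show IsPGroup 2 D from fun a => ⟨1, Subtype.ext (by
      simpa using hD2 a a.2)⟩).exists_card_eq
    have hn3 : 2 < n := (Nat.pow_lt_pow_iff_right (a := 2) one_lt_two).1 (hn ▸ hD)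
    have hle : Nat.card D ≤ Nat.card E := by
      rw [← card_map_of_injective A.subtype_injective (K := D)]
      refine card_le_of_le ?_
      rintro _ ⟨d, hd, rfl⟩
      refine ⟨d.2, ?_⟩
      rw [← map_mul, ← pow_two, hD2 d hd, map_one]
    rw [hn] at hle
    exact le_trans (Nat.pow_le_pow_right two_pos (show 3 ≤ n from hn3)) hle
  have hSE : (S : Subgroup G) ≤ normalizer (E : Set G) := by
    refine CfsgLib.Signalizer.conj_mem_iff_le_normalizer.1 ?_
    intro s hs x hx
    refine ⟨?_, ?_⟩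
    · exact hAn.conj_mem ⟨x, hAS hx.1⟩ hx.1 ⟨s, hs⟩
    · rw [show s * x * s⁻¹ * (s * x * s⁻¹) = s * (x * x) * s⁻¹ by group, hx.2, mul_one, mul_inv_cancel]
  exact fun t ht => cores_trivial (fun b hb => haveI := hsol b hb; isPConstrained_of_solvable) hB hO S E (fun x hx => hx.2) hE8 (fun x hx => hAS hx.1) hSE ht

/-- S3109 in the shape of the statement, gated on the general Bender theorem. -/
theorem cores_trivial_two_constrained (hB : CfsgLib.Bender.BenderGen.{v}) {G : Type v} [Group G] [Finite G]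
    (hO : Cfsg.oddCore G = ⊥)
    (h2c : ∀ T : Subgroup G, IsPGroup 2 T → T ≠ ⊥ →
      Cfsg.IsPConstrained 2 ↥(normalizer (T : Set G)))
    (S : Sylow 2 G) (A : Subgroup ↥(S : Subgroup G)) (hAn : A.Normal) (hAab : IsMulCommutative ↥A)
    (hA3 : ¬ Cfsg.PRankLE 2 2 ↥A) :
    ∀ t : G, orderOf t = 2 → Cfsg.centralizerPPrimeCore 2 t = ⊥ := by
  haveI : Fact (Nat.Prime 2) := ⟨Nat.prime_two⟩
  have hcon : ∀ b : G, orderOf b = 2 → Cfsg.IsPConstrained 2 ↥(centralizer ({b} : Set G)) := by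
    intro b hb
    have hne : zpowers b ≠ ⊥ := by
      rw [Ne, zpowers_eq_bot]
      rintro rfl
      simp at hb
    have := h2c (zpowers b) (IsPGroup.of_card (n := 1) (by rw [Nat.card_zpowers, hb, pow_one])) hne
    rwa [CfsgLib.Classical.TwoType.normalizer_zpowers hb] at this
  let A' : Subgroup G := A.map (S : Subgroup G).subtype
  have hcomm : ∀ x ∈ A', ∀ y ∈ A', Commute x y := by
    rintro _ ⟨x, hx, rfl⟩ _ ⟨y, hy, rfl⟩
    exact congrArg (fun z : A => ((z : ↥(S : Subgroup G)) : G)) (hAab.is_comm.comm ⟨x, hx⟩ ⟨y, hy⟩)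
  let E : Subgroup G :=
    { carrier := {x | x ∈ A' ∧ x * x = 1}
      one_mem' := ⟨one_mem _, one_mul 1⟩
      inv_mem' := fun {x} hx => ⟨inv_mem hx.1, by rw [← mul_inv_rev, hx.2, inv_one]⟩
      mul_mem' := fun {x y} hx hy => ⟨mul_mem hx.1 hy.1, by
        rw [(hcomm y hy.1 x hx.1).mul_mul_mul_comm, hx.2, hy.2, one_mul]⟩ }
  have hE8 : 8 ≤ Nat.card E := by
    simp only [Cfsg.PRankLE, not_forall, not_le] at hA3
    obtain ⟨D, -, hD2, hD⟩ := hA3
    obtain ⟨n, hn⟩ := (show IsPGroup 2 D from fun a => ⟨1, Subtype.ext (by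
      simpa using hD2 a a.2)⟩).exists_card_eq
    have hn3 : 2 < n := (Nat.pow_lt_pow_iff_right (a := 2) one_lt_two).1 (hn ▸ hD)
    have hle : Nat.card D ≤ Nat.card E := by
      rw [← card_map_of_injective (f := (S : Subgroup G).subtype.comp A.subtype)
        ((S : Subgroup G).subtype_injective.comp A.subtype_injective) (K := D)]
      refine card_le_of_le ?_
      rintro _ ⟨d, hd, rfl⟩
      refine ⟨⟨(d : ↥(S : Subgroup G)), d.2, rfl⟩, ?_⟩
      rw [← map_mul, ← pow_two, hD2 d hd, map_one]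
    rw [hn] at hle
    exact le_trans (Nat.pow_le_pow_right two_pos (show 3 ≤ n from hn3)) hle
  have hSE : (S : Subgroup G) ≤ normalizer (E : Set G) := by
    refine CfsgLib.Signalizer.conj_mem_iff_le_normalizer.1 ?_
    rintro s hs x ⟨⟨a, ha, rfl⟩, hx2⟩
    refine ⟨⟨⟨s, hs⟩ * a * ⟨s, hs⟩⁻¹, hAn.conj_mem a ha _, rfl⟩, ?_⟩
    show s * (a : G) * s⁻¹ * (s * (a : G) * s⁻¹) = 1
    rw [show s * (a : G) * s⁻¹ * (s * (a : G) * s⁻¹) = s * ((a : G) * a) * s⁻¹ by group]
    rw [show ((a : G) * a) = 1 from hx2, mul_one, mul_inv_cancel]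
  intro t ht
  have h := cores_trivial hcon hB hO S E (fun x hx => hx.2) hE8
    (fun x hx => map_subtype_le A hx.1) hSE ht
  show (Cfsg.oddCore ↥(centralizer ({t} : Set G))).map _ = ⊥
  rw [h, Subgroup.map_bot]

end CfsgLib.Signalizer.SolvCores
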