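import Cfsg.Agent.Lib.PGroups.ClassTwo

/-!
Owner: helper11. Baer's trick for groups of class two and odd exponent, and fixed points of a
`p`-group of automorphisms outside the fixed points of a `p'`-group it normalizes.
-/

set_option autoImplicit false

namespace CfsgLib.Signalizer

open scoped commutatorElement

universe u

/-- The underlying type of the abelian group attached to a group of class two and odd exponent. -/
structure Baer (H : Type u) where
  /-- the element -/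
  val : H

@[ext] theorem Baer.ext' {H : Type u} {x y : Baer H} (h : x.val = y.val) : x = y := by
  cases x; cases y; cases h; rfl

/-- The equivalence with the original type. -/
def Baer.equiv (H : Type u) : Baer H ≃ H := ⟨Baer.val, Baer.mk, fun _ => rfl, fun _ => rfl⟩

variable {H : Type u} [Group H]

theorem baer_comm (hc : ∀ x y : H, ⁅x, y⁆ ∈ Subgroup.center H) {n : ℕ} (hn : Odd n)
    (hexp : ∀ x : H, x ^ n = 1) (x y : H) :
    x * y * ⁅y, x⁆ ^ ((n + 1) / 2) = y * x * ⁅x, y⁆ ^ ((n + 1) / 2) := by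
  obtain ⟨m, rfl⟩ := hn
  rw [show (2 * m + 1 + 1) / 2 = m + 1 by omega]
  set c := ⁅y, x⁆ with hcdef
  have hinv : ⁅x, y⁆ = c⁻¹ := (commutatorElement_inv y x).symm
  have hcm : c ^ (m + 1) * c ^ (m + 1) = c := by
    rw [← pow_add, show m + 1 + (m + 1) = 2 * m + 1 + 1 by omega, pow_succ, hexp, one_mul]
  have hyx : y * x = x * y * c := by
    rw [Subgroup.mem_center_iff.mp (hc y x) (x * y), commutatorElement_def]; group
  rw [hinv, hyx, mul_assoc (x * y), inv_pow]
  congr 1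
  exact eq_mul_inv_of_mul_eq hcm

theorem baer_assoc (hc : ∀ x y : H, ⁅x, y⁆ ∈ Subgroup.center H) (k : ℕ) (x y z : H) :
    (x * y * ⁅y, x⁆ ^ k) * z * ⁅z, x * y * ⁅y, x⁆ ^ k⁆ ^ k =
      x * (y * z * ⁅z, y⁆ ^ k) * ⁅y * z * ⁅z, y⁆ ^ k, x⁆ ^ k := by
  have hz : ∀ u v : H, ⁅u, v⁆ ^ k ∈ Subgroup.center H := fun u v => pow_mem (hc u v) k
  have h1 : ∀ u c : H, c ∈ Subgroup.center H → ⁅u, c⁆ = 1 := fun u c hcc =>
    commutatorElement_eq_one_iff_mul_comm.mpr (Subgroup.mem_center_iff.mp hcc u)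
  have h2 : ∀ u c : H, c ∈ Subgroup.center H → ⁅c, u⁆ = 1 := fun u c hcc =>
    commutatorElement_eq_one_iff_mul_comm.mpr (Subgroup.mem_center_iff.mp hcc u).symm
  rw [CfsgLib.PGroups.comm_mul_right_of_central (hc z _), CfsgLib.PGroups.comm_mul_right_of_central (hc z y),
    h1 z _ (hz y x), mul_one, CfsgLib.PGroups.comm_mul_left_of_central (hc _ x),
    CfsgLib.PGroups.comm_mul_left_of_central (hc z x), h2 x _ (hz z y), mul_one]
  have hcom : ∀ (u v w : H), Commute w (⁅u, v⁆ ^ k) := fun u v w =>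
    Subgroup.mem_center_iff.mp (hz u v) w
  rw [(show Commute ⁅z, x⁆ ⁅z, y⁆ from Subgroup.mem_center_iff.mp (hc z y) _).mul_pow,
    (show Commute ⁅y, x⁆ ⁅z, x⁆ from Subgroup.mem_center_iff.mp (hc z x) _).mul_pow]
  calc (x * y * ⁅y, x⁆ ^ k) * z * (⁅z, x⁆ ^ k * ⁅z, y⁆ ^ k)
      = x * y * (z * ⁅y, x⁆ ^ k) * (⁅z, y⁆ ^ k * ⁅z, x⁆ ^ k) := by
        rw [(hcom z y (⁅z, x⁆ ^ k)).eq, (hcom y x z).eq]; group
    _ = x * y * z * ((⁅y, x⁆ ^ k * ⁅z, y⁆ ^ k) * ⁅z, x⁆ ^ k) := by group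
    _ = x * y * z * ((⁅z, y⁆ ^ k * ⁅y, x⁆ ^ k) * ⁅z, x⁆ ^ k) := by rw [(hcom z y (⁅y, x⁆ ^ k)).eq]
    _ = x * (y * z * ⁅z, y⁆ ^ k) * (⁅y, x⁆ ^ k * ⁅z, x⁆ ^ k) := by group

/-- The abelian group attached to a group of class two and odd exponent `n`. -/
@[reducible] def baerGroup (hc : ∀ x y : H, ⁅x, y⁆ ∈ Subgroup.center H) {n : ℕ} (hn : Odd n)
    (hexp : ∀ x : H, x ^ n = 1) : CommGroup (Baer H) where
  mul x y := ⟨x.val * y.val * ⁅y.val, x.val⁆ ^ ((n + 1) / 2)⟩
  one := ⟨1⟩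
  inv x := ⟨x.val⁻¹⟩
  mul_assoc x y z := Baer.ext' (baer_assoc hc _ x.val y.val z.val)
  one_mul x := Baer.ext' (by
    show 1 * x.val * ⁅x.val, (1 : H)⁆ ^ _ = x.val
    simp)
  mul_one x := Baer.ext' (by
    show x.val * 1 * ⁅(1 : H), x.val⁆ ^ _ = x.val
    simp)
  inv_mul_cancel x := Baer.ext' (by
    show x.val⁻¹ * x.val * ⁅x.val, x.val⁻¹⁆ ^ _ = 1
    simp [commutatorElement_def])
  mul_comm x y := Baer.ext' (baer_comm hc hn hexp x.val y.val)

/-- A `p`-group of automorphisms fixes an element moved by the `p'`-group it normalizes. -/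
theorem exists_fixed_moved [Finite H] {p : ℕ} [hp : Fact p.Prime] (hp2 : p ≠ 2)
    (hc : ∀ x y : H, ⁅x, y⁆ ∈ Subgroup.center H) (hexp : ∀ x : H, x ^ p = 1)
    {A Q : Subgroup (MulAut H)} (hA : IsPGroup p A) (hQ : ¬ p ∣ Nat.card Q)
    (hAQ : A ≤ Subgroup.normalizer (Q : Set (MulAut H))) (hmov : ∃ q ∈ Q, ∃ h : H, q h ≠ h) :
    ∃ h : H, (∀ a ∈ A, a h = h) ∧ ∃ q ∈ Q, q h ≠ h := by
  classical
  have hodd : Odd p := hp.out.odd_of_ne_two hp2
  let _ : CommGroup (Baer H) := baerGroup hc hodd hexp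
  have : Finite (Baer H) := Finite.of_equiv H (Baer.equiv H).symm
  have hmul : ∀ x y : Baer H, (x * y).val = x.val * y.val * ⁅y.val, x.val⁆ ^ ((p + 1) / 2) :=
    fun _ _ => rfl
  have hone : (1 : Baer H).val = 1 := rfl
  have hpow : ∀ (x : Baer H) (m : ℕ), (x ^ m).val = x.val ^ m := by
    intro x m
    induction m with
    | zero => rw [pow_zero, pow_zero, hone]
    | succ m ih =>
      rw [pow_succ, pow_succ, hmul, ih,
        commutatorElement_eq_one_iff_mul_comm.mpr ((Commute.refl x.val).pow_right m).eq, one_pow,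
        mul_one]
  let act : MulAut H → Baer H →* Baer H := fun φ =>
    { toFun := fun x => ⟨φ x.val⟩
      map_one' := Baer.ext' (map_one φ)
      map_mul' := fun x y => Baer.ext' (by
        show φ (x * y).val = _
        rw [hmul, map_mul, map_mul, map_pow, map_commutatorElement]; rfl) }
  have hact : ∀ φ ψ x, act (φ * ψ) x = act φ (act ψ x) := fun φ ψ x => rfl
  let _ : Fintype Q := Fintype.ofFinite Q
  let e : Baer H →* Baer H := ∏ q : Q, act q.1
  have he : ∀ x, e x = ∏ q : Q, act q.1 x := fun x => MonoidHom.finsetProd_apply _ _ _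
  let f : Baer H →* Baer H := powMonoidHom (Fintype.card Q) / e
  have hf : ∀ x, f x = x ^ Fintype.card Q / e x := fun x => rfl
  have hecomm : ∀ a ∈ A, ∀ x, e (act a x) = act a (e x) := by
    intro a ha x
    rw [he, he, map_prod]
    let σ : Q ≃ Q :=
      { toFun := fun q => ⟨a⁻¹ * q.1 * a, by
          simpa using (Subgroup.mem_normalizer_iff.mp (hAQ (inv_mem ha)) q.1).mp q.2⟩
        invFun := fun q => ⟨a * q.1 * a⁻¹, (Subgroup.mem_normalizer_iff.mp (hAQ ha) q.1).mp q.2⟩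
        left_inv := fun q => Subtype.ext (by simp [mul_assoc])
        right_inv := fun q => Subtype.ext (by simp [mul_assoc]) }
    refine Fintype.prod_equiv σ _ _ fun q => ?_
    rw [← hact, ← hact]
    exact congrArg (fun φ => act φ x) (by
      show q.1 * a = a * (a⁻¹ * q.1 * a)
      group)
  have hfcomm : ∀ a ∈ A, ∀ x, f (act a x) = act a (f x) := fun a ha x => by
    rw [hf, hf, map_div, map_pow, hecomm a ha x]
  have heq : ∀ q ∈ Q, ∀ x, act q (e x) = e x := by
    intro q hq x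
    rw [he, map_prod]
    refine Fintype.prod_equiv (Equiv.mulLeft (⟨q, hq⟩ : Q)) _ _ fun r => ?_
    exact (hact q r.1 x).symm
  have hee : ∀ x, e (e x) = e x ^ Fintype.card Q := fun x => by
    rw [he (e x), Finset.prod_congr rfl (fun q _ => heq q.1 q.2 x), Finset.prod_const, Finset.card_univ]
  have hef : ∀ x, e (f x) = 1 := fun x => by rw [hf, map_div, map_pow, hee, div_self']
  have hBp : IsPGroup p (Baer H) := fun x => ⟨1, Baer.ext' (by rw [pow_one, hpow, hexp, hone])⟩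
  have hcop : p.Coprime (Fintype.card Q) := by
    rw [← Nat.card_eq_fintype_card]; exact hp.out.coprime_iff_not_dvd.mpr hQ
  have hroot : ∀ x : Baer H, x ^ Fintype.card Q = 1 → x = 1 := fun x hx =>
    orderOf_eq_one_iff.mp (Nat.eq_one_of_dvd_coprimes hcop
      (orderOf_dvd_of_pow_eq_one (Baer.ext' (by rw [hpow, hexp, hone])))
      (orderOf_dvd_of_pow_eq_one hx))
  have hfne : f.range ≠ ⊥ := by
    intro hbot
    obtain ⟨q, hq, h, hh⟩ := hmov
    refine hh ?_
    have h1 : f ⟨h⟩ = 1 := (Subgroup.eq_bot_iff_forall _).mp hbot _ ⟨_, rfl⟩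
    rw [hf, div_eq_one] at h1
    have h2 : act q ⟨h⟩ ^ Fintype.card Q = (⟨h⟩ : Baer H) ^ Fintype.card Q := by
      rw [← map_pow, h1, heq q hq]
    have h3 := hroot (act q ⟨h⟩ / ⟨h⟩) (by rw [div_pow, h2, div_self'])
    exact congrArg Baer.val (div_eq_one.mp h3)
  let _ : MulAction A f.range :=
    { smul := fun a s => ⟨act a.1 s.1, by
        obtain ⟨x, hx⟩ := s.2
        exact ⟨act a.1 x, by rw [hfcomm a.1 a.2, hx]⟩⟩
      one_smul := fun s => Subtype.ext (Baer.ext' rfl)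
      mul_smul := fun a b s => Subtype.ext (Baer.ext' rfl) }
  have hdvd : p ∣ Nat.card f.range := by
    have : Nontrivial f.range := (Subgroup.nontrivial_iff_ne_bot _).mpr hfne
    obtain ⟨m, hm, hcard⟩ := (hBp.to_subgroup f.range).nontrivial_iff_card.mp inferInstance
    rw [hcard]; exact dvd_pow_self p hm.ne'
  obtain ⟨s, hs, hs1⟩ := hA.exists_fixed_point_of_prime_dvd_card_of_fixed_point f.range hdvd
    (a := 1) (fun a => Subtype.ext (map_one (act a.1)))
  refine ⟨s.1.val, fun a ha => congrArg (fun t : f.range => t.1.val) (hs ⟨a, ha⟩), ?_⟩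
  by_contra hfix
  push Not at hfix
  obtain ⟨x, hx⟩ := s.2
  have h1 : e s.1 = s.1 ^ Fintype.card Q := by
    rw [he, Finset.prod_congr rfl (fun q _ => show act q.1 s.1 = s.1 from Baer.ext' (hfix q.1 q.2)),
      Finset.prod_const, Finset.card_univ]
  rw [← hx, hef, hx] at h1
  exact hs1 (Subtype.ext (hroot _ h1.symm)).symm

end CfsgLib.Signalizer
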