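import Cfsg.Agent.Lib.Signalizer.Basic
import Cfsg.Agent.Lib.LocalEvenB.ChermakDelgado

/-!
Owner: helper11. A coprime factorization is determined by the fixed points of the nonidentity
elements of a noncyclic group of operators.
-/

set_option autoImplicit false

namespace CfsgLib.Signalizer

open Subgroup
open scoped Pointwise commutatorElement

variable {G : Type*} [Group G]

/-! ### Lifting a factorization along a central series -/

/-- The lower central series of `Q`, inside the ambient group. -/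
def lcs (Q : Subgroup G) : ℕ → Subgroup G
  | 0 => Q
  | n + 1 => ⁅lcs Q n, Q⁆

theorem lcs_eq_map (Q : Subgroup G) :
    ∀ n, lcs Q n = ((⊤ : Subgroup Q).lowerCentralSeries n).map Q.subtype
  | 0 => by simp [lcs, ← MonoidHom.range_eq_map]
  | n + 1 => by
    rw [Subgroup.lowerCentralSeries_succ, map_commutator, ← lcs_eq_map Q n, ← MonoidHom.range_eq_map,
      range_subtype]
    rfl

theorem lcs_le (Q : Subgroup G) (n : ℕ) : lcs Q n ≤ Q := by
  rw [lcs_eq_map]; exact map_subtype_le _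

theorem normalizer_le_normalizer_lcs (Q : Subgroup G) :
    ∀ n, normalizer (Q : Set G) ≤ normalizer (lcs Q n : Set G)
  | 0 => le_rfl
  | n + 1 => fun g hg => by
    rw [Core.mem_normalizer_iff_conj_smul_eq, Core.conj_smul_eq_map]
    show (⁅lcs Q n, Q⁆).map _ = ⁅lcs Q n, Q⁆
    rw [map_commutator, ← Core.conj_smul_eq_map, ← Core.conj_smul_eq_map,
      Core.mem_normalizer_iff_conj_smul_eq.mp (normalizer_le_normalizer_lcs Q n hg),
      Core.mem_normalizer_iff_conj_smul_eq.mp hg]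

variable {p : ℕ}

/-- A nilpotent group is the product of two invariant subgroups as soon as this holds for the
fixed points of every nonidentity operator. -/
theorem mem_mul_of_fixed_points [Finite G] [hp : Fact p.Prime] {A Q R S : Subgroup G}
    (hQ : Group.IsNilpotent Q) (hA : Cfsg.IsElementaryAbelian p A) (hA2 : p ^ 2 ≤ Nat.card A)
    (hQp : ¬ p ∣ Nat.card Q) (hAQ : A ≤ normalizer (Q : Set G)) (hR : R ≤ Q) (hS : S ≤ Q)
    (hfix : ∀ a ∈ A, a ≠ 1 → ∀ z ∈ Q ⊓ centralizer ({a} : Set G), ∃ r ∈ R, ∃ s ∈ S, z = r * s) :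
    ∀ x ∈ Q, ∃ r ∈ R, ∃ s ∈ S, x = r * s := by
  have hnorm : ∀ i, Q ≤ normalizer (lcs Q i : Set G) := fun i =>
    le_normalizer.trans (normalizer_le_normalizer_lcs Q i)
  have key : ∀ i, ∀ x ∈ Q, ∃ r ∈ R, ∃ m ∈ lcs Q i, ∃ s ∈ S, x = r * m * s := by
    intro i
    induction i with
    | zero => exact fun x hx => ⟨1, one_mem R, x, hx, 1, one_mem S, by group⟩
    | succ i ih =>
      set N := lcs Q (i + 1)
      set W : Set G := {z | z ∈ lcs Q i ∧ ∃ r ∈ R, ∃ n ∈ N, ∃ s ∈ S, z = r * n * s}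
      have hmul : ∀ z1 ∈ W, ∀ z2 ∈ W, z1 * z2 ∈ W := by
        rintro _ ⟨hz1, r1, hr1, n1, hn1, s1, hs1, rfl⟩ _ ⟨hz2, r2, hr2, n2, hn2, s2, hs2, rfl⟩
        refine ⟨mul_mem hz1 hz2, r1 * r2, mul_mem hr1 hr2, ?_⟩
        have hc : ⁅r2 * n2 * s2, s1⁆⁻¹ ∈ N := inv_mem (commutator_mem_commutator hz2 (hS hs1))
        have hN : ∀ {n g : G}, n ∈ N → g ∈ Q → g * n * g⁻¹ ∈ N := fun hn hg =>
          Core.conj_mem_of_le_normalizer (hnorm (i + 1)) hg hn
        refine ⟨r2⁻¹ * n1 * r2 * (r2⁻¹ * ⁅r2 * n2 * s2, s1⁆⁻¹ * r2) * n2,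
          mul_mem (mul_mem ?_ ?_) hn2, s2 * s1, mul_mem hs2 hs1, by
          rw [commutatorElement_def]; group⟩
        · simpa using hN hn1 (inv_mem (hR hr2))
        · simpa using hN hc (inv_mem (hR hr2))
      let W' : Subgroup G :=
        { carrier := W
          one_mem' := ⟨one_mem _, 1, one_mem R, 1, one_mem N, 1, one_mem S, by group⟩
          mul_mem' := fun ha hb => hmul _ ha _ hb
          inv_mem' := fun {z} hz => by
            have hpow : ∀ n : ℕ, z ^ n ∈ W := by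
              intro n
              induction n with
              | zero => exact ⟨by simp, 1, one_mem R, 1, one_mem N, 1, one_mem S, by group⟩
              | succ n ihn => rw [pow_succ]; exact hmul _ ihn _ hz
            have hinv : z⁻¹ = z ^ (orderOf z - 1) := inv_eq_of_mul_eq_one_right (by
              rw [← pow_succ', Nat.sub_add_cancel (orderOf_pos z), pow_orderOf_eq_one])
            rw [hinv]; exact hpow _ }
      have := hA.1
      have hle : lcs Q i ≤ W' := LocalEven.le_of_centralizers_le hA.2 hA2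
        (hAQ.trans (normalizer_le_normalizer_lcs Q i)) (not_dvd_of_le hQp (lcs_le Q i))
        fun a ha ha1 z hz => by
          obtain ⟨r, hr, s, hs, rfl⟩ := hfix a ha ha1 z ⟨lcs_le Q i hz.1, hz.2⟩
          exact ⟨hz.1, r, hr, 1, one_mem N, s, hs, by group⟩
      intro x hx
      obtain ⟨r, hr, m, hm, s, hs, rfl⟩ := ih x hx
      obtain ⟨-, r', hr', n, hn, s', hs', rfl⟩ := hle hm
      exact ⟨r * r', mul_mem hr hr', n, hn, s' * s, mul_mem hs' hs, by group⟩
  obtain ⟨n, hn⟩ := Subgroup.nilpotent_iff_lowerCentralSeries.1 hQ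
  intro x hx
  obtain ⟨r, hr, m, hm, s, hs, rfl⟩ := key n x hx
  rw [lcs_eq_map, hn, Subgroup.map_bot, mem_bot] at hm
  exact ⟨r, hr, s, hs, by rw [hm, mul_one]⟩

/-! ### Invariant Sylow subgroups, by order -/

variable [Finite G] {q : ℕ} [hq : Fact q.Prime]

theorem exists_invariant_qpart_ge {A K U : Subgroup G} (hAK : A ≤ normalizer (K : Set G))
    (hcop : (Nat.card A).Coprime (Nat.card K)) (hsolv : Group.IsSolvable A) (hUK : U ≤ K)
    (hU : IsPGroup q U) (hUA : A ≤ normalizer (U : Set G)) :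
    ∃ Q : Subgroup G, U ≤ Q ∧ Q ≤ K ∧ A ≤ normalizer (Q : Set G) ∧
      Nat.card Q = q ^ (Nat.card K).factorization q := by
  obtain ⟨P, h1, h2⟩ := Core.exists_invariant_sylow_ge hAK hcop (Or.inl hsolv) hUK hU hUA
  exact ⟨_, h1, map_subtype_le _, h2, by
    rw [card_map_of_injective K.subtype_injective]; exact P.card_eq_multiplicity⟩

/-- An invariant `q`-subgroup is conjugate under `C_K(A)` into any given invariant Sylow subgroup. -/
theorem exists_conj_le_invariant_qpart {A K Q U : Subgroup G} (hAK : A ≤ normalizer (K : Set G))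
    (hcop : (Nat.card A).Coprime (Nat.card K)) (hsolv : Group.IsSolvable A)
    (hQK : Q ≤ K) (hQA : A ≤ normalizer (Q : Set G))
    (hQc : Nat.card Q = q ^ (Nat.card K).factorization q)
    (hUK : U ≤ K) (hU : IsPGroup q U) (hUA : A ≤ normalizer (U : Set G)) :
    ∃ c ∈ K ⊓ centralizer (A : Set G), MulAut.conj c • U ≤ Q := by
  obtain ⟨Q', h1, h2, h3, h4⟩ := exists_invariant_qpart_ge hAK hcop hsolv hUK hU hUA
  obtain ⟨P, -⟩ := Core.exists_invariant_sylow hAK hcop (Or.inl hsolv) q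
  have hPc : Nat.card ((P : Subgroup K).map K.subtype) = q ^ (Nat.card K).factorization q := by
    rw [card_map_of_injective K.subtype_injective]; exact P.card_eq_multiplicity
  obtain ⟨k, hk, hkQ⟩ := Core.exists_conj_of_card_eq P hQK (hQc.trans hPc.symm)
  obtain ⟨k', hk', hkQ'⟩ := Core.exists_conj_of_card_eq P h2 (h4.trans hPc.symm)
  obtain ⟨c, hc, hcQ⟩ := Core.exists_centralizing_conj hAK hcop (Or.inl hsolv) h3 hQA
    ⟨k * k'⁻¹, mul_mem hk (inv_mem hk'), by
      rw [← hkQ, ← hkQ', smul_smul, ← map_mul, inv_mul_cancel_right]⟩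
  exact ⟨c, hc, hcQ ▸ pointwise_smul_le_pointwise_smul_iff.mpr h1⟩

theorem le_qpart_card {Q X : Subgroup G} (hQ : IsPGroup q Q) (hQX : Q ≤ X) :
    Nat.card Q ∣ q ^ (Nat.card X).factorization q := by
  obtain ⟨k, hk⟩ := hQ.exists_card_eq
  rw [hk]
  refine pow_dvd_pow q ((hq.out.pow_dvd_iff_le_factorization Nat.card_pos.ne').mp ?_)
  rw [← hk]; exact card_dvd_of_le hQX

/-- Fixed points of an invariant Sylow subgroup are a Sylow subgroup of the fixed points. -/
theorem card_qpart_inf_centralizer {A K Q : Subgroup G} (hAK : A ≤ normalizer (K : Set G))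
    (hcop : (Nat.card A).Coprime (Nat.card K))
    (hQK : Q ≤ K) (hQA : A ≤ normalizer (Q : Set G))
    (hQc : Nat.card Q = q ^ (Nat.card K).factorization q) {a : G} (ha : a ∈ A) :
    Nat.card ↥(Q ⊓ centralizer ({a} : Set G)) =
      q ^ (Nat.card ↥(K ⊓ centralizer ({a} : Set G))).factorization q := by
  refine Nat.dvd_antisymm
    (le_qpart_card ((IsPGroup.of_card hQc).to_le inf_le_left) (inf_le_inf_right _ hQK)) ?_
  obtain ⟨S⟩ := (inferInstance : Nonempty (Sylow q ↥(K ⊓ centralizer ({a} : Set G))))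
  set U := (S : Subgroup ↥(K ⊓ centralizer ({a} : Set G))).map (Subgroup.subtype _)
  have hUc : Nat.card U = q ^ (Nat.card ↥(K ⊓ centralizer ({a} : Set G))).factorization q := by
    rw [card_map_of_injective (Subgroup.subtype_injective _)]; exact S.card_eq_multiplicity
  have hza : zpowers a ≤ A := zpowers_le.mpr ha
  have hUC : U ≤ centralizer ({a} : Set G) := (map_subtype_le _).trans inf_le_right
  obtain ⟨c, hc, hcU⟩ := exists_conj_le_invariant_qpart (hza.trans hAK)
    (hcop.coprime_dvd_left (card_dvd_of_le hza)) inferInstance hQK (hza.trans hQA) hQc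
    ((map_subtype_le _).trans inf_le_left) (S.isPGroup'.map _) (by
      refine zpowers_le.mpr (centralizer_le_normalizer _ (mem_centralizer_iff.mpr fun u hu => ?_))
      exact mem_centralizer_singleton_iff.mp (hUC hu))
  have h2 : MulAut.conj c • U ≤ Q ⊓ centralizer ({a} : Set G) := by
    refine le_inf hcU ?_
    rw [Core.conj_smul_eq_map]
    rintro _ ⟨u, hu, rfl⟩
    have hcC : c ∈ centralizer ({a} : Set G) :=
      mem_centralizer_singleton_iff.mpr (mem_centralizer_iff.mp hc.2 a (mem_zpowers a)).symm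
    exact mul_mem (mul_mem hcC (hUC hu)) (inv_mem hcC)
  rw [← hUc, ← Core.card_conj_smul c U]
  exact card_dvd_of_le h2

omit [Finite G] in
theorem mem_coe_mul {X Y : Subgroup G} {x : G} :
    x ∈ (X : Set G) * (Y : Set G) ↔ ∃ r ∈ X, ∃ s ∈ Y, r * s = x := Set.mem_mul

omit hq in
/-- Coprime factorization from the fixed points of a noncyclic elementary abelian group. -/
theorem coprime_factorization [hp : Fact p.Prime] {A K X Y : Subgroup G}
    (hA : Cfsg.IsElementaryAbelian p A) (hA2 : p ^ 2 ≤ Nat.card A) (hK : ¬ p ∣ Nat.card K)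
    (hAK : A ≤ normalizer (K : Set G)) (hX : X ≤ K) (hY : Y ≤ K)
    (hAX : A ≤ normalizer (X : Set G)) (hAY : A ≤ normalizer (Y : Set G))
    (hCX : K ⊓ centralizer (A : Set G) ≤ normalizer (X : Set G))
    (hfac : ∀ a ∈ A, a ≠ 1 → ((K ⊓ centralizer {a} : Subgroup G) : Set G) =
      ((X ⊓ centralizer {a} : Subgroup G) : Set G) * ((Y ⊓ centralizer {a} : Subgroup G) : Set G)) :
    (K : Set G) = (X : Set G) * (Y : Set G) := by
  have hsolv : Group.IsSolvable A := by
    exact Group.isSolvable_of_comm fun a b => hA.1.is_comm.comm a b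
  have hcop : ∀ Z : Subgroup G, Z ≤ K → (Nat.card A).Coprime (Nat.card Z) := fun Z hZ =>
    coprime_card_of_pGroup (elementary_isPGroup hA) (not_dvd_of_le hK hZ)
  have hsub : (X : Set G) * (Y : Set G) ⊆ K := by
    rintro _ ⟨x, hx, y, hy, rfl⟩
    exact mul_mem (hX hx) (hY hy)
  have hAXY : A ≤ normalizer ((X ⊓ Y : Subgroup G) : Set G) := le_normalizer_inf hAX hAY
  suffices hdvd : Nat.card K * Nat.card ↥(X ⊓ Y) ∣ Nat.card X * Nat.card Y by
    refine (Set.eq_of_subset_of_ncard_le hsub ?_ (Set.toFinite _)).symm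
    rw [← Nat.card_coe_set_eq, ← Nat.card_coe_set_eq]
    refine Nat.le_of_mul_le_mul_right ?_ (Nat.card_pos (α := ↥(X ⊓ Y)))
    rw [LocalEvenB.card_mul_set_eq]
    exact Nat.le_of_dvd (Nat.mul_pos Nat.card_pos Nat.card_pos) hdvd
  rw [← Nat.factorization_le_iff_dvd (Nat.mul_pos Nat.card_pos Nat.card_pos).ne'
    (Nat.mul_pos Nat.card_pos Nat.card_pos).ne', Finsupp.le_def]
  intro r
  rw [Nat.factorization_mul Nat.card_pos.ne' Nat.card_pos.ne',
    Nat.factorization_mul Nat.card_pos.ne' Nat.card_pos.ne', Finsupp.add_apply, Finsupp.add_apply]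
  by_cases hr : r.Prime
  swap
  · simp [Nat.factorization_eq_zero_of_not_prime _ hr]
  have := Fact.mk hr
  obtain ⟨D, -, hDXY, hDA, hDc⟩ := exists_invariant_qpart_ge (q := r) hAXY
    (hcop _ (inf_le_left.trans hX)) hsolv bot_le IsPGroup.of_bot
    (le_top.trans (normalizer_eq_top (⊥ : Subgroup G)).ge)
  obtain ⟨Yr, hDY, hYrY, hYrA, hYrc⟩ := exists_invariant_qpart_ge (q := r) hAY (hcop Y hY) hsolv
    (hDXY.trans inf_le_right) (IsPGroup.of_card hDc) hDA
  obtain ⟨Q, hYQ, hQK, hQA, hQc⟩ := exists_invariant_qpart_ge (q := r) hAK (hcop K le_rfl) hsolv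
    (hYrY.trans hY) (IsPGroup.of_card hYrc) hYrA
  have hQp : IsPGroup r Q := IsPGroup.of_card hQc
  have hXc : Nat.card ↥(Q ⊓ X) = r ^ (Nat.card X).factorization r := by
    refine Nat.dvd_antisymm (le_qpart_card (hQp.to_le inf_le_left) inf_le_right) ?_
    obtain ⟨Xr, -, hXrX, hXrA, hXrc⟩ := exists_invariant_qpart_ge (q := r) hAX (hcop X hX) hsolv
      bot_le IsPGroup.of_bot (le_top.trans (normalizer_eq_top (⊥ : Subgroup G)).ge)
    obtain ⟨c, hc, hle⟩ := exists_conj_le_invariant_qpart hAK (hcop K le_rfl) hsolv hQK hQA hQc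
      (hXrX.trans hX) (IsPGroup.of_card hXrc) hXrA
    rw [← hXrc, ← Core.card_conj_smul c Xr]
    refine card_dvd_of_le (le_inf hle ?_)
    calc MulAut.conj c • Xr ≤ MulAut.conj c • X := pointwise_smul_le_pointwise_smul_iff.mpr hXrX
      _ = X := Core.mem_normalizer_iff_conj_smul_eq.mp (hCX hc)
  have hYc : Nat.card ↥(Q ⊓ Y) = r ^ (Nat.card Y).factorization r :=
    Nat.dvd_antisymm (le_qpart_card (hQp.to_le inf_le_left) inf_le_right)
      (hYrc ▸ card_dvd_of_le (le_inf hYQ hYrY))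
  have hfixQ : ∀ a ∈ A, a ≠ 1 → ∀ z ∈ Q ⊓ centralizer ({a} : Set G),
      ∃ u ∈ Q ⊓ X, ∃ v ∈ Q ⊓ Y, z = u * v := by
    intro a ha ha1
    set C := centralizer ({a} : Set G) with hC
    have hQ' := card_qpart_inf_centralizer hAK (hcop K le_rfl) hQK hQA hQc ha
    have hX' := card_qpart_inf_centralizer hAX (hcop X hX) inf_le_right
      (le_normalizer_inf hQA hAX) hXc ha
    have hY' := card_qpart_inf_centralizer hAY (hcop Y hY) inf_le_right
      (le_normalizer_inf hQA hAY) hYc ha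
    have hprod := LocalEvenB.card_mul_set_eq (X ⊓ C) (Y ⊓ C)
    rw [← hfac a ha ha1] at hprod
    have hf := congrArg (fun n => n.factorization r) hprod
    simp only [Nat.card_coe_set_eq] at hf
    rw [← Nat.card_coe_set_eq, show Nat.card ((K ⊓ C : Subgroup G) : Set G) = Nat.card ↥(K ⊓ C) from rfl,
      Nat.factorization_mul Nat.card_pos.ne' Nat.card_pos.ne',
      Nat.factorization_mul Nat.card_pos.ne' Nat.card_pos.ne', Finsupp.add_apply,
      Finsupp.add_apply] at hf
    have hi : Nat.card ↥((Q ⊓ X ⊓ C) ⊓ (Q ⊓ Y ⊓ C)) ≤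
        r ^ (Nat.card ↥((X ⊓ C) ⊓ (Y ⊓ C))).factorization r :=
      Nat.le_of_dvd (Nat.pow_pos hr.pos) (le_qpart_card
        (hQp.to_le (inf_le_left.trans (inf_le_left.trans inf_le_left)))
        (inf_le_inf (inf_le_inf_right _ inf_le_right) (inf_le_inf_right _ inf_le_right)))
    have hp2 := LocalEvenB.card_mul_set_eq (Q ⊓ X ⊓ C) (Q ⊓ Y ⊓ C)
    rw [hX', hY', ← pow_add, ← hf, pow_add, ← hQ'] at hp2
    have hle : Nat.card ↥(Q ⊓ C) ≤
        Nat.card (((Q ⊓ X ⊓ C : Subgroup G) : Set G) * ((Q ⊓ Y ⊓ C : Subgroup G) : Set G) : Set G) := by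
      refine Nat.le_of_mul_le_mul_right ?_
        (Nat.card_pos (α := ↥((Q ⊓ X ⊓ C) ⊓ (Q ⊓ Y ⊓ C))))
      rw [hp2]
      exact Nat.mul_le_mul_left _ hi
    have hs : ((Q ⊓ X ⊓ C : Subgroup G) : Set G) * ((Q ⊓ Y ⊓ C : Subgroup G) : Set G) ⊆
        ((Q ⊓ C : Subgroup G) : Set G) := by
      rintro _ ⟨u, hu, v, hv, rfl⟩
      exact mul_mem (show u ∈ Q ⊓ C from ⟨hu.1.1, hu.2⟩) (show v ∈ Q ⊓ C from ⟨hv.1.1, hv.2⟩)
    have heq := Set.eq_of_subset_of_ncard_le hs
      (by rw [← Nat.card_coe_set_eq, ← Nat.card_coe_set_eq]; exact hle) (Set.toFinite _)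
    intro z hz
    obtain ⟨u, hu, v, hv, huv⟩ := mem_coe_mul.mp (heq.ge hz)
    exact ⟨u, hu.1, v, hv.1, huv.symm⟩
  have hcov := mem_mul_of_fixed_points hQp.isNilpotent hA hA2 (not_dvd_of_le hK hQK) hQA
    inf_le_left inf_le_left hfixQ
  have hQmul : ((Q ⊓ X : Subgroup G) : Set G) * ((Q ⊓ Y : Subgroup G) : Set G) = (Q : Set G) := by
    refine Set.Subset.antisymm ?_ ?_
    · rintro _ ⟨u, hu, v, hv, rfl⟩
      exact mul_mem hu.1 hv.1
    · intro z hz
      obtain ⟨u, hu, v, hv, rfl⟩ := hcov z hz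
      exact ⟨u, hu, v, hv, rfl⟩
  have hp3 := LocalEvenB.card_mul_set_eq (Q ⊓ X) (Q ⊓ Y)
  rw [hQmul, show Nat.card (Q : Set G) = Nat.card Q from rfl, hQc, hXc, hYc, ← pow_add] at hp3
  have hDle : r ^ (Nat.card ↥(X ⊓ Y)).factorization r ≤ Nat.card ↥((Q ⊓ X) ⊓ (Q ⊓ Y)) := by
    rw [← hDc]
    exact Nat.le_of_dvd Nat.card_pos (card_dvd_of_le (le_inf
      (le_inf (hDY.trans hYQ) (hDXY.trans inf_le_left))
      (le_inf (hDY.trans hYQ) (hDXY.trans inf_le_right))))
  have hfin : r ^ ((Nat.card K).factorization r + (Nat.card ↥(X ⊓ Y)).factorization r) ≤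
      r ^ ((Nat.card X).factorization r + (Nat.card Y).factorization r) := by
    rw [← hp3, pow_add]
    exact Nat.mul_le_mul_left _ hDle
  exact (Nat.pow_le_pow_iff_right hr.one_lt).mp hfin

end CfsgLib.Signalizer
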