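import Cfsg.Agent.Lib.Transfer.RankTwo
import Cfsg.Agent.Lib.Signalizer.Basic
import Cfsg.Agent.Lib.PGroups.Omega

/-!
Owner: helper11. A normal elementary abelian subgroup of order `p²` in a `p`-group of rank at
least three, and its centralizer.
-/

set_option autoImplicit false

namespace CfsgLib.Signalizer

open Subgroup
open scoped commutatorElement

variable {G : Type*} [Group G] [Finite G] {p : ℕ} [hp : Fact p.Prime]

theorem isElementary_sup {A B : Subgroup G} (hA : Cfsg.IsElementaryAbelian p A)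
    (hB : Cfsg.IsElementaryAbelian p B) (h : ∀ a ∈ A, ∀ b ∈ B, a * b = b * a) :
    Cfsg.IsElementaryAbelian p (A ⊔ B : Subgroup G) := by
  have hAA : A ≤ centralizer ((A ⊔ B : Subgroup G) : Set G) := le_centralizer_iff.mpr
    (sup_le (fun x hx => mem_centralizer_iff.mpr fun a ha => elementary_comm hA ha hx)
      (fun x hx => mem_centralizer_iff.mpr fun a ha => h a ha x hx))
  have hBB : B ≤ centralizer ((A ⊔ B : Subgroup G) : Set G) := le_centralizer_iff.mpr
    (sup_le (fun x hx => mem_centralizer_iff.mpr fun b hb => (h x hx b hb).symm)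
      (fun x hx => mem_centralizer_iff.mpr fun b hb => elementary_comm hB hb hx))
  refine ⟨(le_centralizer_iff_isMulCommutative (K := A ⊔ B)).mp (sup_le hAA hBB), fun x hx => ?_⟩
  obtain ⟨a, ha, b, hb, rfl⟩ := (Core.mem_sup_iff_mul' (H := B) (N := A)
    (le_trans (fun x hx => mem_centralizer_iff.mpr fun a ha => h a ha x hx)
      (centralizer_le_normalizer _))).mp (by rwa [sup_comm] at hx)
  rw [(show Commute a b from h a ha b hb).mul_pow, hA.2 a ha, hB.2 b hb, one_mul]

/-- In a `p`-group the centralizer of a normal abelian subgroup of order at most `p²` has index at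
most `p`. -/
theorem centralizer_index_le (hG : IsPGroup p G) {A : Subgroup G} [A.Normal]
    (hc : Nat.card A ≤ p ^ 2) :
    (centralizer (A : Set G)).index ≤ p := by
  have hG' := hG.isNilpotent
  set D := ⁅(⊤ : Subgroup G), A⁆
  have hDA : D ≤ A := commutator_le_right ⊤ A
  have hcases : ∀ B : Subgroup G, B ≤ A → Nat.card B < p ^ 2 → Nat.card B ≤ p := by
    intro B _ hB
    obtain ⟨m, hm⟩ := (hG.to_subgroup B).exists_card_eq
    rw [hm] at hB ⊢
    calc p ^ m ≤ p ^ 1 := Nat.pow_le_pow_right hp.out.pos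
          (Nat.lt_succ_iff.mp ((Nat.pow_lt_pow_iff_right hp.out.one_lt).mp hB))
      _ = p := pow_one p
  have hcentral : ∀ B : Subgroup G, B.Normal → Nat.card B ≤ p → B ≤ center G := by
    intro B hBn hB
    obtain ⟨m, hm⟩ := (hG.to_subgroup B).exists_card_eq
    rcases Nat.eq_zero_or_pos m with rfl | hm0
    · rw [pow_zero] at hm; rw [card_eq_one.mp hm]; exact bot_le
    · exact PGroups.le_center_of_card_prime hG (N := B)
        (le_antisymm hB (hm ▸ Nat.le_self_pow hm0.ne' p))
  rcases lt_or_eq_of_le hc with hlt | hcard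
  · have : centralizer (A : Set G) = ⊤ := eq_top_iff.mpr fun g _ => mem_centralizer_iff.mpr fun a ha =>
      (mem_center_iff.mp (hcentral A inferInstance (hcases A le_rfl hlt) ha) g).symm
    rw [this, index_top]; exact hp.out.one_le
  have hne : D ≠ A := by
    intro he
    have hmem : ∀ n, A ≤ (⊤ : Subgroup G).lowerCentralSeries n := by
      intro n
      induction n with
      | zero => simp
      | succ n ih =>
        rw [Subgroup.lowerCentralSeries_succ, commutator_comm]
        exact he.ge.trans (commutator_mono le_rfl ih)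
    obtain ⟨n, hn⟩ := Subgroup.nilpotent_iff_lowerCentralSeries.1 hG'
    have hb : A = ⊥ := le_bot_iff.mp (by rw [← hn]; exact hmem n)
    rw [hb, card_bot] at hcard
    exact (Nat.one_lt_pow (by norm_num) hp.out.one_lt).ne hcard
  have hDp : Nat.card D ≤ p := hcases D hDA (lt_of_not_ge fun h =>
    hne (eq_of_le_of_card_ge hDA (hcard.le.trans h)))
  have hDc : D ≤ center G := hcentral D inferInstance hDp
  obtain ⟨u, huA, huD⟩ : ∃ u ∈ A, u ∉ D := by
    by_contra hcon
    push Not at hcon
    exact hne (le_antisymm hDA hcon)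
  -- `A` is generated by `D` and `u`, or is central
  by_cases hD1 : D = ⊥
  · have : centralizer (A : Set G) = ⊤ := eq_top_iff.mpr fun g _ => mem_centralizer_iff.mpr fun a ha => by
      have h1 : ⁅g, a⁆ ∈ D := commutator_mem_commutator (mem_top g) ha
      rw [hD1, mem_bot, commutatorElement_eq_one_iff_mul_comm] at h1
      exact h1.symm
    rw [this, index_top]; exact hp.out.one_le
  have hgen : A ≤ D ⊔ zpowers u := by
    have hle : D ⊔ zpowers u ≤ A := sup_le hDA (zpowers_le.mpr huA)
    refine (eq_of_le_of_card_ge hle ?_).ge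
    by_contra hlt'
    have h2 := hcases _ hle (hcard ▸ not_le.mp hlt')
    have h3 : D = D ⊔ zpowers u := eq_of_le_of_card_ge le_sup_left (h2.trans (by
      obtain ⟨m, hm⟩ := (hG.to_subgroup D).exists_card_eq
      rcases Nat.eq_zero_or_pos m with rfl | hm0
      · exact absurd (card_eq_one.mp (by simpa using hm)) hD1
      · exact hm ▸ Nat.le_self_pow hm0.ne' p))
    exact huD (h3 ▸ mem_sup_right (mem_zpowers u))
  have hCu : centralizer ({u} : Set G) ≤ centralizer (A : Set G) := by
    intro g hg
    have hle : D ⊔ zpowers u ≤ centralizer ({g} : Set G) := sup_le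
      (fun d hd => mem_centralizer_singleton_iff.mpr (mem_center_iff.mp (hDc hd) g).symm)
      (zpowers_le.mpr (mem_centralizer_singleton_iff.mpr (mem_centralizer_singleton_iff.mp hg).symm))
    exact mem_centralizer_iff.mpr fun a ha => mem_centralizer_singleton_iff.mp (hle (hgen ha))
  refine (Nat.le_of_dvd (Nat.pos_of_ne_zero index_ne_zero_of_finite) (index_dvd_of_le hCu)).trans ?_
  refine le_trans ?_ hDp
  let f : G ⧸ centralizer ({u} : Set G) → D := fun q =>
    ⟨⁅q.out, u⁆, commutator_mem_commutator (mem_top _) huA⟩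
  refine Nat.card_le_card_of_injective f fun q r h => ?_
  have h' : ⁅q.out, u⁆ = ⁅r.out, u⁆ := congrArg Subtype.val h
  rw [← q.out_eq, ← r.out_eq]
  refine QuotientGroup.eq.mpr (mem_centralizer_singleton_iff.mpr ?_)
  rw [commutatorElement_def, commutatorElement_def] at h'
  have h2 : q.out * u * q.out⁻¹ = r.out * u * r.out⁻¹ := mul_right_cancel h'
  calc q.out⁻¹ * r.out * u = q.out⁻¹ * (r.out * u * r.out⁻¹) * r.out := by group
    _ = u * (q.out⁻¹ * r.out) := by rw [← h2]; group

/-- A `p`-group with an elementary abelian subgroup of order at least `p³` has a normal elementary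
abelian subgroup of order `p²`. -/
theorem exists_normal_square (hG : IsPGroup p G) {E : Subgroup G}
    (hE : Cfsg.IsElementaryAbelian p E) (hE3 : p ^ 3 ≤ Nat.card E) :
    ∃ U : Subgroup G, U.Normal ∧ Cfsg.IsElementaryAbelian p U ∧ Nat.card U = p ^ 2 := by
  classical
  obtain ⟨A, ⟨hAn, hAc, hAe⟩, hmax⟩ :=
    (Set.toFinite {A : Subgroup G | A.Normal ∧ IsMulCommutative A ∧ ∀ a ∈ A, a ^ p ^ 2 = 1}
      ).exists_maximalFor (fun A : Subgroup G => Nat.card A) _
      ⟨⊥, inferInstance, inferInstance, fun a ha => by simp [Subgroup.mem_bot.mp ha]⟩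
  have := hAc
  set Ω := Cfsg.omegaOne p A
  have hΩe : Cfsg.IsElementaryAbelian p Ω := PGroups.isElementaryAbelian_omegaOne
  by_cases hΩ : p ^ 2 ≤ Nat.card Ω
  · obtain ⟨B, hBn, hBA, hBc, -⟩ := Transfer.exists_normal_card hG Ω 2 hΩ
    exact ⟨B, hBn, elementary_of_le hΩe hBA, hBc⟩
  exfalso
  have hin : ∀ x ∈ centralizer (A : Set G), x ^ p = 1 → x ∈ Ω := fun x hx hxp => by
    refine PGroups.mem_omegaOne ?_ hxp
    refine Transfer.mem_of_maximal_normal_exponent hG 2 ?_ A hAc hAe
      (fun B h1 h2 h3 hle => (eq_of_le_of_card_ge hle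
        ((le_total _ _).elim id fun h => hmax ⟨h1, h2, h3⟩ h)).symm) x hx ?_
    · intro h
      have : p ^ 2 ≥ 2 ^ 2 := Nat.pow_le_pow_left hp.out.two_le 2
      omega
    · rw [sq, pow_mul, hxp, one_pow]
  -- `E` acts on the cyclic group `A`; the kernel is small
  have hΩc : Nat.card Ω ≤ p := by
    obtain ⟨m, hm⟩ := (hG.to_subgroup Ω).exists_card_eq
    rw [hm] at hΩ ⊢
    have : m < 2 := by
      by_contra hc
      exact hΩ (Nat.pow_le_pow_right hp.out.pos (not_lt.mp hc))
    calc p ^ m ≤ p ^ 1 := Nat.pow_le_pow_right hp.out.pos (by omega)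
      _ = p := pow_one p
  have hA2 : Nat.card A ≤ p ^ 2 := by
    let φ : A →* A := MonoidHom.mk' (fun a => a ^ p)
      (fun a b => (show Commute a b from hAc.is_comm.comm a b).mul_pow p)
    have hker : φ.ker.map A.subtype ≤ Ω := by
      rintro _ ⟨a, ha, rfl⟩
      exact PGroups.mem_omegaOne a.2 (congrArg Subtype.val ha)
    have hran : φ.range.map A.subtype ≤ Ω := by
      rintro _ ⟨_, ⟨a, rfl⟩, rfl⟩
      refine PGroups.mem_omegaOne (a ^ p).2 ?_
      show ((a : G) ^ p) ^ p = 1
      rw [← pow_mul, ← pow_two]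
      exact hAe a a.2
    calc Nat.card A = φ.ker.index * Nat.card φ.ker := (index_mul_card _).symm
      _ = Nat.card φ.range * Nat.card φ.ker := by rw [index_ker]
      _ ≤ p * p := Nat.mul_le_mul
          (by rw [← card_map_of_injective A.subtype_injective]; exact (card_le_of_le hran).trans hΩc)
          (by rw [← card_map_of_injective A.subtype_injective]; exact (card_le_of_le hker).trans hΩc)
      _ = p ^ 2 := (sq p).symm
  have h1 : (centralizer (A : Set G)).relIndex E ≤ p := by
    refine le_trans ?_ (centralizer_index_le hG hA2)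
    rw [← relIndex_top_right]
    exact relIndex_le_of_le_right le_top index_ne_zero_of_finite
  have h2 : Nat.card ↥(centralizer (A : Set G) ⊓ E) ≤ p :=
    (card_le_of_le fun x (hx : x ∈ centralizer (A : Set G) ⊓ E) => hin x hx.1 (hE.2 x hx.2)).trans hΩc
  have h3 := relIndex_mul_relIndex ⊥ (centralizer (A : Set G) ⊓ E) E bot_le inf_le_right
  rw [relIndex_bot_left, relIndex_bot_left, inf_relIndex_right] at h3
  have h4 : Nat.card E ≤ p * p := h3.ge.trans (Nat.mul_le_mul h2 h1)
  have h5 : p ^ 2 < p ^ 3 := Nat.pow_lt_pow_right hp.out.one_lt (by norm_num)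
  rw [sq] at h5
  omega

/-- The trace of an elementary subgroup of order `≥ p³` on the centralizer of `U`. -/
theorem square_le_inf_centralizer (hG : IsPGroup p G) {U E : Subgroup G} [U.Normal]
    (hUc : Nat.card U = p ^ 2) (hE3 : p ^ 3 ≤ Nat.card E) :
    p ^ 2 ≤ Nat.card ↥(centralizer (U : Set G) ⊓ E) := by
  have h1 : (centralizer (U : Set G)).relIndex E ≤ p := by
    refine le_trans ?_ (centralizer_index_le hG hUc.le)
    rw [← relIndex_top_right]
    exact relIndex_le_of_le_right le_top index_ne_zero_of_finite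
  have h3 := relIndex_mul_relIndex ⊥ (centralizer (U : Set G) ⊓ E) E bot_le inf_le_right
  rw [relIndex_bot_left, relIndex_bot_left, inf_relIndex_right] at h3
  refine Nat.le_of_mul_le_mul_right ?_ hp.out.pos
  calc p ^ 2 * p = p ^ 3 := (pow_succ p 2).symm
    _ ≤ Nat.card E := hE3
    _ = _ := h3.symm
    _ ≤ Nat.card ↥(centralizer (U : Set G) ⊓ E) * p := Nat.mul_le_mul_left _ h1

/-- Two commuting elementary subgroups, the second not inside the first, give a larger one. -/
theorem sup_gt {X Y : Subgroup G} (hX : Cfsg.IsElementaryAbelian p X)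
    (hY : Cfsg.IsElementaryAbelian p Y) (h : ∀ a ∈ X, ∀ b ∈ Y, a * b = b * a) (hne : ¬ Y ≤ X)
    {m : ℕ} (hm : p ^ m ≤ Nat.card X) : p ^ (m + 1) ≤ Nat.card ↥(X ⊔ Y) := by
  have hp' := elementary_isPGroup (isElementary_sup hX hY h)
  obtain ⟨k, hk⟩ := hp'.exists_card_eq
  have hlt : Nat.card X < Nat.card ↥(X ⊔ Y) := lt_of_not_ge fun hle =>
    hne (le_sup_right.trans (eq_of_le_of_card_ge le_sup_left hle).ge)
  rw [hk] at hlt ⊢
  exact Nat.pow_le_pow_right hp.out.pos ((Nat.pow_lt_pow_iff_right hp.out.one_lt).mp (hm.trans_lt hlt))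

end CfsgLib.Signalizer
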